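import Groth.Agent.Lib.H2Alg.PSHom
import Groth.Agent.Lib.AdicSmooth.PowerSeries
import Groth.Agent.Lib.Compl.Complete
import Groth.Agent.Lib.Compl.Noetherian
import Mathlib

/-!
The completed tensor product of a complete local algebra, finite over power series, with a field extension.
-/

set_option autoImplicit false
set_option linter.style.haveILetI false
set_option linter.unusedSectionVars false

universe u

open IsLocalRing TensorProduct

namespace Groth.Agent.CKaehlerFree3

attribute [local instance] Algebra.TensorProduct.rightAlgebra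

variable (k A k' : Type u) [Field k] [Field k'] [Algebra k k'] [CommRing A] [IsLocalRing A] [Algebra k A]

/-- The extended maximal ideal. -/
abbrev cI : Ideal (A ⊗[k] k') := (maximalIdeal A).map (Algebra.TensorProduct.includeLeft : A →ₐ[k] A ⊗[k] k')

/-- The completed tensor product. -/
abbrev CT : Type u := AdicCompletion (cI k A k') (A ⊗[k] k')

variable (d : ℕ) [Algebra (MvPowerSeries (Fin d) k) A] [IsScalarTower k (MvPowerSeries (Fin d) k) A]

/-- `k'[[X]] ⊗ A`. -/
abbrev BT : Type u := MvPowerSeries (Fin d) k' ⊗[MvPowerSeries (Fin d) k] A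

theorem isScalarTower_ps : IsScalarTower k (MvPowerSeries (Fin d) k) (MvPowerSeries (Fin d) k') :=
  IsScalarTower.of_algebraMap_eq fun a => by
    change _ = MvPowerSeries.map (algebraMap k k') (algebraMap k (MvPowerSeries (Fin d) k) a)
    rw [MvPowerSeries.algebraMap_apply, MvPowerSeries.algebraMap_apply, Algebra.algebraMap_self_apply,
      MvPowerSeries.map_C]

/-- `A → k'[[X]] ⊗ A`. -/
noncomputable abbrev incA : A →+* BT k A k' d := (Algebra.TensorProduct.includeRight :
  A →ₐ[MvPowerSeries (Fin d) k] BT k A k' d).toRingHom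

/-- `k' → k'[[X]] ⊗ A`. -/
noncomputable abbrev incK : k' →+* BT k A k' d :=
  (algebraMap (MvPowerSeries (Fin d) k') (BT k A k' d)).comp MvPowerSeries.C

theorem incA_algebraMap (r : MvPowerSeries (Fin d) k) :
    incA k A k' d (algebraMap (MvPowerSeries (Fin d) k) A r) =
      algebraMap (MvPowerSeries (Fin d) k') (BT k A k' d) (MvPowerSeries.map (algebraMap k k') r) := by
  change (1 : MvPowerSeries (Fin d) k') ⊗ₜ algebraMap (MvPowerSeries (Fin d) k) A r = MvPowerSeries.map (algebraMap k k') r ⊗ₜ 1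
  rw [Algebra.algebraMap_eq_smul_one, ← smul_tmul, Algebra.smul_def, mul_one]
  rfl

/-- `A ⊗ k' → k'[[X]] ⊗ A`. -/
noncomputable def thetaT : A ⊗[k] k' →ₐ[k] BT k A k' d :=
  Algebra.TensorProduct.lift
    { toRingHom := incA k A k' d
      commutes' := fun a => by
        change incA k A k' d (algebraMap k A a) = _
        rw [IsScalarTower.algebraMap_apply k (MvPowerSeries (Fin d) k) A, incA_algebraMap,
          MvPowerSeries.algebraMap_apply, Algebra.algebraMap_self_apply, MvPowerSeries.map_C,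
          IsScalarTower.algebraMap_apply k (MvPowerSeries (Fin d) k') (BT k A k' d),
          MvPowerSeries.algebraMap_apply (R := k)] }
    { toRingHom := incK k A k' d
      commutes' := fun a => by
        rw [IsScalarTower.algebraMap_apply k (MvPowerSeries (Fin d) k') (BT k A k' d),
          MvPowerSeries.algebraMap_apply]
        rfl }
    fun _ _ => Commute.all _ _

theorem thetaT_tmul (a : A) (c : k') :
    thetaT k A k' d (a ⊗ₜ c) = incA k A k' d a * incK k A k' d c := rfl

theorem thetaT_comp_left :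
    (thetaT k A k' d).toRingHom.comp (Algebra.TensorProduct.includeLeft : A →ₐ[k] A ⊗[k] k').toRingHom =
      incA k A k' d :=
  RingHom.ext fun a => by
    change thetaT k A k' d (a ⊗ₜ 1) = _
    rw [thetaT_tmul, map_one, mul_one]

/-- The ideal of `𝔪` in `k'[[X]] ⊗ A`. -/
noncomputable abbrev cJ : Ideal (BT k A k' d) := (maximalIdeal A).map (incA k A k' d)

theorem map_cI : (cI k A k').map (thetaT k A k' d).toRingHom = cJ k A k' d := by
  rw [cJ, ← thetaT_comp_left k A k' d]
  exact Ideal.map_map _ _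

variable [IsLocalHom (algebraMap (MvPowerSeries (Fin d) k) A)]

theorem X_mem_maximalIdeal (i : Fin d) :
    algebraMap (MvPowerSeries (Fin d) k) A (MvPowerSeries.X i) ∈ maximalIdeal A :=
  Ideal.map_le_iff_le_comap.1 (((local_hom_TFAE (algebraMap (MvPowerSeries (Fin d) k) A)).out 0 2 :).1 ‹_›)
    (H2Alg.PSHom.maximalIdeal_eq k d ▸ H2Alg.PSHom.X_mem i)

theorem incA_X (i : Fin d) :
    incA k A k' d (algebraMap (MvPowerSeries (Fin d) k) A (MvPowerSeries.X i)) =
      algebraMap (MvPowerSeries (Fin d) k') (BT k A k' d) (MvPowerSeries.X i) := by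
  rw [incA_algebraMap, MvPowerSeries.map_X]

theorem map_V_le_cJ :
    (H2Alg.PSHom.V d k').map (algebraMap (MvPowerSeries (Fin d) k') (BT k A k' d)) ≤ cJ k A k' d := by
  rw [H2Alg.PSHom.V, Ideal.map_span, Ideal.span_le]
  rintro _ ⟨_, ⟨i, rfl⟩, rfl⟩
  rw [← incA_X]
  exact Ideal.mem_map_of_mem _ (X_mem_maximalIdeal k A d i)

theorem algebraMap_mem_range (s : MvPolynomial (Fin d) k') :
    algebraMap (MvPowerSeries (Fin d) k') (BT k A k' d) (s : MvPowerSeries (Fin d) k') ∈
      (thetaT k A k' d).toRingHom.range := by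
  induction s using MvPolynomial.induction_on with
  | C c =>
    refine ⟨1 ⊗ₜ c, ?_⟩
    change thetaT k A k' d (1 ⊗ₜ c) = _
    rw [thetaT_tmul, map_one, one_mul, MvPolynomial.coe_C]
    rfl
  | add a b ha hb => rw [MvPolynomial.coe_add, map_add]; exact add_mem ha hb
  | mul_X a i ha =>
    rw [MvPolynomial.coe_mul, map_mul, MvPolynomial.coe_X, ← incA_X]
    refine mul_mem ha ⟨algebraMap (MvPowerSeries (Fin d) k) A (MvPowerSeries.X i) ⊗ₜ 1, ?_⟩
    change thetaT k A k' d (_ ⊗ₜ 1) = _
    rw [thetaT_tmul, map_one, mul_one]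

theorem exists_thetaT_sub_mem (j : ℕ) (b : BT k A k' d) :
    ∃ z, b - thetaT k A k' d z ∈ cJ k A k' d ^ j := by
  induction b using TensorProduct.induction_on with
  | zero => exact ⟨0, by simp⟩
  | add a b ha hb =>
    obtain ⟨z, hz⟩ := ha
    obtain ⟨w, hw⟩ := hb
    exact ⟨z + w, by rw [map_add, add_sub_add_comm]; exact add_mem hz hw⟩
  | tmul s a =>
    obtain ⟨z, hz⟩ := algebraMap_mem_range k A k' d (MvPowerSeries.truncTotal j s)
    refine ⟨z * (a ⊗ₜ 1), ?_⟩
    have hs : s - (MvPowerSeries.truncTotal j s : MvPowerSeries (Fin d) k') ∈ H2Alg.PSHom.V d k' ^ j :=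
      H2Alg.PSHom.mem_pow fun e he => by
        rw [map_sub, MvPolynomial.coeff_coe, MvPowerSeries.coeff_truncTotal _ he, sub_self]
    have e1 : s ⊗ₜ[MvPowerSeries (Fin d) k] a =
        algebraMap (MvPowerSeries (Fin d) k') (BT k A k' d) s * incA k A k' d a := by
      change s ⊗ₜ a = (s ⊗ₜ 1) * (1 ⊗ₜ a)
      rw [Algebra.TensorProduct.tmul_mul_tmul, mul_one, one_mul]
    have hz' : thetaT k A k' d z = algebraMap (MvPowerSeries (Fin d) k') (BT k A k' d)
        (MvPowerSeries.truncTotal j s : MvPowerSeries (Fin d) k') := hz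
    rw [e1, map_mul, hz', thetaT_tmul, map_one, mul_one, ← sub_mul, ← map_sub]
    refine Ideal.mul_mem_right _ _ (Ideal.pow_right_mono (map_V_le_cJ k A k' d) j ?_)
    rw [← Ideal.map_pow]
    exact Ideal.mem_map_of_mem _ hs

theorem mem_of_thetaT_mem (j : ℕ) (z : A ⊗[k] k') (hz : thetaT k A k' d z ∈ cJ k A k' d ^ j) :
    z ∈ cI k A k' ^ j := by
  let Q := (A ⊗[k] k') ⧸ cI k A k' ^ j
  let π := Ideal.Quotient.mk (cI k A k' ^ j)
  let inl : A →+* A ⊗[k] k' := (Algebra.TensorProduct.includeLeft : A →ₐ[k] A ⊗[k] k').toRingHom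
  haveI : IsScalarTower k k' (A ⊗[k] k') := IsScalarTower.of_algebraMap_eq fun a =>
    ((Algebra.TensorProduct.includeRight : k' →ₐ[k] A ⊗[k] k').commutes a).symm
  let K : Ideal Q := (cI k A k').map π
  have hK : K ^ j = ⊥ := (Ideal.map_pow π (cI k A k') j).symm.trans (Ideal.map_quotient_self (cI k A k' ^ j))
  haveI : IsHausdorff K Q := ⟨fun x hx => by
    have h := hx j
    rw [hK, Submodule.bot_smul, SModEq.bot] at h
    exact h⟩
  have hXK : ∀ i, π (inl (algebraMap (MvPowerSeries (Fin d) k) A (MvPowerSeries.X i))) ∈ K := fun i =>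
    Ideal.mem_map_of_mem _ (Ideal.mem_map_of_mem _ (X_mem_maximalIdeal k A d i))
  obtain ⟨g, hg, -⟩ := AdicSmooth.exists_algHom_of_isNilpotent (A := k')
    (fun i => π (inl (algebraMap (MvPowerSeries (Fin d) k) A (MvPowerSeries.X i)))) fun i => by
      refine ⟨j, ?_⟩
      rw [← Ideal.mem_bot, ← hK]
      exact Ideal.pow_mem_pow (hXK i) j
  haveI := isScalarTower_ps k k' d
  let m : MvPowerSeries (Fin d) k →ₐ[k] MvPowerSeries (Fin d) k' :=
    IsScalarTower.toAlgHom k (MvPowerSeries (Fin d) k) (MvPowerSeries (Fin d) k')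
  have hcomp : (g.restrictScalars k).comp m = IsScalarTower.toAlgHom k (MvPowerSeries (Fin d) k) Q := by
    refine H2Alg.PSHom.algHom_ext K (fun i => ?_) fun i => ?_
    · change g (MvPowerSeries.map (algebraMap k k') (MvPowerSeries.X i)) ∈ K
      rw [MvPowerSeries.map_X, hg]
      exact hXK i
    · change g (MvPowerSeries.map (algebraMap k k') (MvPowerSeries.X i)) = _
      rw [MvPowerSeries.map_X, hg]
      rfl
  let gR : MvPowerSeries (Fin d) k' →ₐ[MvPowerSeries (Fin d) k] Q :=
    { toRingHom := g.toRingHom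
      commutes' := fun r => AlgHom.congr_fun hcomp r }
  let hA : A →ₐ[MvPowerSeries (Fin d) k] Q :=
    { toRingHom := π.comp inl
      commutes' := fun r => rfl }
  let Φ : BT k A k' d →ₐ[MvPowerSeries (Fin d) k] Q :=
    Algebra.TensorProduct.lift gR hA fun _ _ => Commute.all _ _
  have hΦA : ∀ a, Φ (incA k A k' d a) = π (inl a) := fun a => by
    change Φ (1 ⊗ₜ a) = _
    rw [Algebra.TensorProduct.lift_tmul, map_one, one_mul]
    rfl
  have hΦ : ∀ w, Φ (thetaT k A k' d w) = π w := fun w => by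
    induction w using TensorProduct.induction_on with
    | zero => simp
    | add a b ha hb => simp only [map_add, ha, hb]
    | tmul a c =>
      rw [thetaT_tmul, map_mul, hΦA]
      change π (inl a) * Φ (MvPowerSeries.C c ⊗ₜ 1) = _
      rw [Algebra.TensorProduct.lift_tmul, map_one, mul_one]
      change π (inl a) * g (MvPowerSeries.C c) = _
      rw [show (MvPowerSeries.C c : MvPowerSeries (Fin d) k') = algebraMap k' _ c from by
        rw [MvPowerSeries.algebraMap_apply, Algebra.algebraMap_self_apply], g.commutes]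
      change π (a ⊗ₜ 1) * π (1 ⊗ₜ c) = _
      rw [← map_mul, Algebra.TensorProduct.tmul_mul_tmul, mul_one, one_mul]
  have h1 : (cJ k A k' d).map Φ.toRingHom ≤ K := by
    rw [cJ, Ideal.map_map, Ideal.map_le_iff_le_comap]
    intro a ha
    change Φ (incA k A k' d a) ∈ K
    rw [hΦA]
    exact Ideal.mem_map_of_mem _ (Ideal.mem_map_of_mem _ ha)
  have h2 := Ideal.mem_map_of_mem Φ.toRingHom hz
  rw [Ideal.map_pow] at h2
  have h3 := Ideal.pow_right_mono h1 j h2
  rw [hK, Ideal.mem_bot] at h3
  have h4 : π z = 0 := (hΦ z).symm.trans h3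
  exact Ideal.Quotient.eq_zero_iff_mem.1 h4

variable [IsNoetherianRing A] [Module.Finite (MvPowerSeries (Fin d) k) A]

theorem isNoetherianRing_BT : IsNoetherianRing (BT k A k' d) := by
  haveI : Module.Finite (MvPowerSeries (Fin d) k') (BT k A k' d) := inferInstance
  exact IsNoetherianRing.of_finite (MvPowerSeries (Fin d) k') _

theorem isAdicComplete_BT : IsAdicComplete (cJ k A k' d) (BT k A k' d) := by
  haveI := isNoetherianRing_BT k A k' d
  haveI : IsAdicComplete (H2Alg.PSHom.V d k') (MvPowerSeries (Fin d) k') :=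
    { H2Alg.PSHom.isHausdorff, H2Alg.PSHom.isPrecomplete with }
  haveI hB : IsAdicComplete (H2Alg.PSHom.V d k') (BT k A k' d) := Compl.isAdicComplete_of_finite _ _
  haveI : IsAdicComplete ((H2Alg.PSHom.V d k').map (algebraMap (MvPowerSeries (Fin d) k') (BT k A k' d)))
      (BT k A k' d) := (IsAdicComplete.map_algebraMap_iff _ _).2 hB
  obtain ⟨N, hN⟩ : ∃ N, maximalIdeal A ^ N ≤
      (maximalIdeal (MvPowerSeries (Fin d) k)).map (algebraMap (MvPowerSeries (Fin d) k) A) := by
    haveI : Module.Finite (MvPowerSeries (Fin d) k ⧸ maximalIdeal (MvPowerSeries (Fin d) k))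
        (A ⧸ (maximalIdeal (MvPowerSeries (Fin d) k)).map (algebraMap (MvPowerSeries (Fin d) k) A)) :=
      Module.Finite.of_restrictScalars_finite (MvPowerSeries (Fin d) k) _ _
    haveI : IsArtinianRing (MvPowerSeries (Fin d) k ⧸ maximalIdeal (MvPowerSeries (Fin d) k)) :=
      (inferInstance : IsArtinianRing (ResidueField (MvPowerSeries (Fin d) k)))
    haveI : IsArtinianRing (A ⧸ (maximalIdeal (MvPowerSeries (Fin d) k)).map
        (algebraMap (MvPowerSeries (Fin d) k) A)) :=
      isArtinian_of_tower (MvPowerSeries (Fin d) k ⧸ maximalIdeal (MvPowerSeries (Fin d) k)) inferInstance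
    exact IsLocalRing.exists_maximalIdeal_pow_le_of_isArtinianRing_quotient _
  refine Compl.isAdicComplete_of_le_of_pow_le _ (map_V_le_cJ k A k' d) (k := N) ?_
  rw [cJ, ← Ideal.map_pow]
  refine (Ideal.map_mono hN).trans ?_
  rw [Ideal.map_map, H2Alg.PSHom.maximalIdeal_eq, H2Alg.PSHom.V, Ideal.map_span, Ideal.span_le]
  rintro _ ⟨_, ⟨i, rfl⟩, rfl⟩
  change incA k A k' d (algebraMap (MvPowerSeries (Fin d) k) A (MvPowerSeries.X i)) ∈ _
  rw [incA_X]
  exact Ideal.mem_map_of_mem _ (H2Alg.PSHom.X_mem i)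

/-- The completed tensor product is `k'[[X]] ⊗ A`. -/
theorem exists_equiv : ∃ e : CT k A k' ≃+* BT k A k' d,
    ∀ z, e (algebraMap (A ⊗[k] k') (CT k A k') z) = thetaT k A k' d z := by
  haveI := isAdicComplete_BT k A k' d
  let I := cI k A k'
  let J := cJ k A k' d
  have hle : ∀ j, I ^ j ≤ (J ^ j).comap (thetaT k A k' d).toRingHom := fun j => by
    rw [← Ideal.map_le_iff_le_comap, Ideal.map_pow, map_cI]
  let f : ∀ j, CT k A k' →+* BT k A k' d ⧸ J ^ j := fun j =>
    (Ideal.quotientMap (J ^ j) (thetaT k A k' d).toRingHom (hle j)).comp (AdicCompletion.evalₐ I j).toRingHom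
  have hf : ∀ {m n : ℕ} (h : m ≤ n), (Ideal.Quotient.factorPow J h).comp (f n) = f m := by
    intro m n h
    refine RingHom.ext fun x => ?_
    obtain ⟨z, rfl⟩ := AdicCompletion.mk_surjective I (A ⊗[k] k') x
    simp only [f, RingHom.comp_apply, AlgHom.toRingHom_eq_coe, RingHom.coe_coe, AdicCompletion.evalₐ_mk,
      Ideal.quotientMap_mk, Ideal.Quotient.factor_mk]
    refine (Ideal.Quotient.eq).2 ?_
    rw [← map_sub]
    refine hle m ?_
    have h1 := z.property h
    rw [SModEq.sub_mem, smul_eq_mul, Ideal.mul_top] at h1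
    simpa using neg_mem h1
  let L := IsAdicComplete.liftRingHom J f hf
  have hL : ∀ j x, Ideal.Quotient.mk (J ^ j) (L x) = f j x := IsAdicComplete.mk_liftRingHom J f hf
  have hLmk : ∀ j (z : AdicCompletion.AdicCauchySequence I (A ⊗[k] k')),
      Ideal.Quotient.mk (J ^ j) (L (AdicCompletion.mk I _ z)) = Ideal.Quotient.mk (J ^ j) (thetaT k A k' d (z j)) :=
    fun j z => by
      rw [hL]
      simp only [f, RingHom.comp_apply, AlgHom.toRingHom_eq_coe, RingHom.coe_coe, AdicCompletion.evalₐ_mk,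
        Ideal.quotientMap_mk]
  have hhaus : ∀ b b' : BT k A k' d, (∀ j, Ideal.Quotient.mk (J ^ j) b = Ideal.Quotient.mk (J ^ j) b') → b = b' :=
    fun b b' h => sub_eq_zero.1 (IsHausdorff.haus (inferInstance : IsHausdorff J (BT k A k' d)) _ fun j => by
      rw [SModEq.zero, smul_eq_mul, Ideal.mul_top]
      exact Ideal.Quotient.eq.1 (h j))
  refine ⟨RingEquiv.ofBijective L ⟨(injective_iff_map_eq_zero L).2 fun x hx => ?_, fun b => ?_⟩, fun z => ?_⟩
  · obtain ⟨z, rfl⟩ := AdicCompletion.mk_surjective I (A ⊗[k] k') x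
    refine AdicCompletion.ext fun {j} => ?_
    change Submodule.Quotient.mk (z j) = 0
    rw [Submodule.Quotient.mk_eq_zero, smul_eq_mul, Ideal.mul_top]
    refine mem_of_thetaT_mem k A k' d j _ (Ideal.Quotient.eq_zero_iff_mem.1 ?_)
    rw [← hLmk, hx, map_zero]
  · choose z hz using fun j => exists_thetaT_sub_mem k A k' d j b
    refine ⟨AdicCompletion.mk I _ (AdicCompletion.AdicCauchySequence.mk I _ z fun j => ?_), hhaus _ _ fun j => ?_⟩
    · rw [SModEq.sub_mem, smul_eq_mul, Ideal.mul_top]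
      refine mem_of_thetaT_mem k A k' d j _ ?_
      have := sub_mem (Ideal.pow_le_pow_right (Nat.le_succ j) (hz (j + 1))) (hz j)
      simpa [map_sub] using this
    · rw [hLmk, Ideal.Quotient.eq]
      simpa using neg_mem (hz j)
  · refine hhaus _ _ fun j => ?_
    rw [RingEquiv.ofBijective_apply, hL]
    change Ideal.quotientMap _ _ (hle j) (AdicCompletion.evalₐ I j (AdicCompletion.of I _ z)) = _
    rw [AdicCompletion.evalₐ_of, Ideal.quotientMap_mk]
    rfl

end Groth.Agent.CKaehlerFree3
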