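import Groth.Agent.Lib.CKaehlerFree3.RegPrime
import Groth.Agent.S2036
import Groth.Agent.S4528

/-!
Generators of the completed differentials at a prime with geometrically regular local ring.
-/

set_option autoImplicit false
set_option linter.style.haveILetI false

universe u

open IsLocalRing TensorProduct KaehlerDifferential

namespace Groth.Agent.CKaehlerFree3

/-- The rank of the kernel of `mapBaseChange`. -/
noncomputable abbrev kerRank (R : Type) (k L : Type u) [CommRing R] [CommRing k] [Field L] [Algebra R k] [Algebra R L]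
    [Algebra k L] [IsScalarTower R k L] : ℕ :=
  Module.finrank L (LinearMap.ker (mapBaseChange R k L))

theorem kerRank_congr (R : Type) (k L : Type u) [CommRing R] [CommRing k] [Field L] [Algebra R k]
    [Algebra k L] (i i' : Algebra R L) (s : @IsScalarTower R k L _ _ i.toSMul)
    (s' : @IsScalarTower R k L _ _ i'.toSMul) (h : i = i') :
    @kerRank R k L _ _ _ _ i _ s = @kerRank R k L _ _ _ _ i' _ s' := by
  subst h
  rfl

variable {k A : Type u} [Field k] [CommRing A] [IsLocalRing A] [IsNoetherianRing A] [Algebra k A]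
  [IsAdicComplete (maximalIdeal A) A] [Module.Finite k (ResidueField A)]

/-- Power series in elements generating an `𝔪`-primary ideal map finitely. -/
theorem exists_finite_powerSeries {m : ℕ} (z : Fin m → A) (hz : ∀ i, z i ∈ maximalIdeal A) (N : ℕ)
    (hN : maximalIdeal A ^ N ≤ Ideal.span (Set.range z)) :
    ∃ ψ : MvPowerSeries (Fin m) k →ₐ[k] A, ψ.toRingHom.Finite ∧ IsLocalHom ψ.toRingHom ∧
      ∀ i, ψ (MvPowerSeries.X i) = z i := by
  obtain ⟨ψ, hψ⟩ := H2Alg.PSHom.exists_algHom (A := k) (maximalIdeal A) z hz
  have hmap : (maximalIdeal (MvPowerSeries (Fin m) k)).map ψ.toRingHom = Ideal.span (Set.range z) := by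
    rw [H2Alg.PSHom.maximalIdeal_eq, H2Alg.PSHom.V, Ideal.map_span, ← Set.range_comp]
    exact congrArg Ideal.span (congrArg Set.range (funext hψ))
  have hle : (maximalIdeal (MvPowerSeries (Fin m) k)).map ψ.toRingHom ≤ maximalIdeal A := by
    rw [hmap]; exact Ideal.span_le.2 (by rintro _ ⟨i, rfl⟩; exact hz i)
  refine ⟨ψ, finite_of_hom ψ.toRingHom ?_ hle N (hmap ▸ hN), ⟨fun a ha => by_contra fun hna => ?_⟩, hψ⟩
  · have h : ((residue A).comp (ψ.toRingHom.comp MvPowerSeries.C)) = algebraMap k (ResidueField A) :=
      RingHom.ext fun a => by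
        rw [RingHom.comp_apply, RingHom.comp_apply, IsScalarTower.algebraMap_apply k A,
          ResidueField.algebraMap_eq, ← ψ.commutes a, MvPowerSeries.algebraMap_apply,
          Algebra.algebraMap_self_apply]
        rfl
    rw [h, RingHom.finite_algebraMap]
    infer_instance
  · exact (mem_maximalIdeal _).1 (hle (Ideal.mem_map_of_mem ψ.toRingHom ((mem_maximalIdeal a).2 hna))) ha

/-- Finiteness of the differentials in characteristic `p`. -/
theorem finite_kaehler (p : ℕ) [Fact p.Prime] [CharP k p] (hk : (frobenius k p).Finite) :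
    Module.Finite A Ω[A⁄k] := by
  obtain ⟨m, hm⟩ := DepthLib.exists_supportDim_eq_natCast (R := A) (M := A)
  rw [Module.supportDim_self_eq_ringKrullDim] at hm
  obtain ⟨z, hz, ⟨N, hN⟩, -⟩ := CanElt.exists_sop A m hm
  obtain ⟨ψ, hψf, -, -⟩ := exists_finite_powerSeries (k := k) z hz N hN
  let R := MvPowerSeries (Fin m) k
  letI : Algebra R A := ψ.toRingHom.toAlgebra
  haveI : IsScalarTower k R A := IsScalarTower.of_algebraMap_eq fun a => (ψ.commutes a).symm
  haveI : Module.Finite R A := hψf
  classical
  haveI : Module.Finite R Ω[R⁄k] := ⟨⟨Finset.univ.image fun i => KaehlerDifferential.D k R (MvPowerSeries.X i), by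
    rw [Finset.coe_image, Finset.coe_univ, Set.image_univ, span_D_X_eq_top p hk m]⟩⟩
  haveI : Module.Finite A (A ⊗[R] Ω[R⁄k]) := inferInstance
  exact Module.Finite.of_exact (KaehlerDifferential.exact_mapBaseChange_map k R A)
    (KaehlerDifferential.map_surjective k R A)

variable (P : Ideal A) [P.IsPrime]

theorem finrank_le_charP (p : ℕ) [Fact p.Prime] [CharP k p] (hk : (frobenius k p).Finite)
    (hP : CAlg.IsGeometricallyRegular k (Localization.AtPrime P)) (h d : ℕ)
    (hh : Module.finrank (ResidueField (Localization.AtPrime P)) (CotangentSpace (Localization.AtPrime P)) = h)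
    (hd : ringKrullDim (A ⧸ P) = d) :
    Module.finrank P.ResidueField (P.ResidueField ⊗[A] AdicCompletion (maximalIdeal A) Ω[A⁄k]) ≤ h + d := by
  haveI := finite_kaehler (A := A) p hk
  haveI : IsAdicComplete (maximalIdeal A) Ω[A⁄k] := Compl.isAdicComplete_of_finite _ _
  haveI : Nontrivial (A ⧸ P) := Ideal.Quotient.nontrivial_iff.2 Ideal.IsPrime.ne_top'
  haveI : IsLocalRing (A ⧸ P) := IsLocalRing.of_surjective' _ Ideal.Quotient.mk_surjective
  haveI := isAdicComplete_quotient P
  haveI : Module.Finite k (ResidueField (A ⧸ P)) :=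
    haveI : IsLocalHom (Ideal.Quotient.mkₐ k P).toRingHom :=
      Function.Surjective.isLocalHom _ Ideal.Quotient.mk_surjective
    Module.Finite.of_surjective
      ({ toFun := ResidueField.map (Ideal.Quotient.mkₐ k P).toRingHom
         map_add' := map_add _
         map_smul' := fun c x => by
           obtain ⟨x, rfl⟩ := residue_surjective x
           rw [RingHom.id_apply, Algebra.smul_def, Algebra.smul_def, map_mul]
           congr 1 } :
        ResidueField A →ₗ[k] ResidueField (A ⧸ P)) fun y => by
      obtain ⟨y, rfl⟩ := residue_surjective y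
      obtain ⟨x, rfl⟩ := Ideal.Quotient.mk_surjective y
      exact ⟨residue A x, rfl⟩
  let L := Localization.AtPrime P
  haveI : IsScalarTower k (A ⧸ P) P.ResidueField := IsScalarTower.of_algebraMap_eq fun a => rfl
  obtain ⟨⟨hker, -⟩, hcount⟩ := kaehler_fraction_count k (A ⧸ P) P.ResidueField d hd
  obtain ⟨-, hΩ, hle⟩ := hcount p hk
  haveI : Module.Finite (ResidueField L) Ω[ResidueField L⁄k] := hΩ
  obtain ⟨hfin, hdim⟩ := finrank_tensor_kaehler_of_finite (k := k) (A := L) ((S2036.result p).1 hP)
  let e : P.ResidueField ⊗[A] AdicCompletion (maximalIdeal A) Ω[A⁄k] ≃ₗ[P.ResidueField]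
      ResidueField L ⊗[L] Ω[L⁄k] :=
    (TensorProduct.AlgebraTensorModule.congr (LinearEquiv.refl P.ResidueField P.ResidueField)
      (AdicCompletion.ofLinearEquiv (maximalIdeal A) Ω[A⁄k]).symm).trans
    ((TensorProduct.AlgebraTensorModule.cancelBaseChange A L P.ResidueField P.ResidueField Ω[A⁄k]).symm.trans
      (TensorProduct.AlgebraTensorModule.congr (LinearEquiv.refl P.ResidueField P.ResidueField)
        (KaehlerDifferential.tensorKaehlerEquivOfFormallyEtale k A L)))
  rw [e.finrank_eq]
  have h1 : Module.finrank (ResidueField L) Ω[ResidueField L⁄k] ≤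
      d + Module.finrank (ResidueField L) (LinearMap.ker (mapBaseChange ℤ k (ResidueField L))) := by
    convert hle using 2
    exact kerRank_congr ℤ k (ResidueField L) _ _ _ _ (Subsingleton.elim _ _)
  have e' : ∀ a b c h d : ℕ, a + b = c + h → c ≤ d + b → a ≤ h + d := by omega
  refine e' _ _ _ _ _ ?_ h1
  rw [← hh]
  convert hdim using 2
  exact kerRank_congr ℤ k (ResidueField L) _ _ _ _ (Subsingleton.elim _ _)

/-- The elements killed modulo `p` by the differential at `p`. -/
theorem span_charZero [CharZero k] [IsRegularLocalRing (Localization.AtPrime P)] (h d : ℕ)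
    (hh : ringKrullDim (Localization.AtPrime P) = h) (hd : ringKrullDim (A ⧸ P) = d) :
    Module.finrank P.ResidueField (P.ResidueField ⊗[A] AdicCompletion (maximalIdeal A) Ω[A⁄k]) ≤ h + d := by
  classical
  haveI hfinM : Module.Finite A (AdicCompletion (maximalIdeal A) Ω[A⁄k]) := S4528.result
  haveI : Nontrivial (A ⧸ P) := Ideal.Quotient.nontrivial_iff.2 Ideal.IsPrime.ne_top'
  haveI : IsLocalRing (A ⧸ P) := IsLocalRing.of_surjective' _ Ideal.Quotient.mk_surjective
  obtain ⟨y, hy, ⟨N, hN⟩, -⟩ := CanElt.exists_sop (A ⧸ P) d hd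
  choose y' hy' using fun i => Ideal.Quotient.mk_surjective (y i)
  obtain ⟨s, x, hx⟩ := Submodule.fg_iff_exists_fin_generating_family.1 (IsNoetherian.noetherian P)
  let z : Fin (d + s) → A := Fin.append y' x
  have hyP : ∀ i, y' i ∈ maximalIdeal A := fun i => by
    have h1 := hy i
    rw [← hy' i] at h1
    by_contra hu
    rw [mem_maximalIdeal, mem_nonunits_iff, not_not] at hu
    exact (mem_maximalIdeal _).1 h1 (hu.map (Ideal.Quotient.mk P))
  have hxP : ∀ j, x j ∈ P := fun j => hx ▸ Submodule.subset_span ⟨j, rfl⟩
  have hz : ∀ i, z i ∈ maximalIdeal A := fun i => by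
    refine Fin.addCases (fun i => ?_) (fun i => ?_) i
    · simp only [z, Fin.append_left]; exact hyP i
    · simp only [z, Fin.append_right]; exact le_maximalIdeal Ideal.IsPrime.ne_top' (hxP i)
  have hspanz : P ≤ Ideal.span (Set.range z) := by
    rw [← hx]
    refine Submodule.span_mono ?_
    rintro _ ⟨j, rfl⟩
    exact ⟨Fin.natAdd d j, by simp only [z, Fin.append_right]⟩
  have hNz : maximalIdeal A ^ N ≤ Ideal.span (Set.range z) := by
    intro a ha
    have h1 : Ideal.Quotient.mk P a ∈ (Ideal.span (Set.range y')).map (Ideal.Quotient.mk P) := by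
      rw [Ideal.map_span, ← Set.range_comp, show (Ideal.Quotient.mk P) ∘ y' = y from funext hy']
      refine hN ?_
      rw [← IsLocalRing.map_maximalIdeal_of_surjective _ Ideal.Quotient.mk_surjective, ← Ideal.map_pow]
      exact Ideal.mem_map_of_mem _ ha
    rw [← Ideal.mem_comap, Ideal.comap_map_of_surjective _ Ideal.Quotient.mk_surjective, ← RingHom.ker_eq_comap_bot,
      Ideal.mk_ker] at h1
    refine sup_le (Ideal.span_le.2 ?_) hspanz h1
    rintro _ ⟨i, rfl⟩
    exact Ideal.subset_span ⟨Fin.castAdd s i, by simp only [z, Fin.append_left]⟩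
  obtain ⟨ψ, hψf, hψl, hψ⟩ := exists_finite_powerSeries (k := k) z hz N hNz
  let R := MvPowerSeries (Fin (d + s)) k
  letI : Algebra R A := ψ.toRingHom.toAlgebra
  haveI : IsScalarTower k R A := IsScalarTower.of_algebraMap_eq fun a => (ψ.commutes a).symm
  haveI : Module.Finite R A := hψf
  haveI : IsLocalHom (algebraMap R A) := hψl
  haveI : Module.Finite A Ω[A⁄R] := inferInstance
  -- unramified at `P`
  have hunr : Algebra.IsUnramifiedAt R P := by
    let L := P.ResidueField
    let p₀ : Ideal R := P.comap (algebraMap R A)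
    letI : Algebra p₀.ResidueField L := (Ideal.ResidueField.map p₀ P (algebraMap R A) rfl).toAlgebra
    haveI : IsScalarTower R p₀.ResidueField L := IsScalarTower.of_algebraMap_eq fun a =>
      (IsScalarTower.algebraMap_apply R A L a).trans
        (Ideal.ResidueField.map_algebraMap p₀ P (algebraMap R A) rfl a).symm
    haveI : CharZero p₀.ResidueField :=
      charZero_of_injective_algebraMap (algebraMap k p₀.ResidueField).injective
    haveI : Algebra.EssFiniteType R L := Algebra.EssFiniteType.comp R A L
    haveI : Algebra.EssFiniteType p₀.ResidueField L := Algebra.EssFiniteType.of_comp R p₀.ResidueField L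
    haveI : Algebra.IsAlgebraic p₀.ResidueField L := ⟨fun w => by
      have hint : ∀ a : A ⧸ P, IsIntegral p₀.ResidueField (algebraMap (A ⧸ P) L a) := fun a => by
        obtain ⟨a, rfl⟩ := Ideal.Quotient.mk_surjective a
        exact ((Algebra.IsIntegral.isIntegral (R := R) a).map (IsScalarTower.toAlgHom R A L)).tower_top
      obtain ⟨a, b, _, rfl⟩ := IsFractionRing.div_surjective (A ⧸ P) w
      rw [div_eq_mul_inv]
      exact (hint a).isAlgebraic.mul (hint b).isAlgebraic.inv⟩
    haveI : Algebra.IsSeparable p₀.ResidueField L := inferInstance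
    haveI : Algebra.FormallyUnramified R p₀.ResidueField :=
      haveI : Algebra.FormallyUnramified R (Localization.AtPrime p₀) :=
        Algebra.FormallyUnramified.of_isLocalization p₀.primeCompl
      Algebra.FormallyUnramified.comp R (Localization.AtPrime p₀) _
    haveI : Algebra.FormallyUnramified p₀.ResidueField L := Algebra.FormallyUnramified.of_isSeparable _ _
    haveI : Algebra.FormallyUnramified R L := Algebra.FormallyUnramified.comp R p₀.ResidueField L
    let AP := Localization.AtPrime P
    let e : L ⊗[A] Ω[A⁄R] ≃ₗ[L] L ⊗[AP] Ω[AP⁄R] :=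
      (TensorProduct.AlgebraTensorModule.cancelBaseChange A AP L L Ω[A⁄R]).symm.trans
        (TensorProduct.AlgebraTensorModule.congr (LinearEquiv.refl L L)
          (KaehlerDifferential.tensorKaehlerEquivOfFormallyEtale R A AP))
    have hsub : Subsingleton (L ⊗[A] Ω[A⁄R]) := by
      have hker : ∀ g : A, g ∈ P → (1 : L) ⊗ₜ[A] D R A g = 0 := by
        intro g hg
        rw [← hx] at hg
        induction hg using Submodule.span_induction with
        | mem g hg =>
          obtain ⟨j, rfl⟩ := hg
          have : D R A (x j) = 0 := by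
            rw [show x j = algebraMap R A (MvPowerSeries.X (Fin.natAdd d j)) from
              ((hψ _).trans (by simp only [z, Fin.append_right])).symm]
            exact (D R A).map_algebraMap _
          rw [this, tmul_zero]
        | zero => rw [map_zero, tmul_zero]
        | add a b _ _ ha hb => rw [map_add, tmul_add, ha, hb, add_zero]
        | smul c a ha hb =>
          rw [smul_eq_mul, Derivation.leibniz, tmul_add, tmul_smul, hb, smul_zero, zero_add, ← smul_tmul,
            Algebra.smul_def, mul_one, Ideal.algebraMap_residueField_eq_zero.2 (hx ▸ ha), zero_tmul]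
      have hkerL : ∀ m ∈ maximalIdeal AP, (1 : L) ⊗ₜ[AP] D R AP m = 0 := by
        intro m hm
        obtain ⟨⟨g, t⟩, hgt⟩ := IsLocalization.surj P.primeCompl m
        have hg : g ∈ P := (IsLocalization.AtPrime.to_map_mem_maximal_iff AP P g).1
          (hgt ▸ Ideal.mul_mem_right _ _ hm)
        have h0 : (1 : L) ⊗ₜ[AP] D R AP (algebraMap A AP g) = 0 := by
          rw [← e.map_zero, ← hker g hg]
          simp only [e, LinearEquiv.trans_apply, TensorProduct.AlgebraTensorModule.cancelBaseChange_symm_tmul,
            TensorProduct.AlgebraTensorModule.congr_tmul, LinearEquiv.refl_apply,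
            KaehlerDifferential.tensorKaehlerEquivOfFormallyEtale_apply, mapBaseChange_tmul, map_D, one_smul]
        rw [← hgt, Derivation.leibniz, tmul_add, ← smul_tmul m, Algebra.smul_def, mul_one,
          ResidueField.algebraMap_eq, (residue_eq_zero_iff m).2 hm, zero_tmul, zero_add, tmul_smul] at h0
        exact ((IsLocalization.map_units AP t).smul_eq_zero).1 h0
      have hL : Function.Surjective (algebraMap AP L) := residue_surjective
      haveI : Subsingleton (L ⊗[AP] Ω[AP⁄R]) := by
        refine subsingleton_of_forall_eq 0 fun w => ?_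
        obtain ⟨v, rfl⟩ := (exact_kerCotangentToTensor_mapBaseChange R AP L hL w).1 (Subsingleton.elim _ _)
        obtain ⟨⟨m, hm⟩, rfl⟩ := Ideal.toCotangent_surjective _ v
        rw [kerCotangentToTensor_toCotangent]
        exact hkerL m ((residue_eq_zero_iff m).1 hm)
      exact e.toEquiv.subsingleton
    rw [isUnramifiedAt_iff_kill]
    have hns : (⟨P, inferInstance⟩ : PrimeSpectrum A) ∉ Module.support A Ω[A⁄R] := by
      rw [Module.mem_support_iff_nontrivial_residueField_tensorProduct, not_nontrivial_iff_subsingleton]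
      exact hsub
    intro w
    exact (Module.notMem_support_iff'.1 hns) w
  -- the variables
  have hspan := span_residue_of_isUnramifiedAt (k := k) P hunr
  obtain ⟨r, hr⟩ : ∃ r : Fin h → Localization.AtPrime P,
      Ideal.span (Set.range r) = maximalIdeal (Localization.AtPrime P) := by
    obtain ⟨r, hr⟩ := RegLoc.exists_fin_generators (Localization.AtPrime P)
    rw [← IsRegularLocalRing.spanFinrank_maximalIdeal] at hh
    have e : Submodule.spanFinrank (maximalIdeal (Localization.AtPrime P)) = h := by exact_mod_cast hh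
    exact ⟨r ∘ finCongr e.symm, by rw [(finCongr e.symm).surjective.range_comp, hr]⟩
  choose rs hrs using fun j => IsLocalization.surj P.primeCompl (r j)
  have hrsP : ∀ j, (rs j).1 ∈ P := fun j => by
    rw [← IsLocalization.AtPrime.to_map_mem_maximal_iff (Localization.AtPrime P) P, ← hrs j]
    exact Ideal.mul_mem_right _ _ (hr ▸ Ideal.subset_span ⟨j, rfl⟩)
  let δ : A → P.ResidueField ⊗[A] AdicCompletion (maximalIdeal A) Ω[A⁄k] := fun a =>
    (1 : P.ResidueField) ⊗ₜ[A] AdicCompletion.of (maximalIdeal A) Ω[A⁄k] (D k A a)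
  let W := Submodule.span P.ResidueField (Set.range (Fin.append (fun i => δ (y' i)) fun j => δ (rs j).1))
  have hmul : ∀ a b : A, δ (a * b) = a • δ b + b • δ a := fun a b => by
    simp only [δ, Derivation.leibniz, map_add, map_smul, tmul_add, tmul_smul]
  have hPW : ∀ g ∈ P, δ g ∈ W := by
    intro g hg
    let J := Ideal.span (Set.range fun j => (rs j).1)
    obtain ⟨t, ht, htg⟩ : ∃ t ∉ P, t * g ∈ J := by
      have h1 : algebraMap A (Localization.AtPrime P) g ∈ J.map (algebraMap A (Localization.AtPrime P)) := by
        refine (hr ▸ (Ideal.span_le.2 ?_) : maximalIdeal (Localization.AtPrime P) ≤ _)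
          ((IsLocalization.AtPrime.to_map_mem_maximal_iff (Localization.AtPrime P) P g).2 hg)
        rintro _ ⟨j, rfl⟩
        have hu := IsLocalization.map_units (Localization.AtPrime P) (rs j).2
        refine (Ideal.mul_unit_mem_iff_mem _ hu).1 ?_
        rw [hrs]
        exact Ideal.mem_map_of_mem _ (Ideal.subset_span ⟨j, rfl⟩)
      obtain ⟨t, ht, htg⟩ := (IsLocalization.algebraMap_mem_map_algebraMap_iff P.primeCompl _ J g).1 h1
      exact ⟨t, ht, htg⟩
    have key : ∀ u ∈ J, δ u ∈ W ∧ u ∈ P := by
      intro u hu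
      induction hu using Submodule.span_induction with
      | mem u hu =>
        obtain ⟨j, rfl⟩ := hu
        exact ⟨Submodule.subset_span ⟨Fin.natAdd d j, by simp only [Fin.append_right]⟩, hrsP j⟩
      | zero => exact ⟨by simp only [δ, map_zero, tmul_zero]; exact zero_mem _, zero_mem _⟩
      | add a b _ _ ha hb =>
        exact ⟨by simp only [δ, map_add, tmul_add]; exact add_mem ha.1 hb.1, add_mem ha.2 hb.2⟩
      | smul c a _ ha =>
        refine ⟨?_, Ideal.mul_mem_left _ _ ha.2⟩
        rw [smul_eq_mul, hmul, ← algebraMap_smul P.ResidueField a, Ideal.algebraMap_residueField_eq_zero.2 ha.2,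
          zero_smul, add_zero, ← algebraMap_smul P.ResidueField c]
        exact W.smul_mem _ ha.1
    have h2 := (key _ htg).1
    rw [hmul, ← algebraMap_smul P.ResidueField g, Ideal.algebraMap_residueField_eq_zero.2 hg, zero_smul, add_zero,
      ← algebraMap_smul P.ResidueField t] at h2
    exact (Submodule.smul_mem_iff _ fun h0 => ht (Ideal.algebraMap_residueField_eq_zero.1 h0)).1 h2
  have htop : W = ⊤ := by
    rw [eq_top_iff, ← hspan, Submodule.span_le]
    rintro _ ⟨i, rfl⟩
    show δ (algebraMap R A (MvPowerSeries.X i)) ∈ W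
    rw [show algebraMap R A (MvPowerSeries.X i) = z i from hψ i]
    refine Fin.addCases (fun i => ?_) (fun i => ?_) i
    · simp only [z, Fin.append_left]
      exact Submodule.subset_span ⟨Fin.castAdd h i, by simp only [Fin.append_left]⟩
    · simp only [z, Fin.append_right]
      exact hPW _ (hxP i)
  rw [← finrank_top P.ResidueField, ← htop, add_comm h d]
  exact (finrank_range_le_card _).trans (Fintype.card_fin _).le

end Groth.Agent.CKaehlerFree3
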