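import Groth.Agent.Lib.CKaehlerFree3.BaseTensor
import Groth.Agent.Lib.CKaehlerFree3.RegSpan
import Groth.Agent.Lib.Kunz27.Basic
import Groth.Agent.Lib.CT6.CompleteSemilocal
import Groth.Agent.Lib.CI2.Complete

/-!
Properties of the completed tensor product with a field.
-/

set_option autoImplicit false
set_option linter.style.haveILetI false
set_option linter.unusedSectionVars false

universe u

open IsLocalRing TensorProduct

namespace Groth.Agent.CKaehlerFree3

attribute [local instance] Algebra.TensorProduct.rightAlgebra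

theorem flat_powerSeries_map (k k' : Type u) [Field k] [Field k'] [Algebra k k'] (d : ℕ) :
    Module.Flat (MvPowerSeries (Fin d) k) (MvPowerSeries (Fin d) k') := by
  haveI := H2Alg.PSHom.isRegularLocalRing k d
  haveI := H2Alg.PSHom.isRegularLocalRing k' d
  have hX : ∀ i, MvPowerSeries.map (algebraMap k k') (MvPowerSeries.X i : MvPowerSeries (Fin d) k) = MvPowerSeries.X i :=
    fun i => MvPowerSeries.map_X _ i
  have heq : (maximalIdeal (MvPowerSeries (Fin d) k)).map (MvPowerSeries.map (algebraMap k k')) =
      maximalIdeal (MvPowerSeries (Fin d) k') := by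
    rw [H2Alg.PSHom.maximalIdeal_eq, H2Alg.PSHom.maximalIdeal_eq, H2Alg.PSHom.V, H2Alg.PSHom.V, Ideal.map_span,
      ← Set.range_comp]
    exact congrArg Ideal.span (congrArg Set.range (funext hX))
  haveI : IsLocalHom (MvPowerSeries.map (σ := Fin d) (algebraMap k k')) :=
    ((local_hom_TFAE (MvPowerSeries.map (σ := Fin d) (algebraMap k k'))).out 2 0 :).1 heq.le
  have h := Kunz27.flat_of_isRegularLocalRing (MvPowerSeries.map (σ := Fin d) (algebraMap k k'))
    (heq ▸ Ideal.le_radical) (by rw [H2Alg.PSHom.ringKrullDim_eq, H2Alg.PSHom.ringKrullDim_eq])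
  exact h

/-- A module-finite algebra over power series whose variables die is finite over the field. -/
theorem finite_of_map_V_eq_bot {k : Type u} [Field k] {d : ℕ} {T : Type u} [CommRing T] [Algebra k T]
    [Algebra (MvPowerSeries (Fin d) k) T] [IsScalarTower k (MvPowerSeries (Fin d) k) T]
    [Module.Finite (MvPowerSeries (Fin d) k) T]
    (h : ∀ i, algebraMap (MvPowerSeries (Fin d) k) T (MvPowerSeries.X i) = 0) : Module.Finite k T := by
  obtain ⟨s, hs⟩ := (Module.Finite.fg_top : (⊤ : Submodule (MvPowerSeries (Fin d) k) T).FG)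
  refine ⟨⟨s, eq_top_iff.2 fun x _ => ?_⟩⟩
  have hV : ∀ r ∈ H2Alg.PSHom.V d k, algebraMap (MvPowerSeries (Fin d) k) T r = 0 := fun r hr => by
    have hle : H2Alg.PSHom.V d k ≤ RingHom.ker (algebraMap (MvPowerSeries (Fin d) k) T) :=
      Ideal.span_le.2 (by rintro _ ⟨i, rfl⟩; exact h i)
    exact hle hr
  have hx : x ∈ Submodule.span (MvPowerSeries (Fin d) k) (s : Set T) := hs ▸ Submodule.mem_top
  induction hx using Submodule.span_induction with
  | mem y hy => exact Submodule.subset_span hy
  | zero => exact zero_mem _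
  | add a b _ _ ha hb => exact add_mem (ha trivial) (hb trivial)
  | smul r a _ ha =>
    have hr : r - algebraMap k _ (MvPowerSeries.constantCoeff r) ∈ H2Alg.PSHom.V d k := by
      rw [← H2Alg.PSHom.maximalIdeal_eq, mem_maximalIdeal, mem_nonunits_iff, MvPowerSeries.isUnit_iff_constantCoeff,
        map_sub, MvPowerSeries.algebraMap_apply, Algebra.algebraMap_self_apply, MvPowerSeries.constantCoeff_C,
        sub_self]
      exact not_isUnit_zero
    have h1 := hV _ hr
    rw [map_sub, sub_eq_zero, ← IsScalarTower.algebraMap_apply] at h1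
    rw [Algebra.smul_def, h1, ← Algebra.smul_def]
    exact Submodule.smul_mem _ _ (ha trivial)

variable (k A k' : Type u) [Field k] [Field k'] [Algebra k k'] [CommRing A] [IsLocalRing A] [Algebra k A]

/-- The extended maximal ideal of the completion. -/
noncomputable abbrev cK : Ideal (CT k A k') := (maximalIdeal A).map (algebraMap A (CT k A k'))

/-- `k' → CT`. -/
noncomputable abbrev kCT : k' →+* CT k A k' :=
  (algebraMap (A ⊗[k] k') (CT k A k')).comp
    (Algebra.TensorProduct.includeRight : k' →ₐ[k] A ⊗[k] k').toRingHom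

variable (d : ℕ) [Algebra (MvPowerSeries (Fin d) k) A] [IsScalarTower k (MvPowerSeries (Fin d) k) A]

theorem equiv_algebraMap {e : CT k A k' ≃+* BT k A k' d}
    (he : ∀ z, e (algebraMap (A ⊗[k] k') (CT k A k') z) = thetaT k A k' d z) (a : A) :
    e (algebraMap A (CT k A k') a) = incA k A k' d a := by
  rw [IsScalarTower.algebraMap_apply A (A ⊗[k] k') (CT k A k'), he]
  exact congr($(thetaT_comp_left k A k' d) a)

theorem equiv_kCT {e : CT k A k' ≃+* BT k A k' d}
    (he : ∀ z, e (algebraMap (A ⊗[k] k') (CT k A k') z) = thetaT k A k' d z) (c : k') :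
    e (kCT k A k' c) = incK k A k' d c := by
  change e (algebraMap (A ⊗[k] k') (CT k A k') (1 ⊗ₜ c)) = _
  rw [he, thetaT_tmul, map_one, one_mul]

variable [IsNoetherianRing A] [IsAdicComplete (maximalIdeal A) A] [Module.Finite k (ResidueField A)]

theorem exists_chart : ∃ (d : ℕ) (_ : Algebra (MvPowerSeries (Fin d) k) A) (_ : IsScalarTower k (MvPowerSeries (Fin d) k) A),
    IsLocalHom (algebraMap (MvPowerSeries (Fin d) k) A) ∧ Module.Finite (MvPowerSeries (Fin d) k) A := by
  obtain ⟨d, x, hx⟩ := Submodule.fg_iff_exists_fin_generating_family.1 (IsNoetherian.noetherian (maximalIdeal A))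
  obtain ⟨ψ, hf, hl, -⟩ := exists_finite_powerSeries (k := k) x (fun i => hx ▸ Submodule.subset_span ⟨i, rfl⟩) 1
    (by rw [pow_one]; exact hx.ge)
  exact ⟨d, ψ.toRingHom.toAlgebra, @IsScalarTower.of_algebraMap_eq _ _ _ _ _ _ _ ψ.toRingHom.toAlgebra _
    fun a => (ψ.commutes a).symm, hl, hf⟩

theorem basic_props :
    IsNoetherianRing (CT k A k') ∧ IsAdicComplete (cK k A k') (CT k A k') ∧ Module.Flat A (CT k A k') ∧
      (letI := (kCT k A k').toAlgebra; Module.Finite k' (CT k A k' ⧸ cK k A k')) := by
  obtain ⟨d, _, _, _, _⟩ := exists_chart k A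
  obtain ⟨e, he⟩ := exists_equiv k A k' d
  haveI := isNoetherianRing_BT k A k' d
  have hK : (cK k A k').map e.toRingHom = cJ k A k' d := by
    rw [cK, Ideal.map_map]
    exact congrArg (fun f => (maximalIdeal A).map f) (RingHom.ext fun a => equiv_algebraMap k A k' d he a)
  haveI := isAdicComplete_BT k A k' d
  refine ⟨isNoetherianRing_of_ringEquiv _ e.symm, ?_, ?_, ?_⟩
  · have hb : IsAdicComplete ((cK k A k').map e) (BT k A k' d) := by
      rw [show (cK k A k').map e = cJ k A k' d from hK]
      infer_instance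
    first | exact (IsAdicComplete.congr_ringEquiv (cK k A k') e).1 hb | exact (IsAdicComplete.congr_ringEquiv (cK k A k') e).2 hb
  · haveI := flat_powerSeries_map k k' d
    let c := Algebra.TensorProduct.comm (MvPowerSeries (Fin d) k) A (MvPowerSeries (Fin d) k')
    haveI : Module.Flat A (A ⊗[MvPowerSeries (Fin d) k] MvPowerSeries (Fin d) k') := inferInstance
    refine Module.Flat.of_linearEquiv
      ({ (c.toRingEquiv.trans e.symm).symm.toAddEquiv with
          map_smul' := fun a x => ?_ } : CT k A k' ≃ₗ[A] A ⊗[MvPowerSeries (Fin d) k] MvPowerSeries (Fin d) k')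
    change c.symm (e (a • x)) = a • c.symm (e x)
    rw [Algebra.smul_def, map_mul, equiv_algebraMap k A k' d he, map_mul, Algebra.smul_def]
    rfl
  · letI := (kCT k A k').toAlgebra
    let q := (Ideal.Quotient.mk (cK k A k')).comp
      (e.symm.toRingHom.comp (algebraMap (MvPowerSeries (Fin d) k') (BT k A k' d)))
    letI : Algebra (MvPowerSeries (Fin d) k') (CT k A k' ⧸ cK k A k') := q.toAlgebra
    haveI : IsScalarTower k' (MvPowerSeries (Fin d) k') (CT k A k' ⧸ cK k A k') :=
      IsScalarTower.of_algebraMap_eq fun c => by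
        change Ideal.Quotient.mk (cK k A k') (kCT k A k' c) = q (algebraMap k' (MvPowerSeries (Fin d) k') c)
        rw [MvPowerSeries.algebraMap_apply, Algebra.algebraMap_self_apply]
        refine congrArg (Ideal.Quotient.mk (cK k A k')) ?_
        change _ = e.symm (incK k A k' d c)
        rw [← equiv_kCT k A k' d he, e.symm_apply_apply]
    haveI : Module.Finite (MvPowerSeries (Fin d) k') (CT k A k' ⧸ cK k A k') := by
      refine Module.Finite.of_surjective
        ({ toFun := fun b => Ideal.Quotient.mk (cK k A k') (e.symm b)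
           map_add' := fun x y => by simp
           map_smul' := fun r b => by
             change Ideal.Quotient.mk (cK k A k') (e.symm (r • b)) = q r * Ideal.Quotient.mk (cK k A k') (e.symm b)
             rw [show r • b = algebraMap (MvPowerSeries (Fin d) k') (BT k A k' d) r * b from Algebra.smul_def r b,
               map_mul, map_mul]
             rfl } : BT k A k' d →ₗ[MvPowerSeries (Fin d) k'] CT k A k' ⧸ cK k A k') fun y => ?_
      obtain ⟨y, rfl⟩ := Ideal.Quotient.mk_surjective y
      exact ⟨e y, by simp⟩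
    refine finite_of_map_V_eq_bot (d := d) fun i => ?_
    change Ideal.Quotient.mk (cK k A k') (e.symm (algebraMap (MvPowerSeries (Fin d) k') (BT k A k' d) (MvPowerSeries.X i))) = 0
    rw [Ideal.Quotient.eq_zero_iff_mem, ← incA_X, ← equiv_algebraMap k A k' d he, e.symm_apply_apply]
    exact Ideal.mem_map_of_mem _ (X_mem_maximalIdeal k A d i)

theorem isArtinianRing_quot : IsArtinianRing (CT k A k' ⧸ cK k A k') := by
  obtain ⟨-, -, -, h⟩ := basic_props k A k'
  letI := (kCT k A k').toAlgebra
  haveI := h
  exact isArtinian_of_tower k' inferInstance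

theorem cK_le (M : Ideal (CT k A k')) [M.IsMaximal] : cK k A k' ≤ M := by
  obtain ⟨-, hc, -, -⟩ := basic_props k A k'
  haveI := hc
  exact (IsAdicComplete.le_jacobson_bot (cK k A k')).trans (sInf_le ⟨bot_le, ‹_›⟩)

set_option synthInstance.maxHeartbeats 200000 in
theorem finite_maximalSpectrum : Finite (MaximalSpectrum (CT k A k')) := by
  haveI := isArtinianRing_quot k A k'
  haveI : Finite (MaximalSpectrum (CT k A k' ⧸ cK k A k')) := inferInstance
  refine Finite.of_injective (β := MaximalSpectrum (CT k A k' ⧸ cK k A k')) (fun M => ⟨M.asIdeal.map (Ideal.Quotient.mk (cK k A k')),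
    haveI := M.isMaximal
    Ideal.IsMaximal.map_of_surjective_of_ker_le Ideal.Quotient.mk_surjective
      (Ideal.mk_ker.le.trans (cK_le k A k' M.asIdeal))⟩) fun M M' h => ?_
  haveI := M.isMaximal
  haveI := M'.isMaximal
  have h2 := congrArg (fun m : MaximalSpectrum (CT k A k' ⧸ cK k A k') => m.asIdeal.comap (Ideal.Quotient.mk (cK k A k'))) h
  simp only [Ideal.comap_map_of_surjective' _ Ideal.Quotient.mk_surjective, Ideal.mk_ker,
    sup_eq_left.2 (cK_le k A k' M.asIdeal), sup_eq_left.2 (cK_le k A k' M'.asIdeal)] at h2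
  exact MaximalSpectrum.ext h2

theorem comap_eq (M : Ideal (CT k A k')) [M.IsMaximal] :
    M.comap (algebraMap A (CT k A k')) = maximalIdeal A :=
  ((maximalIdeal.isMaximal A).eq_of_le (Ideal.IsPrime.ne_top inferInstance)
    (Ideal.map_le_iff_le_comap.1 (cK_le k A k' M))).symm

theorem local_props (M : Ideal (CT k A k')) [M.IsMaximal] :
    IsAdicComplete (maximalIdeal (Localization.AtPrime M)) (Localization.AtPrime M) ∧
      Module.FaithfullyFlat A (Localization.AtPrime M) ∧
      ringKrullDim (Localization.AtPrime M) = ringKrullDim A ∧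
      ((Ideal.Quotient.mk M).comp (kCT k A k')).Finite := by
  obtain ⟨hN, hc, hflat, hfin⟩ := basic_props k A k'
  haveI := hN; haveI := hc; haveI := hflat
  haveI := isArtinianRing_quot k A k'
  haveI : Module.Flat A (Localization.AtPrime M) := Module.Flat.trans A (CT k A k') _
  haveI hloc : IsLocalHom (algebraMap A (Localization.AtPrime M)) := by
    refine ⟨fun a ha => by_contra fun hna => ?_⟩
    rw [IsScalarTower.algebraMap_apply A (CT k A k'), IsLocalization.AtPrime.isUnit_to_map_iff _ M] at ha
    have h1 : a ∈ M.comap (algebraMap A (CT k A k')) := by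
      rw [comap_eq k A k' M]; exact (mem_maximalIdeal a).2 hna
    exact ha h1
  refine ⟨?_, Module.FaithfullyFlat.of_flat_of_isLocalHom, ?_, ?_⟩
  · obtain ⟨J, -, -, hJ, hlr, hcpl⟩ := CT6.exists_complete_localization (CT k A k') (cK k A k') M
    haveI := hJ; haveI := hlr; haveI := hcpl
    exact CI2.isAdicComplete_of_ringEquiv
      (IsLocalization.algEquiv M.primeCompl (CT k A k' ⧸ J) (Localization.AtPrime M)).toRingEquiv
  · haveI : M.LiesOver (maximalIdeal A) := ⟨(comap_eq k A k' M).symm⟩
    have h0 : (M.map (Ideal.Quotient.mk ((maximalIdeal A).map (algebraMap A (CT k A k'))))).height = 0 := by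
      haveI : Ring.KrullDimLE 0 (CT k A k' ⧸ cK k A k') := inferInstance
      haveI : (M.map (Ideal.Quotient.mk (cK k A k'))).IsPrime :=
        Ideal.map_isPrime_of_surjective Ideal.Quotient.mk_surjective (Ideal.mk_ker.le.trans (cK_le k A k' M))
      rw [Ideal.height_eq_zero_iff]
      exact ⟨⟨inferInstance, bot_le⟩, fun P hP hle =>
        (haveI := hP.1; Ideal.isMaximal_of_isPrime P).eq_of_le (Ideal.IsPrime.ne_top inferInstance) hle |>.ge⟩
    have h := Ideal.height_eq_height_add_of_liesOver_of_hasGoingDown (maximalIdeal A) M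
    rw [h0, add_zero] at h
    rw [IsLocalization.AtPrime.ringKrullDim_eq_height M, h, IsLocalRing.maximalIdeal_height_eq_ringKrullDim]
  · letI := (kCT k A k').toAlgebra
    haveI := hfin
    have h2 : ((Ideal.Quotient.factor (cK_le k A k' M)).comp
        ((Ideal.Quotient.mk (cK k A k')).comp (kCT k A k'))).Finite :=
      RingHom.Finite.comp (RingHom.Finite.of_surjective _ (Ideal.Quotient.factor_surjective _))
        (RingHom.finite_algebraMap.2 hfin)
    exact h2

end Groth.Agent.CKaehlerFree3
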