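/-
For a complete Noetherian local domain of dimension `n` over a field `k` with residue field finite over `k`, the
generic rank of the completed module of differentials is at least `n`.
-/
import Groth.Agent.Lib.CplDomain.Normalization
import Groth.Agent.Lib.CartierEq3.Basic
import Mathlib.RingTheory.MvPowerSeries.Derivative
import Mathlib.RingTheory.MvPowerSeries.NoZeroDivisors
import Mathlib.RingTheory.Kaehler.JacobiZariski
import Mathlib.RingTheory.Etale.Kaehler

set_option autoImplicit false

universe u

open IsLocalRing TensorProduct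

namespace Groth.Agent.CKaehlerFree3

section Normalization

variable {k : Type u} [Field k]

theorem finite_of_isFiniteLength {A : Type u} [CommRing A] [IsLocalRing A] [Algebra k A]
    [Module.Finite k (ResidueField A)] :
    ∀ (M : Type u) [AddCommGroup M] [Module A M], IsFiniteLength A M → ∀ [Module k M] [IsScalarTower k A M],
      Module.Finite k M := by
  intro M _ _ hM
  induction hM with
  | of_subsingleton => intro _ _; exact Module.Finite.of_finite
  | @of_simple_quotient M _ _ N hs hN ih =>
    intro _ _
    haveI : Module.Finite k N := ih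
    haveI : Module.Finite k (M ⧸ N) := by
      obtain ⟨m, hm, ⟨e⟩⟩ := isSimpleModule_iff_quot_maximal.mp hs
      obtain rfl := IsLocalRing.eq_maximalIdeal hm
      haveI : Module.Finite k (A ⧸ maximalIdeal A) := ‹Module.Finite k (ResidueField A)›
      exact Module.Finite.equiv (e.restrictScalars k).symm
    haveI : Module.Finite k (N.restrictScalars k) := ‹Module.Finite k N›
    haveI : Module.Finite k (M ⧸ N.restrictScalars k) :=
      Module.Finite.equiv (Submodule.Quotient.restrictScalarsEquiv k N).symm
    exact Module.Finite.of_submodule_quotient (N.restrictScalars k)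

/-- Finite injective map from power series in a system of parameters. -/
theorem exists_finite_injective_powerSeries (k C : Type u) [Field k] [CommRing C] [IsDomain C] [IsLocalRing C]
    [IsNoetherianRing C] [Algebra k C] [IsAdicComplete (maximalIdeal C) C] [Module.Finite k (ResidueField C)]
    (n : ℕ) (hn : ringKrullDim C = n) :
    ∃ ψ : MvPowerSeries (Fin n) k →ₐ[k] C, Function.Injective ψ ∧ ψ.toRingHom.Finite := by
  obtain ⟨x, hx, ⟨N, hN⟩, hfl⟩ := CanElt.exists_sop C n hn
  obtain ⟨ψ, hψ⟩ := H2Alg.PSHom.exists_algHom (A := k) (maximalIdeal C) x hx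
  letI : Algebra (MvPowerSeries (Fin n) k) C := ψ.toRingHom.toAlgebra
  haveI : IsScalarTower k (MvPowerSeries (Fin n) k) C := IsScalarTower.of_algebraMap_eq fun a => (ψ.commutes a).symm
  set P := MvPowerSeries (Fin n) k
  haveI : IsAdicComplete (maximalIdeal P) P := by
    rw [H2Alg.PSHom.maximalIdeal_eq]
    exact { toIsHausdorff := inferInstance, toIsPrecomplete := inferInstance }
  have hImap : (maximalIdeal P).map (algebraMap P C) = Ideal.span (Set.range x) := by
    rw [H2Alg.PSHom.maximalIdeal_eq, H2Alg.PSHom.V, Ideal.map_span, ← Set.range_comp]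
    congr 2
    exact funext hψ
  have hle : (maximalIdeal P).map (algebraMap P C) ≤ maximalIdeal C := by
    rw [hImap]; exact Ideal.span_le.2 (by rintro _ ⟨i, rfl⟩; exact hx i)
  haveI : IsHausdorff ((maximalIdeal P).map (algebraMap P C)) C :=
    ⟨fun z hz => IsHausdorff.haus' (I := maximalIdeal C) z fun j => (hz j).mono
      (Submodule.smul_mono_left (Ideal.pow_right_mono hle j))⟩
  haveI : Module.Finite k (C ⧸ (maximalIdeal P).map (algebraMap P C)) :=
    finite_of_isFiniteLength _ (hImap ▸ hfl)
  haveI : Module.Finite P (C ⧸ (maximalIdeal P).map (algebraMap P C)) := Module.Finite.of_restrictScalars_finite k P _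
  haveI hfin : Module.Finite P C := CplDomain.finite_of_reduction (maximalIdeal P)
  refine ⟨ψ, ?_, hfin⟩
  rw [show Function.Injective ψ ↔ Function.Injective ψ.toRingHom from Iff.rfl, RingHom.injective_iff_ker_eq_bot]
  by_contra hne
  obtain ⟨z, hz, hz0⟩ := Submodule.exists_mem_ne_zero_of_ne_bot hne
  haveI := H2Alg.PSHom.isRegularLocalRing k n
  haveI : IsDomain P := NoZeroDivisors.to_isDomain P
  letI : Algebra (P ⧸ RingHom.ker ψ.toRingHom) C := (RingHom.kerLift ψ.toRingHom).toAlgebra
  haveI : Algebra.IsIntegral (P ⧸ RingHom.ker ψ.toRingHom) C :=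
    algebraMap_isIntegral_iff.mp (RingHom.IsIntegral.tower_top (Ideal.Quotient.mk (RingHom.ker ψ.toRingHom))
      (RingHom.kerLift ψ.toRingHom) (algebraMap_isIntegral_iff.mpr (Algebra.IsIntegral.of_finite P C)))
  have h1 : ringKrullDim C ≤ ringKrullDim (P ⧸ RingHom.ker ψ.toRingHom) :=
    Order.krullDim_le_of_strictMono (PrimeSpectrum.comap (algebraMap (P ⧸ RingHom.ker ψ.toRingHom) C))
      fun x y hlt => Ideal.IsIntegral.comap_lt_comap hlt
  have h2 : ringKrullDim (P ⧸ RingHom.ker ψ.toRingHom) + 1 ≤ ringKrullDim P :=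
    (add_le_add (ringKrullDim_le_of_surjective (Ideal.Quotient.factor (S := Ideal.span {z})
      (T := RingHom.ker ψ.toRingHom) ((Ideal.span_singleton_le_iff_mem _).mpr hz))
      (Ideal.Quotient.factor_surjective _)) le_rfl).trans
      (ringKrullDim_quotient_succ_le_of_nonZeroDivisor (mem_nonZeroDivisors_of_ne_zero hz0))
  haveI : Nontrivial (P ⧸ RingHom.ker ψ.toRingHom) := Ideal.Quotient.nontrivial_iff.mpr (RingHom.ker_ne_top _)
  haveI : IsLocalRing (P ⧸ RingHom.ker ψ.toRingHom) := IsLocalRing.of_surjective' _ Ideal.Quotient.mk_surjective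
  obtain ⟨b, hb⟩ := DepthLib.exists_supportDim_eq_natCast (R := P ⧸ RingHom.ker ψ.toRingHom)
    (M := P ⧸ RingHom.ker ψ.toRingHom)
  rw [Module.supportDim_self_eq_ringKrullDim] at hb
  rw [hn, hb] at h1
  rw [hb, H2Alg.PSHom.ringKrullDim_eq] at h2
  norm_cast at h1 h2
  omega

end Normalization

section LinAlg

variable {L U V W H P : Type u} [Field L] [AddCommGroup U] [Module L U] [AddCommGroup V] [Module L V]
  [AddCommGroup W] [Module L W] [AddCommGroup H] [Module L H] [AddCommGroup P] [Module L P]

theorem exists_surjective_pushout (δ : H →ₗ[L] U) (m : U →ₗ[L] V) (q : V →ₗ[L] W) (π : U →ₗ[L] P)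
    (hδ : Function.Exact δ m) (hm : Function.Exact m q) (hq : Function.Surjective q) (hπ : Function.Surjective π)
    [Module.Finite L H] [Module.Finite L W] [Module.Finite L P]
    (hd : Module.finrank L H ≤ Module.finrank L W) (n : ℕ) (hn : Module.finrank L P = n) :
    ∃ f : V →ₗ[L] (Fin n → L), Function.Surjective f ∧ ∃ g : P →ₗ[L] (Fin n → L), ∀ u, f (m u) = g (π u) := by
  obtain ⟨σ, hσ⟩ := π.exists_rightInverse_of_surjective (LinearMap.range_eq_top.2 hπ)
  have hσ' : ∀ p, π (σ p) = p := fun p => LinearMap.congr_fun hσ p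
  let Z := (LinearMap.ker π).map m
  let τ : P →ₗ[L] V ⧸ Z := Z.mkQ ∘ₗ m ∘ₗ σ
  have hτ : ∀ u, τ (π u) = Z.mkQ (m u) := fun u => by
    rw [LinearMap.comp_apply, LinearMap.comp_apply, Submodule.mkQ_apply, Submodule.mkQ_apply, Submodule.Quotient.eq,
      ← map_sub]
    exact Submodule.mem_map_of_mem (by rw [LinearMap.mem_ker, map_sub, hσ', sub_self])
  let qbar : V ⧸ Z →ₗ[L] W := Z.liftQ q (by
    rintro _ ⟨u, -, rfl⟩
    exact hm.apply_apply_eq_zero u)
  have hqbar : Function.Surjective qbar := fun w => by
    obtain ⟨v, rfl⟩ := hq w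
    exact ⟨Z.mkQ v, rfl⟩
  have hrange : LinearMap.range τ = LinearMap.ker qbar := by
    refine le_antisymm ?_ fun v hv => ?_
    · rintro _ ⟨p, rfl⟩
      exact hm.apply_apply_eq_zero _
    · obtain ⟨v, rfl⟩ := Z.mkQ_surjective v
      obtain ⟨u, rfl⟩ := (hm v).1 hv
      exact ⟨π u, hτ u⟩
  have hker : LinearMap.ker τ ≤ LinearMap.range (π ∘ₗ δ) := fun p hp => by
    obtain ⟨u₀, hu₀, hmu⟩ := (Submodule.Quotient.mk_eq_zero Z).1 (LinearMap.mem_ker.1 hp)
    obtain ⟨h, hh⟩ := (hδ (σ p - u₀)).1 (by rw [map_sub, hmu]; exact sub_self _)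
    exact ⟨h, by rw [LinearMap.comp_apply, hh, map_sub, hσ', LinearMap.mem_ker.1 hu₀, sub_zero]⟩
  haveI : Module.Finite L (LinearMap.ker qbar) := hrange ▸ Module.Finite.range τ
  haveI : Module.Finite L (V ⧸ Z) := by
    constructor
    refine Submodule.fg_of_fg_map_of_fg_inf_ker qbar ?_ ?_
    · rw [Submodule.map_top, LinearMap.range_eq_top.2 hqbar]; exact Module.finite_def.1 inferInstance
    · rw [top_inf_eq]; exact Module.Finite.iff_fg.1 inferInstance
  have h1 := τ.finrank_range_add_finrank_ker
  have h2 := qbar.finrank_range_add_finrank_ker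
  rw [LinearMap.range_eq_top.2 hqbar, finrank_top, ← hrange] at h2
  have h3 : Module.finrank L (LinearMap.ker τ) ≤ Module.finrank L H :=
    (Submodule.finrank_mono hker).trans (LinearMap.finrank_range_le _)
  have hle : n ≤ Module.finrank L (V ⧸ Z) := by omega
  let b := Module.finBasis L (V ⧸ Z)
  let t : (V ⧸ Z) →ₗ[L] (Fin n → L) :=
    LinearMap.pi fun i => b.coord (Fin.castLE hle i)
  have ht : Function.Surjective t := fun w => by
    refine ⟨∑ i, w i • b (Fin.castLE hle i), funext fun j => ?_⟩
    simp [t, Module.Basis.repr_self, Finsupp.single_apply, (Fin.castLE_injective hle).eq_iff]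
  exact ⟨t ∘ₗ Z.mkQ, ht.comp Z.mkQ_surjective, t ∘ₗ τ, fun u => by simp only [LinearMap.comp_apply]; rw [← hτ]⟩

end LinAlg

section Main

variable {k : Type u} [Field k] {n : ℕ} {C : Type u} [CommRing C] [IsDomain C] [Algebra k C]
  [Algebra (MvPowerSeries (Fin n) k) C] [IsScalarTower k (MvPowerSeries (Fin n) k) C]
  [Module.Finite (MvPowerSeries (Fin n) k) C]
  (L : Type u) [Field L] [Algebra C L] [IsFractionRing C L] [Algebra k L] [IsScalarTower k C L]

/-- `n` generically independent derivations with bounded denominators. -/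
theorem exists_spanning_derivation (hinj : Function.Injective (algebraMap (MvPowerSeries (Fin n) k) C)) :
    ∃ d : Derivation k L (Fin n → L), Submodule.span L (Set.range d) = ⊤ ∧
      ∃ S : Finset (Fin n → L), ∀ a : C, d (algebraMap C L a) ∈ Submodule.span C (S : Set (Fin n → L)) := by
  classical
  let R := MvPowerSeries (Fin n) k
  haveI := H2Alg.PSHom.isRegularLocalRing k n
  haveI : IsDomain R := NoZeroDivisors.to_isDomain R
  let E := FractionRing R
  letI : Algebra R L := ((algebraMap C L).comp (algebraMap R C)).toAlgebra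
  haveI : IsScalarTower R C L := IsScalarTower.of_algebraMap_eq fun _ => rfl
  haveI : IsScalarTower k R L := IsScalarTower.of_algebraMap_eq fun a => by
    rw [IsScalarTower.algebraMap_apply R C L, ← IsScalarTower.algebraMap_apply k R C,
      ← IsScalarTower.algebraMap_apply k C L]
  haveI : FaithfulSMul R L := (faithfulSMul_iff_algebraMap_injective _ _).2 ((IsFractionRing.injective C L).comp hinj)
  letI : Algebra E L := FractionRing.liftAlgebra R L
  haveI : IsScalarTower R E L := FractionRing.isScalarTower_liftAlgebra R L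
  haveI : IsScalarTower k E L := IsScalarTower.of_algebraMap_eq fun a => by
    rw [IsScalarTower.algebraMap_apply k R E, ← IsScalarTower.algebraMap_apply R E L,
      ← IsScalarTower.algebraMap_apply k R L]
  obtain ⟨t, gens, hgens⟩ := Module.Finite.exists_fin' R C
  let G : Fin t → C := fun i => gens (Pi.single i 1)
  have hG : ∀ a : C, ∃ r : Fin t → R, a = ∑ i, r i • G i := fun a => by
    obtain ⟨r, rfl⟩ := hgens a
    refine ⟨r, ?_⟩
    conv_lhs => rw [pi_eq_sum_univ r, map_sum]
    refine Finset.sum_congr rfl fun i _ => ?_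
    rw [map_smul]
    congr 2
    funext j
    simp [Pi.single_apply, eq_comm]
  haveI : Module.Finite E L := by
    refine ⟨⟨Finset.univ.image fun i => algebraMap C L (G i), eq_top_iff.2 fun z _ => ?_⟩⟩
    obtain ⟨a, b, hb, rfl⟩ := IsFractionRing.div_surjective C z
    have hb0 : b ≠ 0 := nonZeroDivisors.ne_zero hb
    obtain ⟨r, hr, hr0⟩ := Submodule.exists_mem_ne_zero_of_ne_bot
      (Ideal.comap_ne_bot_of_integral_mem (R := R) hb0 (Ideal.mem_span_singleton_self b) (Algebra.IsIntegral.isIntegral b))
    obtain ⟨b', hb'⟩ := Ideal.mem_span_singleton'.1 (Ideal.mem_comap.1 hr)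
    obtain ⟨s, hs⟩ := hG (a * b')
    have : algebraMap C L a / algebraMap C L b =
        (algebraMap R E r)⁻¹ • algebraMap C L (a * b') := by
      rw [Algebra.smul_def, map_inv₀, ← IsScalarTower.algebraMap_apply R E L, IsScalarTower.algebraMap_apply R C L,
        ← hb', map_mul, map_mul]
      have h1 : algebraMap C L b' ≠ 0 := fun h0 => hr0 (hinj (by
        rw [← hb', IsFractionRing.injective C L (h0.trans (map_zero _).symm), zero_mul, map_zero]))
      field_simp
    rw [this, hs, map_sum]
    refine Submodule.smul_mem _ _ (Submodule.sum_mem _ fun i _ => ?_)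
    rw [Algebra.smul_def, map_mul, ← IsScalarTower.algebraMap_apply R C L, IsScalarTower.algebraMap_apply R E L,
      ← Algebra.smul_def]
    exact Submodule.smul_mem _ _ (Submodule.subset_span (by simp))
  haveI : Algebra.IsAlgebraic E L := Algebra.IsAlgebraic.of_finite E L
  obtain ⟨hW, hH, hC⟩ := CartierEq3.h1_kaehler E L
  rw [trdeg_eq_zero, map_zero] at hC
  -- the partial derivatives
  let par : Derivation k R (Fin n → L) := Derivation.mk'
    { toFun := fun r i => algebraMap R L (MvPowerSeries.pderiv k i r)
      map_add' := fun r s => funext fun i => by rw [map_add, map_add]; rfl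
      map_smul' := fun a r => funext fun i => by
        rw [RingHom.id_apply, Pi.smul_apply, Derivation.map_smul, ← algebraMap_smul R a, smul_eq_mul, map_mul,
          ← IsScalarTower.algebraMap_apply, ← Algebra.smul_def] }
    fun r s => funext fun i => by
      change algebraMap R L (MvPowerSeries.pderiv k i (r * s)) =
        r • algebraMap R L (MvPowerSeries.pderiv k i s) + s • algebraMap R L (MvPowerSeries.pderiv k i r)
      rw [Derivation.leibniz, map_add, smul_eq_mul, smul_eq_mul, map_mul, map_mul, ← Algebra.smul_def, ← Algebra.smul_def]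
  haveI : Algebra.FormallyEtale R E := Algebra.FormallyEtale.of_isLocalization (nonZeroDivisors R)
  let π : L ⊗[E] Ω[E⁄k] →ₗ[L] (Fin n → L) :=
    ((par.liftKaehlerDifferential.liftBaseChange E) ∘ₗ
      (KaehlerDifferential.tensorKaehlerEquivOfFormallyEtale k R E).symm.toLinearMap).liftBaseChange L
  have hπD : ∀ r : R, π (1 ⊗ₜ KaehlerDifferential.D k E (algebraMap R E r)) = par r := fun r => by
    rw [LinearMap.liftBaseChange_tmul, one_smul, LinearMap.comp_apply, LinearEquiv.coe_coe,
      show (KaehlerDifferential.tensorKaehlerEquivOfFormallyEtale k R E).symm (KaehlerDifferential.D k E (algebraMap R E r)) =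
        1 ⊗ₜ KaehlerDifferential.D k R r from (LinearEquiv.symm_apply_eq _).2 (by simp),
      LinearMap.liftBaseChange_tmul, one_smul, Derivation.liftKaehlerDifferential_comp_D]
  have hπ : Function.Surjective π := fun w => by
    refine ⟨∑ i, w i • ((1 : L) ⊗ₜ KaehlerDifferential.D k E (algebraMap R E (MvPowerSeries.X i))), funext fun j => ?_⟩
    simp only [map_sum, map_smul, hπD, Finset.sum_apply, Pi.smul_apply]
    rw [Finset.sum_eq_single j]
    · change w j • algebraMap R L (MvPowerSeries.pderiv k j (MvPowerSeries.X j)) = w j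
      rw [MvPowerSeries.pderiv_X_self, map_one, smul_eq_mul, mul_one]
    · intro i _ hi
      change w i • algebraMap R L (MvPowerSeries.pderiv k j (MvPowerSeries.X i)) = 0
      rw [MvPowerSeries.pderiv_X_of_ne hi, map_zero, smul_zero]
    · intro h; exact absurd (Finset.mem_univ j) h
  obtain ⟨f, hf, g, hfg⟩ := exists_surjective_pushout (Algebra.H1Cotangent.δ k E L)
    (KaehlerDifferential.mapBaseChange k E L) (KaehlerDifferential.map k E L L) π
    (Algebra.H1Cotangent.exact_δ_mapBaseChange k E L) (KaehlerDifferential.exact_mapBaseChange_map k E L)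
    (KaehlerDifferential.map_surjective k E L) hπ (by omega) n (Module.finrank_fin_fun L)
  refine ⟨f.compDer (KaehlerDifferential.D k L), ?_, ?_⟩
  · rw [show Set.range (f.compDer (KaehlerDifferential.D k L)) = f '' Set.range (KaehlerDifferential.D k L) from
        Set.range_comp f (KaehlerDifferential.D k L), ← Submodule.map_span, KaehlerDifferential.span_range_derivation,
      Submodule.map_top, LinearMap.range_eq_top.2 hf]
  have hR : ∀ r : R, f (KaehlerDifferential.D k L (algebraMap R L r)) =
      ∑ j, algebraMap R L (MvPowerSeries.pderiv k j r) • g (Pi.single j 1) := fun r => by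
    have := hfg (1 ⊗ₜ KaehlerDifferential.D k E (algebraMap R E r))
    rw [KaehlerDifferential.mapBaseChange_tmul, one_smul, KaehlerDifferential.map_D,
      ← IsScalarTower.algebraMap_apply, hπD] at this
    rw [this]
    conv_lhs => rw [pi_eq_sum_univ (par r), map_sum]
    refine Finset.sum_congr rfl fun j _ => ?_
    rw [map_smul]
    congr 2
    funext i
    simp [Pi.single_apply, eq_comm]
  refine ⟨(Finset.univ.image fun i => f (KaehlerDifferential.D k L (algebraMap C L (G i)))) ∪
    Finset.univ.image (fun j => g (Pi.single j 1)), fun a => ?_⟩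
  obtain ⟨r, rfl⟩ := hG a
  simp only [map_sum]
  refine Submodule.sum_mem _ fun i _ => ?_
  change f (KaehlerDifferential.D k L (algebraMap C L (r i • G i))) ∈ _
  rw [Algebra.smul_def, map_mul, Derivation.leibniz, map_add, map_smul, map_smul,
    ← IsScalarTower.algebraMap_apply R C L, hR, algebraMap_smul L (G i), IsScalarTower.algebraMap_apply R C L,
    algebraMap_smul L (algebraMap R C (r i))]
  refine add_mem (Submodule.smul_mem _ _ (Submodule.subset_span
      (Finset.mem_coe.2 (Finset.mem_union_left _ (Finset.mem_image_of_mem _ (Finset.mem_univ i))))))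
    (Submodule.smul_mem _ _ (Submodule.sum_mem _ fun j _ => ?_))
  rw [IsScalarTower.algebraMap_apply R C L, algebraMap_smul]
  exact Submodule.smul_mem _ _ (Submodule.subset_span
    (Finset.mem_coe.2 (Finset.mem_union_right _ (Finset.mem_image_of_mem _ (Finset.mem_univ j)))))

/-- An integral map from the differentials with generically spanning image. -/
theorem exists_generic_map (hinj : Function.Injective (algebraMap (MvPowerSeries (Fin n) k) C)) :
    ∃ h : Ω[C⁄k] →ₗ[C] (Fin n → C),
      Submodule.span L (Set.range fun ω i => algebraMap C L (h ω i)) = ⊤ := by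
  classical
  obtain ⟨d, hd, S, hS⟩ := exists_spanning_derivation L hinj
  obtain ⟨c, hc⟩ := IsLocalization.exist_integer_multiples (nonZeroDivisors C)
    (S ×ˢ (Finset.univ : Finset (Fin n))) (fun p => p.1 p.2)
  let ι : (Fin n → C) →ₗ[C] (Fin n → L) :=
    LinearMap.pi fun i => (Algebra.linearMap C L) ∘ₗ LinearMap.proj i
  have hι : Function.Injective ι := fun a b h => funext fun i => IsFractionRing.injective C L (congrFun h i)
  have hSc : ∀ s ∈ Submodule.span C (S : Set (Fin n → L)), (c : C) • s ∈ LinearMap.range ι := by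
    intro s hs
    induction hs using Submodule.span_induction with
    | mem s hs =>
      choose a ha using fun i => hc (s, i) (Finset.mem_product.2 ⟨hs, Finset.mem_univ i⟩)
      exact ⟨a, funext fun i => ha i⟩
    | zero => rw [smul_zero]; exact zero_mem _
    | add x y _ _ hx hy => rw [smul_add]; exact add_mem hx hy
    | smul b x _ hx => rw [smul_comm]; exact Submodule.smul_mem _ b hx
  let d' : Derivation k C (Fin n → L) := (c : C) • d.compAlgebraMap C
  have hd' : ∀ a, d' a = (c : C) • d (algebraMap C L a) := fun a => rfl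
  have hmem : ∀ ω, d'.liftKaehlerDifferential ω ∈ LinearMap.range ι := by
    intro ω
    have hω : ω ∈ Submodule.span C (Set.range (KaehlerDifferential.D k C)) := by
      rw [KaehlerDifferential.span_range_derivation]; trivial
    induction hω using Submodule.span_induction with
    | mem _ hx =>
      obtain ⟨a, rfl⟩ := hx
      rw [Derivation.liftKaehlerDifferential_comp_D, hd']
      exact hSc _ (hS a)
    | zero => rw [map_zero]; exact zero_mem _
    | add x y _ _ hx hy => rw [map_add]; exact add_mem hx hy
    | smul b x _ hx => rw [map_smul]; exact Submodule.smul_mem _ b hx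
  let h₀ : Ω[C⁄k] →ₗ[C] (Fin n → C) :=
    (LinearEquiv.ofInjective ι hι).symm.toLinearMap ∘ₗ d'.liftKaehlerDifferential.codRestrict _ hmem
  have hι0 : ∀ ω, ι (h₀ ω) = d'.liftKaehlerDifferential ω := fun ω =>
    congrArg Subtype.val ((LinearEquiv.ofInjective ι hι).apply_symm_apply ⟨_, hmem ω⟩)
  refine ⟨h₀, ?_⟩
  rw [eq_top_iff, ← hd, Submodule.span_le]
  have hc0 : algebraMap C L c ≠ 0 := fun h =>
    nonZeroDivisors.ne_zero c.2 (IsFractionRing.injective C L (h.trans (map_zero _).symm))
  have hC : ∀ a : C, d (algebraMap C L a) ∈ Submodule.span L (Set.range fun ω i => algebraMap C L (h₀ ω i)) := fun a => by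
    have : d (algebraMap C L a) = (algebraMap C L c)⁻¹ • (ι (h₀ (KaehlerDifferential.D k C a))) := by
      rw [hι0, Derivation.liftKaehlerDifferential_comp_D, hd', ← algebraMap_smul L (c : C), smul_smul,
        inv_mul_cancel₀ hc0, one_smul]
    rw [this]
    exact Submodule.smul_mem _ _ (Submodule.subset_span ⟨KaehlerDifferential.D k C a, rfl⟩)
  rintro _ ⟨z, rfl⟩
  obtain ⟨a, b, hb, rfl⟩ := IsFractionRing.div_surjective C z
  rw [SetLike.mem_coe, Derivation.leibniz_div]
  exact Submodule.smul_mem _ _ (sub_mem (Submodule.smul_mem _ _ (hC a)) (Submodule.smul_mem _ _ (hC b)))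

/-- The completed differentials have generic rank at least the number of variables. -/
theorem exists_surjective_completion [IsLocalRing C] [IsNoetherianRing C] [IsAdicComplete (maximalIdeal C) C]
    (hinj : Function.Injective (algebraMap (MvPowerSeries (Fin n) k) C)) :
    ∃ φ : L ⊗[C] AdicCompletion (maximalIdeal C) Ω[C⁄k] →ₗ[L] (Fin n → L), Function.Surjective φ := by
  obtain ⟨h₀, hspan⟩ := exists_generic_map L hinj
  haveI : IsAdicComplete (maximalIdeal C) (Fin n → C) := Compl.isAdicComplete_of_finite _ _
  let ι : (Fin n → C) →ₗ[C] (Fin n → L) :=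
    LinearMap.pi fun i => (Algebra.linearMap C L) ∘ₗ LinearMap.proj i
  let h₁ : AdicCompletion (maximalIdeal C) Ω[C⁄k] →ₗ[C] (Fin n → C) :=
    (AdicCompletion.ofLinearEquiv (maximalIdeal C) (Fin n → C)).symm.toLinearMap ∘ₗ
      (AdicCompletion.map (maximalIdeal C) h₀).restrictScalars C
  refine ⟨(ι ∘ₗ h₁).liftBaseChange L, ?_⟩
  rw [← LinearMap.range_eq_top, eq_top_iff, ← hspan, Submodule.span_le]
  rintro _ ⟨ω, rfl⟩
  refine ⟨1 ⊗ₜ AdicCompletion.of _ _ ω, ?_⟩
  rw [LinearMap.liftBaseChange_tmul, one_smul, LinearMap.comp_apply,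
    show h₁ (AdicCompletion.of _ _ ω) = h₀ ω by
      rw [LinearMap.comp_apply, LinearMap.coe_restrictScalars, AdicCompletion.map_of, LinearEquiv.coe_coe,
        AdicCompletion.ofLinearEquiv_symm_of]]
  rfl

end Main

end Groth.Agent.CKaehlerFree3
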