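/-
Fraction fields of power series rings are separable over the coefficient field, and the resulting count of
differentials of their finite extensions in terms of the imperfection module.
-/
import Groth.Agent.Lib.CartierEq3.Field
import Mathlib.RingTheory.MvPowerSeries.Derivative
import Mathlib.RingTheory.MvPowerSeries.NoZeroDivisors
import Mathlib.RingTheory.Etale.Kaehler
import Mathlib.LinearAlgebra.TensorProduct.RightExactness
import Mathlib.RingTheory.TensorProduct.Free

set_option autoImplicit false

universe u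

open TensorProduct

namespace Groth.Agent.CKaehlerFree3

section CoeffDeriv

variable {k : Type u} [CommRing k] {σ : Type} (d : Derivation ℤ k k)

/-- A derivation of the coefficients, applied coefficientwise. -/
theorem exists_coeff_derivation :
    ∃ g : MvPowerSeries σ k →+ MvPowerSeries σ k, (∀ a b, g (a * b) = a * g b + b * g a) ∧
      ∀ (f : MvPowerSeries σ k) (m : σ →₀ ℕ), MvPowerSeries.coeff m (g f) = d (MvPowerSeries.coeff m f) := by
  classical
  let g : MvPowerSeries σ k →+ MvPowerSeries σ k :=
    AddMonoidHom.mk' (fun f => fun m => d (MvPowerSeries.coeff m f)) fun a b => funext fun m => by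
      change d (MvPowerSeries.coeff m (a + b)) = d (MvPowerSeries.coeff m a) + d (MvPowerSeries.coeff m b)
      rw [map_add, map_add]
  have hg : ∀ f m, MvPowerSeries.coeff m (g f) = d (MvPowerSeries.coeff m f) := fun f m => rfl
  refine ⟨g, fun a b => MvPowerSeries.ext fun m => ?_, hg⟩
  rw [hg, mul_comm b (g a), map_add, MvPowerSeries.coeff_mul, MvPowerSeries.coeff_mul, MvPowerSeries.coeff_mul,
    map_sum, ← Finset.sum_add_distrib]
  refine Finset.sum_congr rfl fun p _ => ?_
  rw [Derivation.leibniz, hg, hg, smul_eq_mul, smul_eq_mul, mul_comm (MvPowerSeries.coeff p.2 b)]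

end CoeffDeriv

section LinAlg

variable {L U₀ U₁ U₂ V₁ V₂ : Type u} [Field L] [AddCommGroup U₀] [Module L U₀] [AddCommGroup U₁] [Module L U₁]
  [AddCommGroup U₂] [Module L U₂] [AddCommGroup V₁] [Module L V₁] [AddCommGroup V₂] [Module L V₂]

theorem finrank_ker_pushforward (α : U₀ →ₗ[L] U₁) (p : U₁ →ₗ[L] U₂) (m₁ : U₁ →ₗ[L] V₁) (m₂ : U₂ →ₗ[L] V₂)
    (q : V₁ →ₗ[L] V₂) (hα : Function.Injective α) (hp : Function.Surjective p) (hex : Function.Exact α p)
    (hq : Function.Exact (m₁ ∘ₗ α) q) (hsq : ∀ u, q (m₁ u) = m₂ (p u)) [Module.Finite L (LinearMap.ker m₁)] :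
    Module.Finite L (LinearMap.ker (m₁ ∘ₗ α)) ∧ Module.Finite L (LinearMap.ker m₂) ∧
      Module.finrank L (LinearMap.ker m₂) + Module.finrank L (LinearMap.ker (m₁ ∘ₗ α)) =
        Module.finrank L (LinearMap.ker m₁) := by
  let t : LinearMap.ker m₁ →ₗ[L] U₂ := p ∘ₗ (LinearMap.ker m₁).subtype
  have hrange : LinearMap.range t = LinearMap.ker m₂ := by
    refine le_antisymm ?_ fun v hv => ?_
    · rintro _ ⟨⟨u, hu⟩, rfl⟩
      rw [LinearMap.mem_ker, LinearMap.comp_apply, Submodule.subtype_apply, ← hsq, LinearMap.mem_ker.1 hu, map_zero]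
    · obtain ⟨u, rfl⟩ := hp v
      rw [LinearMap.mem_ker, ← hsq] at hv
      obtain ⟨w, hw⟩ := (hq _).1 hv
      refine ⟨⟨u - α w, ?_⟩, ?_⟩
      · rw [LinearMap.mem_ker, map_sub, sub_eq_zero]
        exact hw.symm
      · rw [LinearMap.comp_apply, Submodule.subtype_apply, map_sub, hex.apply_apply_eq_zero, sub_zero]
  let i : LinearMap.ker (m₁ ∘ₗ α) →ₗ[L] LinearMap.ker m₁ :=
    (α ∘ₗ (LinearMap.ker (m₁ ∘ₗ α)).subtype).codRestrict _ fun u => u.2
  have hi : Function.Injective i := fun a b h => Subtype.ext (hα (congrArg Subtype.val h))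
  have hker : LinearMap.range i = LinearMap.ker t := by
    refine le_antisymm ?_ fun v hv => ?_
    · rintro _ ⟨u, rfl⟩
      exact hex.apply_apply_eq_zero _
    · obtain ⟨u, hu⟩ := (hex _).1 hv
      exact ⟨⟨u, (congrArg m₁ hu).trans v.2⟩, Subtype.ext hu⟩
  haveI h0 : Module.Finite L (LinearMap.ker (m₁ ∘ₗ α)) := Module.Finite.of_injective i hi
  haveI h2 : Module.Finite L (LinearMap.ker m₂) := hrange ▸ Module.Finite.range t
  refine ⟨h0, h2, ?_⟩
  have h1 := t.finrank_range_add_finrank_ker
  rw [hrange, ← hker, LinearMap.finrank_range_of_inj hi] at h1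
  exact h1

theorem le_rank_of_exact {W P : Type u} [AddCommGroup W] [Module L W] [AddCommGroup P] [Module L P]
    (m : U₂ →ₗ[L] V₂) (q : V₂ →ₗ[L] W) (π : U₂ →ₗ[L] P)
    (hm : Function.Exact m q) (hq : Function.Surjective q) (hπ : Function.Surjective π)
    [Module.Finite L (LinearMap.ker m)] [Module.Finite L W] [Module.Finite L P] (c : ℕ)
    (hc : c + Module.finrank L (LinearMap.ker m) ≤ Module.finrank L P + Module.finrank L W) :
    (c : Cardinal.{u}) ≤ Module.rank L V₂ := by
  obtain ⟨σ, hσ⟩ := π.exists_rightInverse_of_surjective (LinearMap.range_eq_top.2 hπ)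
  have hσ' : ∀ p, π (σ p) = p := fun p => LinearMap.congr_fun hσ p
  let Z := (LinearMap.ker π).map m
  let τ : P →ₗ[L] V₂ ⧸ Z := Z.mkQ ∘ₗ m ∘ₗ σ
  let qbar : V₂ ⧸ Z →ₗ[L] W := Z.liftQ q (by
    rintro _ ⟨u, -, rfl⟩
    exact hm.apply_apply_eq_zero u)
  have hqbar : Function.Surjective qbar := fun w => by
    obtain ⟨v, rfl⟩ := hq w
    exact ⟨Z.mkQ v, rfl⟩
  have hrange : LinearMap.range τ = LinearMap.ker qbar := by
    refine le_antisymm ?_ fun v hv => ?_
    · rintro _ ⟨p, rfl⟩
      exact hm.apply_apply_eq_zero _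
    · obtain ⟨v, rfl⟩ := Z.mkQ_surjective v
      obtain ⟨u, rfl⟩ := (hm v).1 hv
      refine ⟨π u, (Submodule.Quotient.eq _).2 ?_⟩
      rw [LinearMap.comp_apply, ← map_sub]
      exact Submodule.mem_map_of_mem (by rw [LinearMap.mem_ker, map_sub, hσ', sub_self])
  have hker : LinearMap.ker τ ≤ LinearMap.range (π ∘ₗ (LinearMap.ker m).subtype) := fun p hp => by
    obtain ⟨u₀, hu₀, hmu⟩ := (Submodule.Quotient.mk_eq_zero Z).1 (LinearMap.mem_ker.1 hp)
    refine ⟨⟨σ p - u₀, by rw [LinearMap.mem_ker, map_sub, hmu]; exact sub_self _⟩, ?_⟩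
    rw [LinearMap.comp_apply, Submodule.subtype_apply, map_sub, hσ', LinearMap.mem_ker.1 hu₀, sub_zero]
  haveI : Module.Finite L (LinearMap.ker qbar) := hrange ▸ Module.Finite.range τ
  haveI : Module.Finite L (V₂ ⧸ Z) := by
    constructor
    refine Submodule.fg_of_fg_map_of_fg_inf_ker qbar ?_ ?_
    · rw [Submodule.map_top, LinearMap.range_eq_top.2 hqbar]; exact Module.finite_def.1 inferInstance
    · rw [top_inf_eq]; exact Module.Finite.iff_fg.1 inferInstance
  have h1 := τ.finrank_range_add_finrank_ker
  have h2 := qbar.finrank_range_add_finrank_ker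
  rw [LinearMap.range_eq_top.2 hqbar, finrank_top, ← hrange] at h2
  have h3 : Module.finrank L (LinearMap.ker τ) ≤ Module.finrank L (LinearMap.ker m) :=
    (Submodule.finrank_mono hker).trans (LinearMap.finrank_range_le _)
  calc (c : Cardinal.{u}) ≤ (Module.finrank L (V₂ ⧸ Z) : Cardinal.{u}) := Nat.cast_le.2 (by omega)
    _ = Module.rank L (V₂ ⧸ Z) := Module.finrank_eq_rank L _
    _ ≤ Module.rank L V₂ := LinearMap.rank_le_of_surjective Z.mkQ Z.mkQ_surjective

end LinAlg

section Separable

variable {k : Type u} [Field k] {E : Type u} [Field E] [Algebra k E]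

/-- A fraction field of a domain to which all derivations of `k` extend is separable over `k`. -/
theorem injective_mapBaseChange_of_extend {R : Type u} [CommRing R] [Algebra k R] [Algebra R E] [IsFractionRing R E]
    [IsScalarTower k R E]
    (hext : ∀ d : Derivation ℤ k k, ∃ δ : Derivation ℤ R R, ∀ c, δ (algebraMap k R c) = algebraMap k R (d c)) :
    Function.Injective (KaehlerDifferential.mapBaseChange ℤ k E) := by
  classical
  let b := Module.Basis.ofVectorSpace k Ω[k⁄ℤ]
  let bE := Algebra.TensorProduct.basis E b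
  haveI : Algebra.FormallyEtale R E := Algebra.FormallyEtale.of_isLocalization (nonZeroDivisors R)
  refine (injective_iff_map_eq_zero _).2 fun z hz => ?_
  apply bE.repr.injective
  rw [map_zero]
  refine Finsupp.ext fun j => ?_
  obtain ⟨δ, hδ⟩ := hext ((b.coord j).compDer (KaehlerDifferential.D ℤ k))
  let δE : Derivation ℤ R E := (Algebra.linearMap R E).compDer δ
  let φ : Ω[E⁄ℤ] →ₗ[E] E := (δE.liftKaehlerDifferential.liftBaseChange E) ∘ₗ
    (KaehlerDifferential.tensorKaehlerEquivOfFormallyEtale ℤ R E).symm.toLinearMap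
  have hφ : ∀ r : R, φ (KaehlerDifferential.D ℤ E (algebraMap R E r)) = algebraMap R E (δ r) := fun r => by
    rw [LinearMap.comp_apply, LinearEquiv.coe_coe,
      show (KaehlerDifferential.tensorKaehlerEquivOfFormallyEtale ℤ R E).symm (KaehlerDifferential.D ℤ E (algebraMap R E r)) =
        1 ⊗ₜ KaehlerDifferential.D ℤ R r from (LinearEquiv.symm_apply_eq _).2 (by simp),
      LinearMap.liftBaseChange_tmul, one_smul, Derivation.liftKaehlerDifferential_comp_D]
    rfl
  have hC : ∀ c : k, φ (KaehlerDifferential.D ℤ E (algebraMap k E c)) =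
      algebraMap k E (b.coord j (KaehlerDifferential.D ℤ k c)) := fun c => by
    rw [IsScalarTower.algebraMap_apply k R E, hφ, IsScalarTower.algebraMap_apply k R E, hδ]
    rfl
  have hcoord : φ ∘ₗ KaehlerDifferential.mapBaseChange ℤ k E = bE.coord j := by
    refine bE.ext fun i => ?_
    rw [show bE i = (1 : E) ⊗ₜ[k] b i from Algebra.TensorProduct.basis_apply b i, LinearMap.comp_apply,
      KaehlerDifferential.mapBaseChange_tmul, one_smul]
    have hR : ∀ w : Ω[k⁄ℤ], φ (KaehlerDifferential.map ℤ ℤ k E w) = algebraMap k E (b.coord j w) := fun w => by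
      have hw : w ∈ Submodule.span k (Set.range (KaehlerDifferential.D ℤ k)) := by
        rw [KaehlerDifferential.span_range_derivation]; trivial
      induction hw using Submodule.span_induction with
      | mem _ hx => obtain ⟨c, rfl⟩ := hx; rw [KaehlerDifferential.map_D]; exact hC c
      | zero => simp only [map_zero]
      | add x y _ _ hx hy => simp only [map_add, hx, hy]
      | smul a x _ hx =>
        rw [map_smul, ← algebraMap_smul E a, map_smul, hx, map_smul, smul_eq_mul, smul_eq_mul, map_mul]
    rw [hR, Module.Basis.coord_apply, Module.Basis.coord_apply,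
      show (1 : E) ⊗ₜ[k] b i = bE i from (Algebra.TensorProduct.basis_apply b i).symm, bE.repr_self, b.repr_self,
      Finsupp.single_apply, Finsupp.single_apply]
    split <;> simp
  rw [← Module.Basis.coord_apply, ← hcoord, LinearMap.comp_apply, hz, map_zero]
  rfl

/-- The fraction field of a power series ring is separable over the coefficient field. -/
theorem injective_mapBaseChange_fractionRing (n : ℕ) [Algebra (MvPowerSeries (Fin n) k) E]
    [IsFractionRing (MvPowerSeries (Fin n) k) E] [IsScalarTower k (MvPowerSeries (Fin n) k) E] :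
    Function.Injective (KaehlerDifferential.mapBaseChange ℤ k E) := by
  refine injective_mapBaseChange_of_extend (R := MvPowerSeries (Fin n) k) fun d => ?_
  obtain ⟨δ, hmul, hδ⟩ := exists_coeff_derivation (σ := Fin n) d
  letI : Algebra ℤ (MvPowerSeries (Fin n) k) := Ring.toIntAlgebra _
  refine ⟨Derivation.mk' δ.toIntLinearMap fun a b => hmul a b,
    fun c => MvPowerSeries.ext fun m => ?_⟩
  change MvPowerSeries.coeff m (δ _) = _
  rw [hδ, MvPowerSeries.algebraMap_apply, MvPowerSeries.algebraMap_apply, Algebra.algebraMap_self_apply,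
    Algebra.algebraMap_self_apply, MvPowerSeries.coeff_C, MvPowerSeries.coeff_C]
  by_cases hm : m = 0
  · rw [if_pos hm, if_pos hm]
  · rw [if_neg hm, if_neg hm, map_zero]

end Separable

section Count

variable {k E L : Type u} [Field k] [Field E] [Field L] [Algebra k E] [Algebra E L] [Algebra k L]
  [IsScalarTower k E L] [Module.Finite E L]

theorem imperfection_count (hsep : Function.Injective (KaehlerDifferential.mapBaseChange ℤ k E)) :
    Module.Finite L Ω[L⁄E] ∧ Module.Finite L (LinearMap.ker (KaehlerDifferential.mapBaseChange ℤ k L)) ∧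
      Module.Finite L (LinearMap.ker (KaehlerDifferential.mapBaseChange k E L)) ∧
      Module.finrank L (LinearMap.ker (KaehlerDifferential.mapBaseChange k E L)) +
        Module.finrank L (LinearMap.ker (KaehlerDifferential.mapBaseChange ℤ k L)) = Module.finrank L Ω[L⁄E] := by
  haveI : Algebra.IsAlgebraic E L := Algebra.IsAlgebraic.of_finite E L
  obtain ⟨hW, hU, hcart⟩ := CartierEq3.cartier_equality E L
  rw [trdeg_eq_zero, map_zero] at hcart
  haveI : Module.Finite L (LinearMap.ker (KaehlerDifferential.mapBaseChange ℤ E L)) := hU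
  let cbc := (TensorProduct.AlgebraTensorModule.cancelBaseChange k E L L Ω[k⁄ℤ]).symm
  let α : L ⊗[k] Ω[k⁄ℤ] →ₗ[L] L ⊗[E] Ω[E⁄ℤ] :=
    (KaehlerDifferential.mapBaseChange ℤ k E).baseChange L ∘ₗ cbc.toLinearMap
  let p : L ⊗[E] Ω[E⁄ℤ] →ₗ[L] L ⊗[E] Ω[E⁄k] := (KaehlerDifferential.map ℤ k E E).baseChange L
  have hα : Function.Injective α :=
    (Module.Flat.lTensor_preserves_injective_linearMap (KaehlerDifferential.mapBaseChange ℤ k E) hsep).comp
      cbc.injective
  have hex : Function.Exact α p := fun y => by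
    refine (lTensor_exact L (KaehlerDifferential.exact_mapBaseChange_map ℤ k E)
      (KaehlerDifferential.map_surjective ℤ k E) y).trans ⟨fun ⟨x, hx⟩ => ⟨cbc.symm x, ?_⟩, fun ⟨x, hx⟩ => ⟨cbc x, hx⟩⟩
    change (KaehlerDifferential.mapBaseChange ℤ k E).baseChange L (cbc (cbc.symm x)) = y
    rw [LinearEquiv.apply_symm_apply, LinearMap.baseChange_eq_ltensor, hx]
  have hp : Function.Surjective p := LinearMap.lTensor_surjective _ (KaehlerDifferential.map_surjective ℤ k E)
  have hcomp : KaehlerDifferential.mapBaseChange ℤ E L ∘ₗ α = KaehlerDifferential.mapBaseChange ℤ k L := by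
    refine (TensorProduct.isBaseChange k Ω[k⁄ℤ] L).algHom_ext _ _ fun w => ?_
    have hw : w ∈ Submodule.span k (Set.range (KaehlerDifferential.D ℤ k)) := by
      rw [KaehlerDifferential.span_range_derivation]; trivial
    induction hw using Submodule.span_induction with
    | mem _ hx =>
      obtain ⟨c, rfl⟩ := hx
      change KaehlerDifferential.mapBaseChange ℤ E L ((KaehlerDifferential.mapBaseChange ℤ k E).baseChange L
        (cbc ((1 : L) ⊗ₜ KaehlerDifferential.D ℤ k c))) = KaehlerDifferential.mapBaseChange ℤ k L ((1 : L) ⊗ₜ _)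
      rw [show cbc ((1 : L) ⊗ₜ KaehlerDifferential.D ℤ k c) = (1 : L) ⊗ₜ[E] ((1 : E) ⊗ₜ[k] KaehlerDifferential.D ℤ k c) from
        TensorProduct.AlgebraTensorModule.cancelBaseChange_symm_tmul _ _ _ _ _]
      simp only [LinearMap.baseChange_tmul, KaehlerDifferential.mapBaseChange_tmul, KaehlerDifferential.map_D, one_smul]
      rw [← IsScalarTower.algebraMap_apply]
    | zero => simp only [map_zero]
    | add x y _ _ hx hy => simp only [map_add, hx, hy]
    | smul a x _ hx => rw [map_smul, ← algebraMap_smul L a, map_smul, map_smul, hx]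
  have hsq : ∀ u, KaehlerDifferential.map ℤ k L L (KaehlerDifferential.mapBaseChange ℤ E L u) =
      KaehlerDifferential.mapBaseChange k E L (p u) := fun u => by
    induction u using TensorProduct.induction_on with
    | zero => simp only [map_zero]
    | add x y hx hy => simp only [map_add, hx, hy]
    | tmul c w =>
      change _ = KaehlerDifferential.mapBaseChange k E L ((KaehlerDifferential.map ℤ k E E).baseChange L (c ⊗ₜ w))
      rw [LinearMap.baseChange_tmul, KaehlerDifferential.mapBaseChange_tmul, KaehlerDifferential.mapBaseChange_tmul,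
        map_smul]
      congr 1
      have hw : w ∈ Submodule.span E (Set.range (KaehlerDifferential.D ℤ E)) := by
        rw [KaehlerDifferential.span_range_derivation]; trivial
      induction hw using Submodule.span_induction with
      | mem _ hx => obtain ⟨x, rfl⟩ := hx; simp [KaehlerDifferential.map_D]
      | zero => simp only [map_zero]
      | add a b _ _ ha hb => simp only [map_add, ha, hb]
      | smul a b _ hb => simp only [map_smul, LinearMap.map_smul_of_tower, hb]
  obtain ⟨h0, h2, h3⟩ := finrank_ker_pushforward α p (KaehlerDifferential.mapBaseChange ℤ E L)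
    (KaehlerDifferential.mapBaseChange k E L) (KaehlerDifferential.map ℤ k L L) hα hp hex
    (hcomp.symm ▸ KaehlerDifferential.exact_mapBaseChange_map ℤ k L) hsq
  rw [hcomp] at h0 h3
  refine ⟨hW, h0, h2, h3.trans ?_⟩
  have hc : Module.finrank L (LinearMap.ker (KaehlerDifferential.mapBaseChange ℤ E L)) =
      Module.finrank L (EGA41.imperfection ℤ E L) := rfl
  have e : ∀ a b : ℕ, (a : ℤ) - b = ((0 : ℕ) : ℤ) → b = a := by omega
  rw [hc]
  exact e _ _ hcart

end Count

end Groth.Agent.CKaehlerFree3
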