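/-
For a finite extension of a power series ring, the completed differentials are generated, up to the annihilator of
the relative differentials, by the differentials of the variables.
-/
import Groth.Agent.Lib.H2Alg.PSHom
import Groth.Agent.Lib.Compl.Complete
import Mathlib.RingTheory.Kaehler.Basic
import Mathlib.RingTheory.AdicCompletion.Completeness
import Mathlib.RingTheory.AdicCompletion.Functoriality

set_option autoImplicit false

universe u

open IsLocalRing TensorProduct

namespace Groth.Agent.CKaehlerFree3

variable {k : Type u} [Field k] {r : ℕ}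

theorem span_D_X_sup_pow (n : ℕ) :
    Submodule.span (MvPowerSeries (Fin r) k)
        (Set.range fun i => KaehlerDifferential.D k (MvPowerSeries (Fin r) k) (MvPowerSeries.X i)) ⊔
      maximalIdeal (MvPowerSeries (Fin r) k) ^ n • ⊤ = ⊤ := by
  set P := MvPowerSeries (Fin r) k
  set N := Submodule.span P (Set.range fun i => KaehlerDifferential.D k P (MvPowerSeries.X i))
  have h1 : N ⊔ maximalIdeal P • ⊤ = ⊤ := by
    rw [eq_top_iff, ← KaehlerDifferential.span_range_derivation, Submodule.span_le]
    rintro _ ⟨f, rfl⟩
    have hf : f - algebraMap k P (MvPowerSeries.constantCoeff f) ∈ maximalIdeal P := by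
      rw [mem_maximalIdeal, mem_nonunits_iff, MvPowerSeries.isUnit_iff_constantCoeff, map_sub]
      simp [P, MvPowerSeries.algebraMap_apply]
    rw [H2Alg.PSHom.maximalIdeal_eq, H2Alg.PSHom.V, Ideal.mem_span_range_iff_exists_fun] at hf
    obtain ⟨c, hc⟩ := hf
    have h2 : KaehlerDifferential.D k P f = KaehlerDifferential.D k P (∑ i, c i * MvPowerSeries.X i) := by
      rw [hc, map_sub, Derivation.map_algebraMap, sub_zero]
    rw [SetLike.mem_coe, h2, map_sum]
    refine Submodule.sum_mem _ fun i _ => ?_
    rw [Derivation.leibniz]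
    refine add_mem (Submodule.mem_sup_left (Submodule.smul_mem _ _ (Submodule.subset_span ⟨i, rfl⟩)))
      (Submodule.mem_sup_right (Submodule.smul_mem_smul ?_ (Submodule.subset_span ⟨c i, rfl⟩)))
    rw [H2Alg.PSHom.maximalIdeal_eq]
    exact H2Alg.PSHom.X_mem i
  induction n with
  | zero => rw [pow_zero, Submodule.one_smul, sup_top_eq]
  | succ j ih =>
    rw [eq_top_iff]
    calc ⊤ = N ⊔ maximalIdeal P • ⊤ := h1.symm
      _ ≤ _ := by
        refine sup_le le_sup_left ?_
        conv_lhs => rw [← ih]
        rw [Submodule.smul_sup, ← Submodule.mul_smul, ← pow_succ']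
        exact sup_le_sup_right Submodule.smul_le_right _

variable {A : Type u} [CommRing A] [IsLocalRing A] [Algebra k A] [Algebra (MvPowerSeries (Fin r) k) A]
  [IsScalarTower k (MvPowerSeries (Fin r) k) A]

theorem mapBaseChange_mem_sup [IsLocalHom (algebraMap (MvPowerSeries (Fin r) k) A)] (n : ℕ)
    (x : A ⊗[MvPowerSeries (Fin r) k] Ω[MvPowerSeries (Fin r) k⁄k]) :
    KaehlerDifferential.mapBaseChange k (MvPowerSeries (Fin r) k) A x ∈
      Submodule.span A (Set.range fun i =>
          KaehlerDifferential.D k A (algebraMap (MvPowerSeries (Fin r) k) A (MvPowerSeries.X i))) ⊔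
        maximalIdeal A ^ n • ⊤ := by
  induction x using TensorProduct.induction_on with
  | zero => rw [map_zero]; exact zero_mem _
  | add a b ha hb => rw [map_add]; exact add_mem ha hb
  | tmul a w =>
    rw [KaehlerDifferential.mapBaseChange_tmul]
    refine Submodule.smul_mem _ a ?_
    obtain ⟨v, hv, u, hu, rfl⟩ := Submodule.mem_sup.1 ((span_D_X_sup_pow n).ge (Submodule.mem_top (x := w)))
    rw [map_add]
    refine add_mem (Submodule.mem_sup_left ?_) (Submodule.mem_sup_right ?_)
    · induction hv using Submodule.span_induction with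
      | mem _ hx =>
        obtain ⟨i, rfl⟩ := hx
        rw [KaehlerDifferential.map_D]
        exact Submodule.subset_span ⟨i, rfl⟩
      | zero => rw [map_zero]; exact zero_mem _
      | add a b _ _ ha hb => rw [map_add]; exact add_mem ha hb
      | smul c b _ hb =>
        rw [map_smul, ← algebraMap_smul A c]
        exact Submodule.smul_mem _ _ hb
    · refine Submodule.smul_induction_on hu (fun c hc z _ => ?_) fun a b ha hb => ?_
      · rw [map_smul, ← algebraMap_smul A c]
        refine Submodule.smul_mem_smul ?_ trivial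
        have hle : (maximalIdeal (MvPowerSeries (Fin r) k) ^ n).map (algebraMap (MvPowerSeries (Fin r) k) A) ≤
            maximalIdeal A ^ n := by
          rw [Ideal.map_pow]
          exact Ideal.pow_right_mono (Ideal.map_le_iff_le_comap.2 fun z hz => map_nonunit _ z hz) n
        exact hle (Ideal.mem_map_of_mem _ hc)
      · rw [map_add]; exact add_mem ha hb

/-- If `s` annihilates the relative differentials, it moves the completed differentials into the span of the
differentials of the variables. -/
theorem smul_mem_span [IsNoetherianRing A] [IsAdicComplete (maximalIdeal A) A]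
    [IsLocalHom (algebraMap (MvPowerSeries (Fin r) k) A)]
    [Module.Finite A (AdicCompletion (maximalIdeal A) Ω[A⁄k])] (s : A)
    (hs : ∀ w : Ω[A⁄MvPowerSeries (Fin r) k], s • w = 0) (y : AdicCompletion (maximalIdeal A) Ω[A⁄k]) :
    s • y ∈ Submodule.span A (Set.range fun i => AdicCompletion.of (maximalIdeal A) Ω[A⁄k]
      (KaehlerDifferential.D k A (algebraMap (MvPowerSeries (Fin r) k) A (MvPowerSeries.X i)))) := by
  set N := Submodule.span A (Set.range fun i => AdicCompletion.of (maximalIdeal A) Ω[A⁄k]
      (KaehlerDifferential.D k A (algebraMap (MvPowerSeries (Fin r) k) A (MvPowerSeries.X i))))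
  have hfg : (maximalIdeal A).FG := IsNoetherian.noetherian _
  haveI : IsAdicComplete (maximalIdeal A) (AdicCompletion (maximalIdeal A) Ω[A⁄k] ⧸ N) :=
    Compl.isAdicComplete_of_finite _ _
  refine (Submodule.Quotient.mk_eq_zero N).1
    (IsHausdorff.haus' (I := maximalIdeal A) (Submodule.Quotient.mk (p := N) (s • y)) fun n => ?_)
  rw [SModEq.zero]
  obtain ⟨w, hw⟩ := Submodule.Quotient.mk_surjective _ (y.val n)
  obtain ⟨x, hx⟩ := (KaehlerDifferential.exact_mapBaseChange_map k (MvPowerSeries (Fin r) k) A (s • w)).1
    (by rw [map_smul, hs])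
  obtain ⟨v, hv, u, hu, hvu⟩ := Submodule.mem_sup.1 (mapBaseChange_mem_sup (k := k) n x)
  rw [hx] at hvu
  have hvN : AdicCompletion.of (maximalIdeal A) Ω[A⁄k] v ∈ N := by
    have := Submodule.mem_map_of_mem (f := AdicCompletion.of (maximalIdeal A) Ω[A⁄k]) hv
    rwa [Submodule.map_span, ← Set.range_comp] at this
  have hz : s • y - AdicCompletion.of (maximalIdeal A) Ω[A⁄k] v ∈
      (maximalIdeal A ^ n • ⊤ : Submodule A (AdicCompletion (maximalIdeal A) Ω[A⁄k])) := by
    rw [AdicCompletion.pow_smul_top_eq_ker_eval hfg, LinearMap.mem_ker, map_sub, map_smul, sub_eq_zero]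
    change s • y.val n = _
    rw [← hw]
    exact (Submodule.Quotient.eq _).2 (by dsimp only; rw [← hvu, add_sub_cancel_left]; exact hu)
  have := Submodule.mem_map_of_mem (f := N.mkQ) hz
  rw [Submodule.map_smul'', Submodule.map_top, Submodule.range_mkQ, map_sub, Submodule.mkQ_apply,
    Submodule.mkQ_apply, (Submodule.Quotient.mk_eq_zero N).2 hvN, sub_zero] at this
  exact this

end Groth.Agent.CKaehlerFree3
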