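/-
Differentials of power series over a field finite over its `p`-th powers; finite extensions of fraction fields.
-/
import Groth.Agent.Lib.CKaehlerFree3.GenRank
import Groth.Agent.Lib.CKaehlerFree3.Top
import Groth.Agent.Lib.CKaehlerFree3.Imperf
import Mathlib.Algebra.CharP.Lemmas
import Mathlib.RingTheory.Nakayama

set_option autoImplicit false

universe u

open IsLocalRing TensorProduct

namespace Groth.Agent.CKaehlerFree3

theorem finite_of_hom {k : Type u} [Field k] {n : ℕ} {A : Type u} [CommRing A] [IsLocalRing A] [IsNoetherianRing A]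
    [IsHausdorff (maximalIdeal A) A] (φ : MvPowerSeries (Fin n) k →+* A)
    (hres : ((residue A).comp (φ.comp MvPowerSeries.C)).Finite)
    (hle : (maximalIdeal (MvPowerSeries (Fin n) k)).map φ ≤ maximalIdeal A) (N : ℕ)
    (hN : maximalIdeal A ^ N ≤ (maximalIdeal (MvPowerSeries (Fin n) k)).map φ) : φ.Finite := by
  let P := MvPowerSeries (Fin n) k
  letI : Algebra P A := φ.toAlgebra
  letI : Algebra k A := (φ.comp MvPowerSeries.C).toAlgebra
  haveI : IsScalarTower k P A := IsScalarTower.of_algebraMap_eq fun a => by
    rw [MvPowerSeries.algebraMap_apply, Algebra.algebraMap_self_apply]; rfl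
  haveI : Module.Finite k (ResidueField A) := by
    have : (algebraMap k (ResidueField A)).Finite := by
      rw [IsScalarTower.algebraMap_eq k A (ResidueField A)]; exact hres
    exact RingHom.finite_algebraMap.1 this
  haveI : IsAdicComplete (maximalIdeal P) P := by
    rw [H2Alg.PSHom.maximalIdeal_eq]
    exact { toIsHausdorff := inferInstance, toIsPrecomplete := inferInstance }
  haveI : IsHausdorff ((maximalIdeal P).map (algebraMap P A)) A :=
    ⟨fun z hz => IsHausdorff.haus' (I := maximalIdeal A) z fun j => (hz j).mono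
      (Submodule.smul_mono_left (Ideal.pow_right_mono hle j))⟩
  haveI : IsArtinianRing (A ⧸ (maximalIdeal P).map (algebraMap P A)) := by
    haveI : Nontrivial (A ⧸ (maximalIdeal P).map (algebraMap P A)) :=
      Ideal.Quotient.nontrivial_iff.mpr (ne_top_of_le_ne_top (maximalIdeal.isMaximal A).ne_top hle)
    haveI : IsLocalRing (A ⧸ (maximalIdeal P).map (algebraMap P A)) :=
      IsLocalRing.of_surjective' _ Ideal.Quotient.mk_surjective
    exact (isArtinianRing_iff_isNilpotent_maximalIdeal _).mpr ⟨N, by
      rw [← IsLocalRing.map_maximalIdeal_of_surjective _ Ideal.Quotient.mk_surjective, ← Ideal.map_pow]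
      exact Ideal.map_mk_eq_bot_of_le hN⟩
  have hfl : IsFiniteLength A (A ⧸ (maximalIdeal P).map (algebraMap P A)) :=
    isFiniteLength_iff_isNoetherian_isArtinian.mpr
      ⟨inferInstance, isArtinian_of_surjective_algebraMap (R := A ⧸ (maximalIdeal P).map (algebraMap P A))
        Ideal.Quotient.mk_surjective⟩
  haveI : Module.Finite k (A ⧸ (maximalIdeal P).map (algebraMap P A)) := finite_of_isFiniteLength _ hfl
  haveI : Module.Finite P (A ⧸ (maximalIdeal P).map (algebraMap P A)) := Module.Finite.of_restrictScalars_finite k P _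
  exact CplDomain.finite_of_reduction (A := A) (maximalIdeal P)

theorem exists_generators {P Q : Type u} [CommRing P] [CommRing Q] (φ : Q →+* P) (h : φ.Finite) :
    ∃ (t : ℕ) (g : Fin t → P), ∀ f : P, ∃ r : Fin t → Q, f = ∑ i, φ (r i) * g i := by
  letI := φ.toAlgebra
  haveI : Module.Finite Q P := h
  obtain ⟨t, g, hg⟩ := Module.Finite.exists_fin' Q P
  refine ⟨t, fun i => g (Pi.single i 1), fun f => ?_⟩
  obtain ⟨r, rfl⟩ := hg f
  refine ⟨r, ?_⟩
  conv_lhs => rw [pi_eq_sum_univ r, map_sum]
  refine Finset.sum_congr rfl fun i _ => ?_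
  rw [map_smul, Algebra.smul_def]
  congr 2
  funext j
  simp [Pi.single_apply, eq_comm]

/-- Over a field finite over its `p`-th powers the differentials of power series are spanned by those of the
variables. -/
theorem span_D_X_eq_top {k : Type u} [Field k] (p : ℕ) [Fact p.Prime] [CharP k p] (hk : (frobenius k p).Finite)
    (n : ℕ) :
    Submodule.span (MvPowerSeries (Fin n) k)
      (Set.range fun i => KaehlerDifferential.D k (MvPowerSeries (Fin n) k) (MvPowerSeries.X i)) = ⊤ := by
  classical
  let P := MvPowerSeries (Fin n) k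
  haveI := H2Alg.PSHom.isRegularLocalRing k n
  haveI hcharP : CharP P p := charP_of_injective_algebraMap (algebraMap k P).injective p
  haveI : IsAdicComplete (maximalIdeal P) P := by
    rw [H2Alg.PSHom.maximalIdeal_eq]
    exact { toIsHausdorff := inferInstance, toIsPrecomplete := inferInstance }
  have hfrob : (frobenius P p).Finite := by
    have hC : (frobenius P p).comp MvPowerSeries.C = (MvPowerSeries.C : k →+* P).comp (frobenius k p) :=
      RingHom.ext fun a => by
        rw [RingHom.comp_apply, RingHom.comp_apply, frobenius_def, frobenius_def, map_pow]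
    obtain ⟨N, hN⟩ : ∃ N, maximalIdeal P ^ N ≤ (maximalIdeal P).map (frobenius P p) := by
      refine Ideal.exists_pow_le_of_le_radical_of_fg ?_ (IsNoetherian.noetherian _)
      intro z hz
      exact ⟨p, by rw [← frobenius_def]; exact Ideal.mem_map_of_mem _ hz⟩
    refine finite_of_hom (frobenius P p) ?_ ?_ N hN
    · rw [hC, ← RingHom.comp_assoc]
      refine RingHom.Finite.comp ?_ hk
      refine RingHom.Finite.of_surjective _ fun x => ?_
      obtain ⟨f, rfl⟩ := residue_surjective x
      refine ⟨MvPowerSeries.constantCoeff f, ?_⟩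
      rw [RingHom.comp_apply, ← sub_eq_zero, ← map_sub, residue_eq_zero_iff, mem_maximalIdeal, mem_nonunits_iff,
        MvPowerSeries.isUnit_iff_constantCoeff, map_sub, MvPowerSeries.constantCoeff_C, sub_self]
      exact not_isUnit_zero
    · refine Ideal.map_le_iff_le_comap.2 fun z hz => ?_
      rw [Ideal.mem_comap, frobenius_def]
      exact Ideal.pow_mem_of_mem _ hz p (Nat.Prime.pos Fact.out)
  obtain ⟨t, g, hg⟩ : ∃ (t : ℕ) (g : Fin t → P), ∀ f : P, ∃ r : Fin t → P, f = ∑ i, r i ^ p * g i := by
    obtain ⟨t, g, hg⟩ := exists_generators (frobenius P p) hfrob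
    exact ⟨t, g, fun f => by obtain ⟨r, hr⟩ := hg f; exact ⟨r, by simpa only [frobenius_def] using hr⟩⟩
  have hfin : Module.Finite P Ω[P⁄k] := by
    refine ⟨⟨Finset.univ.image fun i => KaehlerDifferential.D k P (g i), eq_top_iff.2 ?_⟩⟩
    rw [← KaehlerDifferential.span_range_derivation, Submodule.span_le]
    rintro _ ⟨f, rfl⟩
    obtain ⟨r, rfl⟩ := hg f
    rw [SetLike.mem_coe, map_sum]
    refine Submodule.sum_mem _ fun i _ => ?_
    rw [Derivation.leibniz, Derivation.leibniz_pow, ← Nat.cast_smul_eq_nsmul P, CharP.cast_eq_zero,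
      zero_smul, smul_zero, add_zero]
    exact Submodule.smul_mem _ _ (Submodule.subset_span (Finset.mem_coe.2 (Finset.mem_image.2
      ⟨i, Finset.mem_univ i, rfl⟩)))
  refine eq_top_iff.2 ?_
  refine Submodule.le_of_le_smul_of_le_jacobson_bot (I := maximalIdeal P) hfin.fg_top
    (IsLocalRing.maximalIdeal_le_jacobson _) ?_
  rw [← pow_one (maximalIdeal P)]
  exact (span_D_X_sup_pow 1).ge

/-- The fraction field of a finite injective extension is finite over the fraction field. -/
theorem finite_fractionRing {R C : Type u} [CommRing R] [IsDomain R] [CommRing C] [IsDomain C] [Algebra R C]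
    [Module.Finite R C] (E L : Type u) [Field E] [Field L] [Algebra R E] [IsFractionRing R E] [Algebra C L]
    [IsFractionRing C L] [Algebra R L] [IsScalarTower R C L] [Algebra E L] [IsScalarTower R E L] :
    Module.Finite E L := by
  classical
  have hRL : Function.Injective (algebraMap R L) := by
    rw [IsScalarTower.algebraMap_eq R E L]
    exact (algebraMap E L).injective.comp (IsFractionRing.injective R E)
  have hinj : Function.Injective (algebraMap R C) := fun a b h => hRL (by
    rw [IsScalarTower.algebraMap_apply R C L, h, ← IsScalarTower.algebraMap_apply R C L])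
  obtain ⟨s, hs⟩ := Module.finite_def.1 (inferInstance : Module.Finite R C)
  have hmem : ∀ c : C, algebraMap C L c ∈ Submodule.span E ((algebraMap C L) '' (s : Set C)) := fun c => by
    have hc : c ∈ Submodule.span R (s : Set C) := by rw [hs]; trivial
    induction hc using Submodule.span_induction with
    | mem x hx => exact Submodule.subset_span ⟨x, hx, rfl⟩
    | zero => rw [map_zero]; exact zero_mem _
    | add x y _ _ hx hy => rw [map_add]; exact add_mem hx hy
    | smul r x _ hx =>
      rw [Algebra.smul_def, map_mul, ← IsScalarTower.algebraMap_apply R C L, IsScalarTower.algebraMap_apply R E L,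
        ← Algebra.smul_def]
      exact Submodule.smul_mem _ _ hx
  refine ⟨⟨s.image (algebraMap C L), eq_top_iff.2 fun z _ => ?_⟩⟩
  rw [Finset.coe_image]
  obtain ⟨a, b, hb, rfl⟩ := IsFractionRing.div_surjective C z
  obtain ⟨r, hr, hr0⟩ := Submodule.exists_mem_ne_zero_of_ne_bot
    (Ideal.comap_ne_bot_of_integral_mem (R := R) (nonZeroDivisors.ne_zero hb) (Ideal.mem_span_singleton_self b)
      (Algebra.IsIntegral.isIntegral b))
  obtain ⟨b', hb'⟩ := Ideal.mem_span_singleton'.1 (Ideal.mem_comap.1 hr)
  have : algebraMap C L a / algebraMap C L b = (algebraMap R E r)⁻¹ • algebraMap C L (a * b') := by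
    rw [Algebra.smul_def, map_inv₀, ← IsScalarTower.algebraMap_apply R E L, IsScalarTower.algebraMap_apply R C L,
      ← hb', map_mul, map_mul]
    have h1 : algebraMap C L b' ≠ 0 := fun h0 => hr0 (hinj (by
      rw [← hb', IsFractionRing.injective C L (h0.trans (map_zero _).symm), zero_mul, map_zero]))
    field_simp
  rw [this]
  exact Submodule.smul_mem _ _ (hmem _)

end Groth.Agent.CKaehlerFree3
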