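/-
Generators of the completed differentials at a prime by differentials of unit multiples of given elements.
-/
import Groth.Agent.Lib.Compl.Complete
import Mathlib.RingTheory.Kaehler.Basic
import Mathlib.RingTheory.AdicCompletion.Completeness
import Mathlib.RingTheory.AdicCompletion.Functoriality
import Mathlib.RingTheory.LocalRing.Module
import Mathlib.RingTheory.Support
import Mathlib.RingTheory.Nakayama
import Mathlib.Algebra.Module.LocalizedModule.Basic
import Mathlib.LinearAlgebra.FiniteDimensional.Lemmas

set_option autoImplicit false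

universe u v

open TensorProduct

namespace Groth.Agent.CKaehlerFree3

section Residue

variable {A : Type u} [CommRing A] {M : Type u} [AddCommGroup M] [Module A M] (p : Ideal A) [p.IsPrime]
  {ι : Type v}

theorem exists_smul_mem_of_residue_span [Module.Finite A M] (y : ι → M)
    (h : Submodule.span p.ResidueField (Set.range fun i => (1 : p.ResidueField) ⊗ₜ[A] y i) = ⊤) (x : M) :
    ∃ s ∉ p, s • x ∈ Submodule.span A (Set.range y) := by
  let N := Submodule.span A (Set.range y)
  have hsupp : (⟨p, inferInstance⟩ : PrimeSpectrum A) ∉ Module.support A (M ⧸ N) := by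
    rw [Module.mem_support_iff_nontrivial_residueField_tensorProduct, not_nontrivial_iff_subsingleton]
    refine subsingleton_of_forall_eq 0 fun w => ?_
    obtain ⟨w, rfl⟩ := LinearMap.lTensor_surjective p.ResidueField N.mkQ_surjective w
    have hw : w ∈ Submodule.span p.ResidueField (Set.range fun i => (1 : p.ResidueField) ⊗ₜ[A] y i) := by
      rw [h]; trivial
    induction hw using Submodule.span_induction with
    | mem z hz =>
      obtain ⟨i, rfl⟩ := hz
      rw [LinearMap.lTensor_tmul, Submodule.mkQ_apply,
        (Submodule.Quotient.mk_eq_zero N).2 (Submodule.subset_span ⟨i, rfl⟩), TensorProduct.tmul_zero]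
    | zero => rw [map_zero]
    | add a b _ _ ha hb => rw [map_add, ha, hb, add_zero]
    | smul c a _ ha =>
      rw [← LinearMap.baseChange_eq_ltensor, map_smul, LinearMap.baseChange_eq_ltensor, ha, smul_zero]
  rw [Module.notMem_support_iff'] at hsupp
  obtain ⟨s, hs, hsx⟩ := hsupp (N.mkQ x)
  rw [← map_smul, Submodule.mkQ_apply, Submodule.Quotient.mk_eq_zero] at hsx
  exact ⟨s, hs, hsx⟩

theorem localized_span_eq_top [Module.Finite A M] (y : ι → M)
    (h : Submodule.span p.ResidueField (Set.range fun i => (1 : p.ResidueField) ⊗ₜ[A] y i) = ⊤) :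
    Submodule.span (Localization.AtPrime p)
      (Set.range fun i => LocalizedModule.mkLinearMap p.primeCompl M (y i)) = ⊤ := by
  rw [Submodule.eq_top_iff']
  intro z
  induction z using LocalizedModule.induction_on with
  | _ x t =>
    obtain ⟨s, hs, hsx⟩ := exists_smul_mem_of_residue_span p y h x
    have h1 : LocalizedModule.mkLinearMap p.primeCompl M (s • x) ∈
        Submodule.span (Localization.AtPrime p) (Set.range fun i => LocalizedModule.mkLinearMap p.primeCompl M (y i)) := by
      have := Submodule.mem_map_of_mem (f := LocalizedModule.mkLinearMap p.primeCompl M) hsx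
      rw [Submodule.map_span, ← Set.range_comp] at this
      exact Submodule.span_subset_span A (Localization.AtPrime p) _ this
    have h2 : (Localization.mk (1 : A) (t * ⟨s, hs⟩ : p.primeCompl)) • LocalizedModule.mkLinearMap p.primeCompl M (s • x) =
        LocalizedModule.mk x t := by
      rw [LocalizedModule.mkLinearMap_apply, LocalizedModule.mk_smul_mk, one_smul, LocalizedModule.mk_eq]
      exact ⟨1, by simp only [one_smul, mul_one, Submonoid.smul_def, Submonoid.coe_mul, smul_smul]⟩
    rw [← h2]
    exact Submodule.smul_mem _ _ h1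

theorem finrank_residue_le {m : ℕ} (z : Fin m → LocalizedModule p.primeCompl M)
    (h : Submodule.span (Localization.AtPrime p) (Set.range z) = ⊤) :
    Module.Finite p.ResidueField (p.ResidueField ⊗[A] M) ∧
      Module.finrank p.ResidueField (p.ResidueField ⊗[A] M) ≤ m := by
  classical
  have hz : ∀ i, ∃ (y : M) (t : p.primeCompl), z i = LocalizedModule.mk y t := fun i => by
    obtain ⟨⟨y, t⟩, hyt⟩ := Quotient.exists_rep (z i)
    exact ⟨y, t, hyt.symm⟩
  choose y t hyt using hz
  let N := Submodule.span A (Set.range y)
  have hmem : ∀ x : M, ∃ s ∉ p, s • x ∈ N := by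
    intro x
    have hx : LocalizedModule.mkLinearMap p.primeCompl M x ∈ Submodule.span (Localization.AtPrime p) (Set.range z) := by
      rw [h]; trivial
    have key : ∀ w ∈ Submodule.span (Localization.AtPrime p) (Set.range z),
        ∃ (a : M) (c : p.primeCompl), a ∈ N ∧ w = LocalizedModule.mk a c := by
      intro w hw
      induction hw using Submodule.span_induction with
      | mem _ hw => obtain ⟨i, rfl⟩ := hw; exact ⟨y i, t i, Submodule.subset_span ⟨i, rfl⟩, hyt i⟩
      | zero => exact ⟨0, 1, zero_mem _, (LocalizedModule.zero_mk 1).symm⟩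
      | add a b _ _ ha hb =>
        obtain ⟨a₁, c₁, ha₁, rfl⟩ := ha
        obtain ⟨a₂, c₂, ha₂, rfl⟩ := hb
        exact ⟨_, _, add_mem (Submodule.smul_mem _ (c₂ : A) ha₁) (Submodule.smul_mem _ (c₁ : A) ha₂),
          LocalizedModule.mk_add_mk⟩
      | smul r a _ ha =>
        obtain ⟨a₁, c₁, ha₁, rfl⟩ := ha
        induction r using Localization.induction_on with
        | H r => exact ⟨_, _, Submodule.smul_mem _ r.1 ha₁, LocalizedModule.mk_smul_mk _ _ _ _⟩
    obtain ⟨a, c, ha, hac⟩ := key _ hx
    rw [LocalizedModule.mkLinearMap_apply, LocalizedModule.mk_eq] at hac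
    obtain ⟨e, he⟩ := hac
    simp only [one_smul, Submonoid.smul_def, smul_smul] at he
    exact ⟨(e * c : p.primeCompl), (e * c).2, by
      rw [Submonoid.coe_mul, he]; exact Submodule.smul_mem _ _ ha⟩
  have hspan : Submodule.span p.ResidueField (Set.range fun i => (1 : p.ResidueField) ⊗ₜ[A] y i) = ⊤ := by
    rw [Submodule.eq_top_iff']
    intro w
    induction w using TensorProduct.induction_on with
    | zero => exact zero_mem _
    | add a b ha hb => exact add_mem ha hb
    | tmul c x =>
      obtain ⟨s, hs, hsx⟩ := hmem x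
      have h1 : (1 : p.ResidueField) ⊗ₜ[A] (s • x) ∈
          Submodule.span p.ResidueField (Set.range fun i => (1 : p.ResidueField) ⊗ₜ[A] y i) := by
        have := Submodule.mem_map_of_mem (f := TensorProduct.mk A p.ResidueField M 1) hsx
        rw [Submodule.map_span, ← Set.range_comp] at this
        exact Submodule.span_subset_span A p.ResidueField _ this
      have hs0 : algebraMap A p.ResidueField s ≠ 0 := fun h0 => hs (by
        rwa [← Ideal.algebraMap_residueField_eq_zero])
      rw [TensorProduct.tmul_smul, ← algebraMap_smul p.ResidueField s] at h1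
      rw [show c ⊗ₜ[A] x = c • ((1 : p.ResidueField) ⊗ₜ[A] x) by rw [TensorProduct.smul_tmul', smul_eq_mul, mul_one]]
      exact Submodule.smul_mem _ _ ((Submodule.smul_mem_iff _ hs0).1 h1)
  haveI : Module.Finite p.ResidueField (p.ResidueField ⊗[A] M) :=
    ⟨⟨Finset.univ.image fun i => (1 : p.ResidueField) ⊗ₜ[A] y i, by
      rw [Finset.coe_image, Finset.coe_univ, Set.image_univ, hspan]⟩⟩
  refine ⟨inferInstance, ?_⟩
  rw [← finrank_top p.ResidueField (p.ResidueField ⊗[A] M), ← hspan]
  exact (finrank_range_le_card _).trans (Fintype.card_fin m).le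

end Residue

section Units

open IsLocalRing

variable {k A : Type u} [Field k] [CommRing A] [IsLocalRing A] [IsNoetherianRing A] [Algebra k A]
  [IsAdicComplete (maximalIdeal A) A] [Module.Finite A (AdicCompletion (maximalIdeal A) Ω[A⁄k])]

variable (k A) in
theorem span_of_D_eq_top :
    Submodule.span A (Set.range fun a => AdicCompletion.of (maximalIdeal A) Ω[A⁄k] (KaehlerDifferential.D k A a)) = ⊤ := by
  set N := Submodule.span A
    (Set.range fun a => AdicCompletion.of (maximalIdeal A) Ω[A⁄k] (KaehlerDifferential.D k A a))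
  refine eq_top_iff.2 (Submodule.le_of_le_smul_of_le_jacobson_bot (I := maximalIdeal A)
    (Module.finite_def.1 inferInstance) (maximalIdeal_le_jacobson _) fun y _ => ?_)
  obtain ⟨w, hw⟩ := Submodule.Quotient.mk_surjective _ (y.val 1)
  have hN : AdicCompletion.of (maximalIdeal A) Ω[A⁄k] w ∈ N := by
    have := Submodule.mem_map_of_mem (f := AdicCompletion.of (maximalIdeal A) Ω[A⁄k])
      ((KaehlerDifferential.span_range_derivation k A).ge (Submodule.mem_top (x := w)))
    rw [Submodule.map_span, ← Set.range_comp] at this
    exact this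
  rw [← sub_add_cancel y (AdicCompletion.of (maximalIdeal A) Ω[A⁄k] w), add_comm]
  refine Submodule.add_mem_sup hN ?_
  have h1 : y - AdicCompletion.of (maximalIdeal A) Ω[A⁄k] w ∈
      (maximalIdeal A ^ 1 • ⊤ : Submodule A (AdicCompletion (maximalIdeal A) Ω[A⁄k])) ↔
      y.val 1 = (AdicCompletion.of (maximalIdeal A) Ω[A⁄k] w).val 1 := by
    rw [AdicCompletion.pow_smul_top_eq_ker_eval (IsNoetherian.noetherian _), LinearMap.mem_ker, map_sub, sub_eq_zero]
    rfl
  refine (Submodule.smul_mono_left (pow_one (maximalIdeal A)).le) (h1.2 ?_)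
  change y.val 1 = _
  rw [← hw]
  rfl

theorem exists_units_min (p : Ideal A) [p.IsPrime] :
    ∀ (m : ℕ) (x : Fin m → A), (∀ i, x i ∈ maximalIdeal A ∧ x i ∉ p) → ∃ u : Fin m → Aˣ,
      min m (Module.finrank p.ResidueField (p.ResidueField ⊗[A] AdicCompletion (maximalIdeal A) Ω[A⁄k])) ≤
        Module.finrank p.ResidueField (Submodule.span p.ResidueField (Set.range fun i =>
          (1 : p.ResidueField) ⊗ₜ[A] AdicCompletion.of (maximalIdeal A) Ω[A⁄k]
            (KaehlerDifferential.D k A ((u i : A) * x i)))) := by
  intro m
  induction m with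
  | zero => intro x _; exact ⟨fun i => 1, by simp⟩
  | succ m ih =>
    intro x hx
    let V := p.ResidueField ⊗[A] AdicCompletion (maximalIdeal A) Ω[A⁄k]
    let δ : A → V := fun a => (1 : p.ResidueField) ⊗ₜ[A] AdicCompletion.of (maximalIdeal A) Ω[A⁄k]
            (KaehlerDifferential.D k A a)
    obtain ⟨u, hu⟩ := ih (fun i => x i.castSucc) fun i => hx _
    set W := Submodule.span p.ResidueField (Set.range fun i : Fin m => δ ((u i : A) * x i.castSucc)) with hW
    have hmono : ∀ c : Aˣ, W ≤ Submodule.span p.ResidueField
        (Set.range fun i => δ ((Fin.snoc (α := fun _ => Aˣ) u c i : A) * x i)) := fun c => by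
      refine Submodule.span_mono ?_
      rintro _ ⟨i, rfl⟩
      exact ⟨i.castSucc, by simp only [Fin.snoc_castSucc]⟩
    by_cases htop : W = ⊤
    · refine ⟨Fin.snoc u 1, (min_le_right _ _).trans ?_⟩
      rw [← finrank_top p.ResidueField V, ← htop]
      exact Submodule.finrank_mono (hmono 1)
    obtain ⟨c, hc⟩ : ∃ c : Aˣ, δ ((c : A) * x (Fin.last m)) ∉ W := by
      by_contra hall
      push Not at hall
      set z := x (Fin.last m) with hzdef
      have hmul : ∀ a b : A, δ (a * b) = a • δ b + b • δ a := fun a b => by
        simp only [δ, Derivation.leibniz, map_add, map_smul, TensorProduct.tmul_add, TensorProduct.tmul_smul]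
      have hz0 : algebraMap A p.ResidueField z ≠ 0 := fun h0 => (hx _).2 (by
        rwa [← Ideal.algebraMap_residueField_eq_zero])
      have hdz : δ z ∈ W := by simpa using hall 1
      have hunit : ∀ c : Aˣ, δ (c : A) ∈ W := fun c => by
        have h1 := hall c
        rw [hmul, ← algebraMap_smul p.ResidueField (c : A), ← algebraMap_smul p.ResidueField z] at h1
        have h2 := sub_mem h1 (W.smul_mem (algebraMap A p.ResidueField (c : A)) hdz)
        rw [add_sub_cancel_left] at h2
        exact (Submodule.smul_mem_iff _ hz0).1 h2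
      have hall' : ∀ a : A, δ a ∈ W := fun a => by
        by_cases ha : IsUnit a
        · exact hunit ha.unit
        · have h1 : IsUnit (1 + a) := by
            by_contra h1
            exact (maximalIdeal.isMaximal A).ne_top ((Ideal.eq_top_iff_one _).2 (by
              simpa using sub_mem ((mem_maximalIdeal _).2 h1) ((mem_maximalIdeal _).2 ha)))
          have h2 := hunit h1.unit
          rw [IsUnit.unit_spec] at h2
          simpa [δ, map_add, TensorProduct.tmul_add] using h2
      refine htop (Submodule.eq_top_iff'.2 fun w => ?_)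
      induction w using TensorProduct.induction_on with
      | zero => exact zero_mem _
      | add a b ha hb => exact add_mem ha hb
      | tmul r y =>
        rw [show r ⊗ₜ[A] y = r • ((1 : p.ResidueField) ⊗ₜ[A] y) by rw [TensorProduct.smul_tmul', smul_eq_mul, mul_one]]
        refine Submodule.smul_mem _ _ ?_
        have := Submodule.mem_map_of_mem (f := TensorProduct.mk A p.ResidueField _ 1)
          ((span_of_D_eq_top k A).ge (Submodule.mem_top (x := y)))
        rw [Submodule.map_span, ← Set.range_comp] at this
        refine (Submodule.span_le.2 ?_ : Submodule.span A _ ≤ W.restrictScalars A) this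
        rintro _ ⟨a, rfl⟩
        exact hall' a
    refine ⟨Fin.snoc u c, ?_⟩
    have hlt : W < Submodule.span p.ResidueField
        (Set.range fun i => δ ((Fin.snoc (α := fun _ => Aˣ) u c i : A) * x i)) :=
      lt_of_le_not_ge (hmono c) fun hle => hc (hle (Submodule.subset_span ⟨Fin.last m, by simp only [Fin.snoc_last]⟩))
    have h1 := Submodule.finrank_lt_finrank_of_lt hlt
    have e : ∀ a b c d : ℕ, min m d ≤ a → a < c → min (m + 1) d ≤ c := by omega
    exact e _ 0 _ _ hu h1

theorem exists_units_span (p : Ideal A) [p.IsPrime] (m : ℕ) (x : Fin m → A)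
    (hx : ∀ i, x i ∈ maximalIdeal A ∧ x i ∉ p)
    (hd : Module.finrank p.ResidueField (p.ResidueField ⊗[A] AdicCompletion (maximalIdeal A) Ω[A⁄k]) ≤ m) :
    ∃ u : Fin m → Aˣ, Submodule.span p.ResidueField (Set.range fun i =>
          (1 : p.ResidueField) ⊗ₜ[A] AdicCompletion.of (maximalIdeal A) Ω[A⁄k]
            (KaehlerDifferential.D k A ((u i : A) * x i))) = ⊤ := by
  obtain ⟨u, hu⟩ := exists_units_min (k := k) p m x hx
  exact ⟨u, Submodule.eq_top_of_finrank_eq (le_antisymm (Submodule.finrank_le _) ((le_of_eq (min_eq_right hd).symm).trans hu))⟩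

end Units

end Groth.Agent.CKaehlerFree3
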