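/-
Unramified finite covers of power series rings and generators of completed differentials at a prime.
-/
import Groth.Agent.Lib.CKaehlerFree3.Units
import Groth.Agent.Lib.CKaehlerFree3.Frob
import Groth.Agent.Lib.CKaehlerFree3.Top
import Groth.Agent.Lib.CanElt.NIT
import Mathlib.RingTheory.Etale.Kaehler
import Mathlib.RingTheory.Unramified.Locus

set_option autoImplicit false

universe u

open IsLocalRing TensorProduct

namespace Groth.Agent.CKaehlerFree3

section Kill

variable {R A : Type u} [CommRing R] [CommRing A] [Algebra R A] (p : Ideal A) [p.IsPrime]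

theorem isUnramifiedAt_iff_kill :
    Algebra.IsUnramifiedAt R p ↔ ∀ w : Ω[A⁄R], ∃ s ∉ p, s • w = 0 := by
  rw [Algebra.IsUnramifiedAt, Algebra.formallyUnramified_iff,
    IsLocalizedModule.subsingleton_iff p.primeCompl (KaehlerDifferential.map R R A (Localization.AtPrime p))]
  exact ⟨fun h w => h w, fun h w => h w⟩

theorem exists_kill [Module.Finite A Ω[A⁄R]] (h : Algebra.IsUnramifiedAt R p) :
    ∃ s ∉ p, ∀ w : Ω[A⁄R], s • w = 0 := by
  classical
  rw [isUnramifiedAt_iff_kill] at h
  choose σ hσp hσ using h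
  obtain ⟨t, ht⟩ := Module.finite_def.1 (inferInstance : Module.Finite A Ω[A⁄R])
  refine ⟨∏ w ∈ t, σ w, fun hmem => ?_, fun w => ?_⟩
  · obtain ⟨w, -, hw⟩ := ‹p.IsPrime›.prod_mem_iff.1 hmem
    exact hσp w hw
  · have hw : w ∈ Submodule.span A (t : Set Ω[A⁄R]) := by rw [ht]; trivial
    induction hw using Submodule.span_induction with
    | mem x hx =>
      obtain ⟨c, hc⟩ := Finset.dvd_prod_of_mem σ hx
      rw [hc, mul_comm, mul_smul, hσ, smul_zero]
    | zero => rw [smul_zero]
    | add x y _ _ hx hy => rw [smul_add, hx, hy, add_zero]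
    | smul b x _ hx => rw [smul_comm, hx, smul_zero]

end Kill

variable {k : Type u} [Field k] {A : Type u} [CommRing A] [IsLocalRing A] [IsNoetherianRing A] [Algebra k A]
  [IsAdicComplete (maximalIdeal A) A] [Module.Finite A (AdicCompletion (maximalIdeal A) Ω[A⁄k])]
  {m : ℕ} [Algebra (MvPowerSeries (Fin m) k) A] [IsScalarTower k (MvPowerSeries (Fin m) k) A]
  (p : Ideal A) [p.IsPrime]

omit [Module.Finite A (AdicCompletion (maximalIdeal A) Ω[A⁄k])] [IsAdicComplete (maximalIdeal A) A] in
theorem residue_tmul_span_of_mem {y : AdicCompletion (maximalIdeal A) Ω[A⁄k]} {s : A} (hs : s ∉ p)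
    {ι : Type} {v : ι → AdicCompletion (maximalIdeal A) Ω[A⁄k]} (h : s • y ∈ Submodule.span A (Set.range v)) :
    (1 : p.ResidueField) ⊗ₜ[A] y ∈
      Submodule.span p.ResidueField (Set.range fun i => (1 : p.ResidueField) ⊗ₜ[A] v i) := by
  have h1 : (1 : p.ResidueField) ⊗ₜ[A] (s • y) ∈
      Submodule.span p.ResidueField (Set.range fun i => (1 : p.ResidueField) ⊗ₜ[A] v i) := by
    have := Submodule.mem_map_of_mem (f := TensorProduct.mk A p.ResidueField _ 1) h
    rw [Submodule.map_span, ← Set.range_comp] at this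
    exact Submodule.span_subset_span A p.ResidueField _ this
  have hs0 : algebraMap A p.ResidueField s ≠ 0 := fun h0 => hs (by rwa [← Ideal.algebraMap_residueField_eq_zero])
  rw [TensorProduct.tmul_smul, ← algebraMap_smul p.ResidueField s] at h1
  exact (Submodule.smul_mem_iff _ hs0).1 h1

/-- If `A` is unramified at `p` over power series, the completed differentials at `p` are generated by those of
the variables. -/
theorem span_residue_of_isUnramifiedAt [IsLocalHom (algebraMap (MvPowerSeries (Fin m) k) A)]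
    [Module.Finite A Ω[A⁄MvPowerSeries (Fin m) k]] (h : Algebra.IsUnramifiedAt (MvPowerSeries (Fin m) k) p) :
    Submodule.span p.ResidueField (Set.range fun i => (1 : p.ResidueField) ⊗ₜ[A]
      AdicCompletion.of (maximalIdeal A) Ω[A⁄k]
        (KaehlerDifferential.D k A (algebraMap (MvPowerSeries (Fin m) k) A (MvPowerSeries.X i)))) = ⊤ := by
  obtain ⟨s, hs, hkill⟩ := exists_kill p h
  rw [Submodule.eq_top_iff']
  intro w
  induction w using TensorProduct.induction_on with
  | zero => exact zero_mem _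
  | add a b ha hb => exact add_mem ha hb
  | tmul c y =>
    rw [show c ⊗ₜ[A] y = c • ((1 : p.ResidueField) ⊗ₜ[A] y) by rw [TensorProduct.smul_tmul', smul_eq_mul, mul_one]]
    exact Submodule.smul_mem _ _ (residue_tmul_span_of_mem p hs (smul_mem_span s hkill y))

/-- Conversely, generation at `p` by the differentials of the variables gives unramifiedness at `p`. -/
theorem isUnramifiedAt_of_span_residue [Module.Finite (MvPowerSeries (Fin m) k) A]
    (h : Submodule.span p.ResidueField (Set.range fun i => (1 : p.ResidueField) ⊗ₜ[A]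
      AdicCompletion.of (maximalIdeal A) Ω[A⁄k]
        (KaehlerDifferential.D k A (algebraMap (MvPowerSeries (Fin m) k) A (MvPowerSeries.X i)))) = ⊤) :
    Algebra.IsUnramifiedAt (MvPowerSeries (Fin m) k) p := by
  rw [isUnramifiedAt_iff_kill]
  haveI : Module.Finite A Ω[A⁄MvPowerSeries (Fin m) k] := inferInstance
  haveI : IsAdicComplete (maximalIdeal A) Ω[A⁄MvPowerSeries (Fin m) k] := Compl.isAdicComplete_of_finite _ _
  let f := KaehlerDifferential.map k (MvPowerSeries (Fin m) k) A A
  intro w
  obtain ⟨w, rfl⟩ := KaehlerDifferential.map_surjective k (MvPowerSeries (Fin m) k) A w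
  obtain ⟨s, hs, hsy⟩ := exists_smul_mem_of_residue_span p _ h (AdicCompletion.of (maximalIdeal A) Ω[A⁄k] w)
  refine ⟨s, hs, (AdicCompletion.ofLinearEquiv (maximalIdeal A) Ω[A⁄MvPowerSeries (Fin m) k]).injective ?_⟩
  have hker : Submodule.span A (Set.range fun i => AdicCompletion.of (maximalIdeal A) Ω[A⁄k]
        (KaehlerDifferential.D k A (algebraMap (MvPowerSeries (Fin m) k) A (MvPowerSeries.X i)))) ≤
      LinearMap.ker ((AdicCompletion.map (maximalIdeal A) f).restrictScalars A) := by
    rw [Submodule.span_le]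
    rintro _ ⟨i, rfl⟩
    rw [SetLike.mem_coe, LinearMap.mem_ker, LinearMap.coe_restrictScalars, AdicCompletion.map_of,
      KaehlerDifferential.map_D, Algebra.algebraMap_self_apply, Derivation.map_algebraMap, map_zero]
  have h0 : ((AdicCompletion.map (maximalIdeal A) f).restrictScalars A)
      (s • AdicCompletion.of (maximalIdeal A) Ω[A⁄k] w) = 0 := hker hsy
  rw [map_smul, LinearMap.coe_restrictScalars, AdicCompletion.map_of] at h0
  rw [map_zero, map_smul]
  exact h0


/-- Systems of parameters avoiding a non-maximal prime, padded to any larger length. -/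
theorem exists_parameters_avoiding (A : Type u) [CommRing A] [IsLocalRing A] [IsNoetherianRing A] (n m : ℕ)
    (hn : ringKrullDim A = n) (hnm : n ≤ m) (p : Ideal A) [p.IsPrime] (hp : p ≠ maximalIdeal A) :
    ∃ x : Fin m → A, (∀ i, x i ∈ maximalIdeal A ∧ x i ∉ p) ∧ ∃ N, maximalIdeal A ^ N ≤ Ideal.span (Set.range x) := by
  classical
  obtain ⟨z, hz, ⟨N, hN⟩, -⟩ := CanElt.exists_sop A n hn
  obtain ⟨w, hw, hwp⟩ : ∃ w ∈ maximalIdeal A, w ∉ p := by
    by_contra h
    push Not at h
    exact hp (le_antisymm (IsLocalRing.le_maximalIdeal Ideal.IsPrime.ne_top') h)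
  let z' : Fin n → A := fun i => if z i ∈ p then z i + w ^ (N + 1) else z i
  have hw1 : w ^ (N + 1) ∈ maximalIdeal A * Ideal.span (Set.range z) := by
    rw [pow_succ']
    exact Ideal.mul_mem_mul hw (hN (Ideal.pow_mem_pow hw N))
  have hwm : w ^ (N + 1) ∈ maximalIdeal A := Ideal.pow_mem_of_mem _ hw _ (Nat.succ_pos N)
  have hz' : ∀ i, z' i ∈ maximalIdeal A ∧ z' i ∉ p := fun i => by
    by_cases h : z i ∈ p
    · simp only [z', if_pos h]
      refine ⟨add_mem (hz i) hwm, fun h' => hwp (Ideal.IsPrime.mem_of_pow_mem ‹_› (N + 1) ?_)⟩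
      simpa using sub_mem h' h
    · simp only [z', if_neg h]
      exact ⟨hz i, h⟩
  have hle : Ideal.span (Set.range z) ≤ Ideal.span (Set.range z') ⊔ maximalIdeal A • Ideal.span (Set.range z) := by
    refine Ideal.span_le.2 ?_
    rintro _ ⟨i, rfl⟩
    by_cases h : z i ∈ p
    · have h2 : z i = z' i - w ^ (N + 1) := by simp only [z', if_pos h, add_sub_cancel_right]
      rw [h2]
      exact sub_mem (Submodule.mem_sup_left (Ideal.subset_span ⟨i, rfl⟩)) (Submodule.mem_sup_right hw1)
    · exact Submodule.mem_sup_left (Ideal.subset_span ⟨i, by simp only [z', if_neg h]⟩)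
  have hle2 : Ideal.span (Set.range z) ≤ Ideal.span (Set.range z') :=
    Submodule.le_of_le_smul_of_le_jacobson_bot (IsNoetherian.noetherian _) (maximalIdeal_le_jacobson _) hle
  let x : Fin m → A := fun i => if h : (i : ℕ) < n then z' ⟨i, h⟩ else w
  refine ⟨x, fun i => ?_, N, hN.trans (hle2.trans (Ideal.span_mono ?_))⟩
  · by_cases h : (i : ℕ) < n
    · simp only [x, dif_pos h]; exact hz' _
    · simp only [x, dif_neg h]; exact ⟨hw, hwp⟩
  · rintro _ ⟨i, rfl⟩
    exact ⟨Fin.castLE hnm i, by simp only [x, Fin.val_castLE, dif_pos i.2]⟩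

end Groth.Agent.CKaehlerFree3
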