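/-
A finite algebra over power series in `dim` variables, unramified at a prime of maximal dimension, is étale there.
-/
import Groth.Agent.Lib.CKaehlerFree3.Unram
import Groth.Agent.S3847
import Groth.Agent.S4528
import Groth.Agent.Lib.Branch14.UnrEtale
import Groth.Agent.Lib.RegCpl3.Basic
import Groth.Agent.Lib.RegLoc.UFD
import Groth.Agent.Lib.SmoothReg17.Basic
import Mathlib.RingTheory.Etale.Locus

set_option autoImplicit false
set_option backward.isDefEq.respectTransparency.types false
set_option maxSynthPendingDepth 3
set_option synthInstance.maxHeartbeats 200000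

universe u

open IsLocalRing TensorProduct

namespace Groth.Agent.CKaehlerFree3

theorem injective_of_finite_dim {R C : Type u} [CommRing R] [IsDomain R] [IsLocalRing R] [IsNoetherianRing R]
    [CommRing C] [IsDomain C] [Algebra R C] [Module.Finite R C] (n : ℕ) (hR : ringKrullDim R = n)
    (hC : ringKrullDim C = n) : Function.Injective (algebraMap R C) := by
  rw [RingHom.injective_iff_ker_eq_bot]
  by_contra hne
  obtain ⟨z, hz, hz0⟩ := Submodule.exists_mem_ne_zero_of_ne_bot hne
  letI : Algebra (R ⧸ RingHom.ker (algebraMap R C)) C := (RingHom.kerLift (algebraMap R C)).toAlgebra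
  haveI : Algebra.IsIntegral (R ⧸ RingHom.ker (algebraMap R C)) C :=
    algebraMap_isIntegral_iff.mp (RingHom.IsIntegral.tower_top (Ideal.Quotient.mk (RingHom.ker (algebraMap R C)))
      (RingHom.kerLift (algebraMap R C)) (algebraMap_isIntegral_iff.mpr (Algebra.IsIntegral.of_finite R C)))
  have h1 : ringKrullDim C ≤ ringKrullDim (R ⧸ RingHom.ker (algebraMap R C)) :=
    Order.krullDim_le_of_strictMono (PrimeSpectrum.comap (algebraMap (R ⧸ RingHom.ker (algebraMap R C)) C))
      fun x y hlt => Ideal.IsIntegral.comap_lt_comap hlt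
  have h2 : ringKrullDim (R ⧸ RingHom.ker (algebraMap R C)) + 1 ≤ ringKrullDim R :=
    (add_le_add (ringKrullDim_le_of_surjective (Ideal.Quotient.factor (S := Ideal.span {z})
      (T := RingHom.ker (algebraMap R C)) ((Ideal.span_singleton_le_iff_mem _).mpr hz))
      (Ideal.Quotient.factor_surjective _)) le_rfl).trans
      (ringKrullDim_quotient_succ_le_of_nonZeroDivisor (mem_nonZeroDivisors_of_ne_zero hz0))
  haveI : Nontrivial (R ⧸ RingHom.ker (algebraMap R C)) := Ideal.Quotient.nontrivial_iff.mpr (RingHom.ker_ne_top _)
  haveI : IsLocalRing (R ⧸ RingHom.ker (algebraMap R C)) := IsLocalRing.of_surjective' _ Ideal.Quotient.mk_surjective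
  obtain ⟨b, hb⟩ := DepthLib.exists_supportDim_eq_natCast (R := R ⧸ RingHom.ker (algebraMap R C))
    (M := R ⧸ RingHom.ker (algebraMap R C))
  rw [Module.supportDim_self_eq_ringKrullDim] at hb
  rw [hC, hb] at h1
  rw [hb, hR] at h2
  norm_cast at h1 h2
  omega

theorem etaleAt_of_unramifiedAt {k : Type u} [Field k] {n : ℕ} {A : Type u} [CommRing A]
    [Algebra (MvPowerSeries (Fin n) k) A] [Module.Finite (MvPowerSeries (Fin n) k) A] (p : Ideal A) [p.IsPrime]
    (hq : ∃ q ∈ minimalPrimes A, q ≤ p ∧ ringKrullDim (A ⧸ q) = n)
    (h : Algebra.IsUnramifiedAt (MvPowerSeries (Fin n) k) p) :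
    Algebra.IsEtaleAt (MvPowerSeries (Fin n) k) p ∧ IsDomain (Localization.AtPrime p) ∧
      IsRegularLocalRing (Localization.AtPrime p) ∧
      ∃ g ∉ p, Algebra.Etale (MvPowerSeries (Fin n) k) (Localization.Away g) := by
  obtain ⟨q, hqm, hqp, hdim⟩ := hq
  haveI : q.IsPrime := hqm.1.1
  haveI := H2Alg.PSHom.isRegularLocalRing k n
  haveI hdomR : IsDomain (MvPowerSeries (Fin n) k) := NoZeroDivisors.to_isDomain _
  haveI : IsRegularRing (MvPowerSeries (Fin n) k) := RegCpl3.isRegularRing_mvPowerSeries k n
  haveI : UniqueFactorizationMonoid (MvPowerSeries (Fin n) k) := RegLoc.ufd_of_isRegularLocalRing _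
  let r : Ideal (MvPowerSeries (Fin n) k) := p.comap (algebraMap (MvPowerSeries (Fin n) k) A)
  haveI : r.IsPrime := Ideal.comap_isPrime _ _
  haveI : p.LiesOver r := ⟨rfl⟩
  have hinjq : Function.Injective (algebraMap (MvPowerSeries (Fin n) k) (A ⧸ q)) :=
    injective_of_finite_dim n (H2Alg.PSHom.ringKrullDim_eq k n) hdim
  haveI : IsIntegrallyClosed (MvPowerSeries (Fin n) k) := inferInstance
  haveI hdomr : IsDomain (Localization.AtPrime r) :=
    IsLocalization.isDomain_localization r.primeCompl_le_nonZeroDivisors
  haveI : IsIntegrallyClosed (Localization.AtPrime r) :=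
    isIntegrallyClosed_of_isLocalization (Localization.AtPrime r) r.primeCompl r.primeCompl_le_nonZeroDivisors
  have hinj : Function.Injective (Localization.localRingHom r p (algebraMap (MvPowerSeries (Fin n) k) A) (p.over_def r)) := by
    refine (injective_iff_map_eq_zero _).2 fun x hx => ?_
    obtain ⟨a, s, rfl⟩ := IsLocalization.exists_mk'_eq r.primeCompl x
    rw [Localization.localRingHom_mk', IsLocalization.mk'_eq_zero_iff] at hx
    obtain ⟨t, ht⟩ := hx
    have h0 : algebraMap (MvPowerSeries (Fin n) k) (A ⧸ q) a = 0 := by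
      rw [IsScalarTower.algebraMap_apply (MvPowerSeries (Fin n) k) A (A ⧸ q), Ideal.Quotient.algebraMap_eq,
        Ideal.Quotient.eq_zero_iff_mem]
      exact (‹q.IsPrime›.mem_or_mem (ht ▸ q.zero_mem)).resolve_left fun h => t.2 (hqp h)
    rw [hinjq (h0.trans (map_zero _).symm)]
    exact IsLocalization.mk'_zero s
  obtain ⟨g, hg, hE⟩ := Branch14.exists_etale_localization (A := MvPowerSeries (Fin n) k) r (B := A) p hdomr
    (Branch14.isGeomUnibranch_of_isIntegrallyClosed (A := Localization.AtPrime r)) hinj (Or.inr hdomR)
  have hdis : Disjoint (Submonoid.powers g : Set A) (p : Set A) :=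
    (Ideal.disjoint_powers_iff_notMem_of_isPrime _).mpr hg
  let P : Ideal (Localization.Away g) := p.map (algebraMap A (Localization.Away g))
  haveI : P.IsPrime := IsLocalization.isPrime_of_isPrime_disjoint (.powers g) _ _ ‹_› hdis
  have hPc : P.comap (algebraMap A (Localization.Away g)) = p :=
    IsLocalization.comap_map_of_isPrime_disjoint (.powers g) (Localization.Away g) ‹_› hdis
  haveI := hE
  haveI : IsLocalization.AtPrime (Localization.AtPrime P) p := by
    have h1 := IsLocalization.isLocalization_isLocalization_atPrime_isLocalization (Submonoid.powers g)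
      (Localization.AtPrime P) P
    have hsub : (P.comap (algebraMap A (Localization.Away g))).primeCompl = p.primeCompl := by
      ext x; change x ∉ P.comap _ ↔ x ∉ p; rw [hPc]
    change IsLocalization _ _
    rw [← hsub]
    exact h1
  let e : Localization.AtPrime P ≃ₐ[A] Localization.AtPrime p := IsLocalization.algEquiv p.primeCompl _ _
  haveI : IsRegularLocalRing (Localization.AtPrime P) :=
    SmoothReg17.isRegularLocalRing_of_etale (A := MvPowerSeries (Fin n) k) P
  haveI hreg : IsRegularLocalRing (Localization.AtPrime p) := IsRegularLocalRing.of_ringEquiv e.toRingEquiv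
  refine ⟨?_, ?_, hreg, g, hg, hE⟩
  · haveI : Algebra.FormallyEtale (Localization.Away g) (Localization.AtPrime P) :=
      Algebra.FormallyEtale.of_isLocalization P.primeCompl
    haveI : Algebra.FormallyEtale (MvPowerSeries (Fin n) k) (Localization.AtPrime P) :=
      Algebra.FormallyEtale.comp (MvPowerSeries (Fin n) k) (Localization.Away g) _
    exact Algebra.FormallyEtale.of_equiv (e.restrictScalars (MvPowerSeries (Fin n) k))
  · exact RegLoc.isDomain (Localization.AtPrime p)

/-- In a regular local ring at `p`, `n` generators of a module of fibre rank at least `n` at a minimal prime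
form a basis. -/
theorem free_of_rank_at_minimal {A M : Type u} [CommRing A] [AddCommGroup M] [Module A M]
    (p : Ideal A) [p.IsPrime] [IsDomain (Localization.AtPrime p)] (q : Ideal A) [q.IsPrime] (hqm : q ∈ minimalPrimes A)
    (hqp : q ≤ p) {n : ℕ} (s : Fin n → LocalizedModule p.primeCompl M)
    (hs : Submodule.span (Localization.AtPrime p) (Set.range s) = ⊤)
    (hrank : n ≤ Module.finrank q.ResidueField (q.ResidueField ⊗[A] M)) :
    Module.Free (Localization.AtPrime p) (LocalizedModule p.primeCompl M) ∧
      Module.finrank (Localization.AtPrime p) (LocalizedModule p.primeCompl M) = n := by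
  classical
  have hz : ∀ i, ∃ (y : M) (t : p.primeCompl), s i = LocalizedModule.mk y t := fun i => by
    obtain ⟨⟨y, t⟩, hyt⟩ := Quotient.exists_rep (s i)
    exact ⟨y, t, hyt.symm⟩
  choose y t hyt using hz
  have hmk : ∀ i, LocalizedModule.mkLinearMap p.primeCompl M (y i) = algebraMap A (Localization.AtPrime p) (t i : A) • s i :=
    fun i => by
      rw [hyt, LocalizedModule.mkLinearMap_apply, ← Localization.mk_one_eq_algebraMap, LocalizedModule.mk_smul_mk,
        LocalizedModule.mk_eq]
      exact ⟨1, by simp [Submonoid.smul_def]⟩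
  have hker : ∀ a : A, algebraMap A (Localization.AtPrime p) a = 0 → a ∈ q := fun a ha => by
    obtain ⟨c, hc⟩ := (IsLocalization.map_eq_zero_iff p.primeCompl _ a).1 ha
    exact (‹q.IsPrime›.mem_or_mem (hc ▸ q.zero_mem)).resolve_left fun h => c.2 (hqp h)
  have hq0 : ∀ a ∈ q, algebraMap A (Localization.AtPrime p) a = 0 := fun a ha => by
    have hle : RingHom.ker (algebraMap A (Localization.AtPrime p)) ≤ q := hker
    have := hqm.2 ⟨RingHom.ker_isPrime _, bot_le⟩ hle ha
    exact this
  have hspan : Submodule.span q.ResidueField (Set.range fun i => (1 : q.ResidueField) ⊗ₜ[A] y i) = ⊤ := by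
    rw [Submodule.eq_top_iff']
    intro w
    induction w using TensorProduct.induction_on with
    | zero => exact zero_mem _
    | add a b ha hb => exact add_mem ha hb
    | tmul c x =>
      obtain ⟨a, ha, hax⟩ : ∃ a : A, a ∉ q ∧ a • x ∈ Submodule.span A (Set.range y) := by
        have key : ∀ w ∈ Submodule.span (Localization.AtPrime p) (Set.range s),
            ∃ (b : M) (c : p.primeCompl), b ∈ Submodule.span A (Set.range y) ∧ w = LocalizedModule.mk b c := by
          intro w hw
          induction hw using Submodule.span_induction with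
          | mem _ hw => obtain ⟨i, rfl⟩ := hw; exact ⟨y i, t i, Submodule.subset_span ⟨i, rfl⟩, hyt i⟩
          | zero => exact ⟨0, 1, zero_mem _, (LocalizedModule.zero_mk 1).symm⟩
          | add a b _ _ ha hb =>
            obtain ⟨a₁, c₁, ha₁, rfl⟩ := ha
            obtain ⟨a₂, c₂, ha₂, rfl⟩ := hb
            exact ⟨_, _, add_mem (Submodule.smul_mem _ (c₂ : A) ha₁) (Submodule.smul_mem _ (c₁ : A) ha₂),
              LocalizedModule.mk_add_mk⟩
          | smul r a _ ha =>
            obtain ⟨a₁, c₁, ha₁, rfl⟩ := ha
            induction r using Localization.induction_on with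
            | H r => exact ⟨_, _, Submodule.smul_mem _ r.1 ha₁, LocalizedModule.mk_smul_mk _ _ _ _⟩
        obtain ⟨b, c, hb, hbc⟩ := key (LocalizedModule.mkLinearMap p.primeCompl M x) (by rw [hs]; trivial)
        rw [LocalizedModule.mkLinearMap_apply, LocalizedModule.mk_eq] at hbc
        obtain ⟨e, he⟩ := hbc
        simp only [one_smul, Submonoid.smul_def, smul_smul] at he
        exact ⟨(e : A) * c, fun h => (e * c).2 (hqp h), he ▸ Submodule.smul_mem _ _ hb⟩
      have h1 : (1 : q.ResidueField) ⊗ₜ[A] (a • x) ∈
          Submodule.span q.ResidueField (Set.range fun i => (1 : q.ResidueField) ⊗ₜ[A] y i) := by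
        have := Submodule.mem_map_of_mem (f := TensorProduct.mk A q.ResidueField M 1) hax
        rw [Submodule.map_span, ← Set.range_comp] at this
        exact Submodule.span_subset_span A q.ResidueField _ this
      have ha0 : algebraMap A q.ResidueField a ≠ 0 := fun h0 => ha (by rwa [← Ideal.algebraMap_residueField_eq_zero])
      rw [TensorProduct.tmul_smul, ← algebraMap_smul q.ResidueField a] at h1
      rw [show c ⊗ₜ[A] x = c • ((1 : q.ResidueField) ⊗ₜ[A] x) by rw [TensorProduct.smul_tmul', smul_eq_mul, mul_one]]
      exact Submodule.smul_mem _ _ ((Submodule.smul_mem_iff _ ha0).1 h1)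
  haveI : Module.Finite q.ResidueField (q.ResidueField ⊗[A] M) :=
    ⟨⟨Finset.univ.image fun i => (1 : q.ResidueField) ⊗ₜ[A] y i, by
      rw [Finset.coe_image, Finset.coe_univ, Set.image_univ, hspan]⟩⟩
  have hind : LinearIndependent q.ResidueField fun i => (1 : q.ResidueField) ⊗ₜ[A] y i := by
    rw [linearIndependent_iff_card_le_finrank_span, Fintype.card_fin, Set.finrank, hspan, finrank_top]
    exact hrank
  have hli : LinearIndependent (Localization.AtPrime p) s := by
    refine Fintype.linearIndependent_iff.2 fun g hg j => ?_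
    have hj : ∀ i, ∃ (b : A) (c : p.primeCompl), g i = Localization.mk b c := fun i => by
      induction g i using Localization.induction_on with
      | H r => exact ⟨r.1, r.2, rfl⟩
    choose b c hbc using hj
    let C : A := ∏ i, (c i : A)
    let d : Fin n → A := fun i => ∏ l ∈ Finset.univ.erase i, (c l : A)
    let T : A := ∏ i, (t i : A)
    let e : Fin n → A := fun i => ∏ l ∈ Finset.univ.erase i, (t l : A)
    have hsum : LocalizedModule.mkLinearMap p.primeCompl M (∑ i, (b i * d i * e i) • y i) = 0 := by
      rw [map_sum]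
      have : ∀ i, LocalizedModule.mkLinearMap p.primeCompl M ((b i * d i * e i) • y i) =
          algebraMap A (Localization.AtPrime p) (C * T) • (g i • s i) := fun i => by
        rw [map_smul, hmk, ← algebraMap_smul (Localization.AtPrime p) (b i * d i * e i), smul_smul, smul_smul, hbc,
          ← Localization.mk_one_eq_algebraMap, ← Localization.mk_one_eq_algebraMap, ← Localization.mk_one_eq_algebraMap,
          Localization.mk_mul, Localization.mk_mul]
        congr 1
        rw [Localization.mk_eq_mk_iff, Localization.r_iff_exists]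
        refine ⟨1, ?_⟩
        simp only [OneMemClass.coe_one, one_mul, mul_one, C, T, d, e,
          ← Finset.mul_prod_erase Finset.univ _ (Finset.mem_univ i)]
        ring
      rw [Finset.sum_congr rfl fun i _ => this i, ← Finset.smul_sum, hg, smul_zero]
    rw [LocalizedModule.mkLinearMap_apply, ← LocalizedModule.zero_mk (1 : p.primeCompl), LocalizedModule.mk_eq] at hsum
    obtain ⟨w, hw⟩ := hsum
    simp only [one_smul, smul_zero] at hw
    have h2 := congrArg (TensorProduct.mk A q.ResidueField M 1) hw
    simp only [Submonoid.smul_def, map_smul, map_sum, map_zero] at h2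
    simp only [← algebraMap_smul q.ResidueField (_ : A), TensorProduct.mk_apply] at h2
    have hw0 : algebraMap A q.ResidueField (w : A) ≠ 0 := fun h0 => w.2 (hqp (by
      rwa [← Ideal.algebraMap_residueField_eq_zero]))
    have h3 := Fintype.linearIndependent_iff.1 hind _ ((smul_eq_zero.1 h2).resolve_left hw0) j
    rw [Ideal.algebraMap_residueField_eq_zero] at h3
    have hbj : b j ∈ q := by
      rcases ‹q.IsPrime›.mem_or_mem h3 with h | h
      · rcases ‹q.IsPrime›.mem_or_mem h with h | h
        · exact h
        · obtain ⟨l, -, hl⟩ := ‹q.IsPrime›.prod_mem_iff.1 h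
          exact ((c l).2 (hqp hl)).elim
      · obtain ⟨l, -, hl⟩ := ‹q.IsPrime›.prod_mem_iff.1 h
        exact ((t l).2 (hqp hl)).elim
    have : algebraMap A (Localization.AtPrime p) (b j) = 0 := hq0 _ hbj
    rw [hbc, show Localization.mk (b j) (c j) = Localization.mk 1 (c j) * algebraMap A _ (b j) by
      rw [← Localization.mk_one_eq_algebraMap, Localization.mk_mul, one_mul, mul_one], this, mul_zero]
  let B : Module.Basis (Fin n) (Localization.AtPrime p) (LocalizedModule p.primeCompl M) := Module.Basis.mk hli hs.ge
  exact ⟨Module.Free.of_basis B, by rw [Module.finrank_eq_card_basis B, Fintype.card_fin]⟩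

end Groth.Agent.CKaehlerFree3
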