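/-
Differentials of the fraction field of a complete local domain over a field.
-/
import Groth.Agent.Lib.CKaehlerFree3.Frob

set_option autoImplicit false

universe u

open IsLocalRing TensorProduct

namespace Groth.Agent.CKaehlerFree3

section Abstract

variable {k : Type u} [Field k] {n : ℕ} {C : Type u} [CommRing C] [IsDomain C] [Algebra k C]
  [Algebra (MvPowerSeries (Fin n) k) C] [IsScalarTower k (MvPowerSeries (Fin n) k) C]
  [Module.Finite (MvPowerSeries (Fin n) k) C]
  (E L : Type u) [Field E] [Field L] [Algebra (MvPowerSeries (Fin n) k) E]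
  [IsFractionRing (MvPowerSeries (Fin n) k) E] [Algebra k E] [IsScalarTower k (MvPowerSeries (Fin n) k) E]
  [Algebra C L] [IsFractionRing C L] [Algebra k L] [IsScalarTower k C L]
  [Algebra (MvPowerSeries (Fin n) k) L] [IsScalarTower (MvPowerSeries (Fin n) k) C L]
  [Algebra E L] [IsScalarTower (MvPowerSeries (Fin n) k) E L] [IsScalarTower k E L]

include E C

theorem rank_kaehler_fraction_ge :
    Module.Finite L (LinearMap.ker (KaehlerDifferential.mapBaseChange ℤ k L)) ∧
      ((n + Module.finrank L (LinearMap.ker (KaehlerDifferential.mapBaseChange ℤ k L)) : ℕ) : Cardinal.{u}) ≤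
        Module.rank L Ω[L⁄k] := by
  classical
  haveI : IsDomain (MvPowerSeries (Fin n) k) := NoZeroDivisors.to_isDomain _
  haveI := finite_fractionRing (R := MvPowerSeries (Fin n) k) (C := C) E L
  obtain ⟨hW, hU, hm, hcount⟩ :=
    imperfection_count (L := L) (injective_mapBaseChange_fractionRing (k := k) (E := E) n)
  refine ⟨hU, ?_⟩
  haveI : Algebra.FormallyEtale (MvPowerSeries (Fin n) k) E :=
    Algebra.FormallyEtale.of_isLocalization (nonZeroDivisors (MvPowerSeries (Fin n) k))
  haveI : IsScalarTower k (MvPowerSeries (Fin n) k) L := IsScalarTower.of_algebraMap_eq fun a => by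
    rw [IsScalarTower.algebraMap_apply (MvPowerSeries (Fin n) k) C L, ← IsScalarTower.algebraMap_apply k _ C,
      ← IsScalarTower.algebraMap_apply k C L]
  let par : Derivation k (MvPowerSeries (Fin n) k) (Fin n → L) := Derivation.mk'
    { toFun := fun r i => algebraMap (MvPowerSeries (Fin n) k) L (MvPowerSeries.pderiv k i r)
      map_add' := fun r s => funext fun i => by rw [map_add, map_add]; rfl
      map_smul' := fun a r => funext fun i => by
        rw [RingHom.id_apply, Pi.smul_apply, Derivation.map_smul, Algebra.smul_def, map_mul,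
          IsScalarTower.algebraMap_apply (MvPowerSeries (Fin n) k) E L, ← IsScalarTower.algebraMap_apply k _ E,
          ← IsScalarTower.algebraMap_apply k E L, ← Algebra.smul_def] }
    fun r s => funext fun i => by
      change algebraMap _ L (MvPowerSeries.pderiv k i (r * s)) =
        r • algebraMap (MvPowerSeries (Fin n) k) L (MvPowerSeries.pderiv k i s) +
          s • algebraMap (MvPowerSeries (Fin n) k) L (MvPowerSeries.pderiv k i r)
      rw [Derivation.leibniz, map_add, smul_eq_mul, smul_eq_mul, map_mul, map_mul, ← Algebra.smul_def,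
        ← Algebra.smul_def]
  let π : L ⊗[E] Ω[E⁄k] →ₗ[L] (Fin n → L) :=
    ((par.liftKaehlerDifferential.liftBaseChange E) ∘ₗ
      (KaehlerDifferential.tensorKaehlerEquivOfFormallyEtale k (MvPowerSeries (Fin n) k) E).symm.toLinearMap).liftBaseChange L
  have hπD : ∀ r, π (1 ⊗ₜ KaehlerDifferential.D k E (algebraMap (MvPowerSeries (Fin n) k) E r)) = par r := fun r => by
    rw [LinearMap.liftBaseChange_tmul, one_smul, LinearMap.comp_apply, LinearEquiv.coe_coe,
      show (KaehlerDifferential.tensorKaehlerEquivOfFormallyEtale k (MvPowerSeries (Fin n) k) E).symm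
        (KaehlerDifferential.D k E (algebraMap (MvPowerSeries (Fin n) k) E r)) =
        1 ⊗ₜ KaehlerDifferential.D k _ r from (LinearEquiv.symm_apply_eq _).2 (by simp),
      LinearMap.liftBaseChange_tmul, one_smul, Derivation.liftKaehlerDifferential_comp_D]
  have hπ : Function.Surjective π := fun w => by
    refine ⟨∑ i, w i • ((1 : L) ⊗ₜ KaehlerDifferential.D k E
      (algebraMap (MvPowerSeries (Fin n) k) E (MvPowerSeries.X i))), funext fun j => ?_⟩
    simp only [map_sum, map_smul, hπD, Finset.sum_apply, Pi.smul_apply]
    rw [Finset.sum_eq_single j]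
    · change w j • algebraMap _ L (MvPowerSeries.pderiv k j (MvPowerSeries.X j)) = w j
      rw [MvPowerSeries.pderiv_X_self, map_one, smul_eq_mul, mul_one]
    · intro i _ hi
      change w i • algebraMap _ L (MvPowerSeries.pderiv k j (MvPowerSeries.X i)) = 0
      rw [MvPowerSeries.pderiv_X_of_ne hi, map_zero, smul_zero]
    · intro h; exact absurd (Finset.mem_univ j) h
  refine le_rank_of_exact (KaehlerDifferential.mapBaseChange k E L) (KaehlerDifferential.map k E L L) π
    (KaehlerDifferential.exact_mapBaseChange_map k E L) (KaehlerDifferential.map_surjective k E L) hπ _ ?_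
  have hf : Module.finrank L (Fin n → L) = n := Module.finrank_fin_fun L
  have e : ∀ a b c d : ℕ, a + b = c → d = n → n + b + a ≤ d + c := by omega
  exact e _ _ _ _ hcount hf

theorem kaehler_fraction_le (p : ℕ) [Fact p.Prime] [CharP k p] (hk : (frobenius k p).Finite) :
    Module.Finite C Ω[C⁄k] ∧ Module.Finite L Ω[L⁄k] ∧
      Module.finrank L Ω[L⁄k] ≤ n + Module.finrank L (LinearMap.ker (KaehlerDifferential.mapBaseChange ℤ k L)) := by
  classical
  haveI : IsDomain (MvPowerSeries (Fin n) k) := NoZeroDivisors.to_isDomain _
  haveI := finite_fractionRing (R := MvPowerSeries (Fin n) k) (C := C) E L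
  obtain ⟨hW, hU, hm, hcount⟩ :=
    imperfection_count (L := L) (injective_mapBaseChange_fractionRing (k := k) (E := E) n)
  let R := MvPowerSeries (Fin n) k
  have hR : Module.Finite R Ω[R⁄k] :=
    ⟨⟨Finset.univ.image fun i => KaehlerDifferential.D k R (MvPowerSeries.X i), by
      rw [Finset.coe_image, Finset.coe_univ, Set.image_univ]; exact span_D_X_eq_top p hk n⟩⟩
  haveI : Module.Finite C Ω[C⁄R] := inferInstance
  have hC : Module.Finite C Ω[C⁄k] := by
    constructor
    refine Submodule.fg_of_fg_map_of_fg_inf_ker (KaehlerDifferential.map k R C C) ?_ ?_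
    · rw [Submodule.map_top, LinearMap.range_eq_top.2 (KaehlerDifferential.map_surjective k R C)]
      exact Module.finite_def.1 inferInstance
    · rw [top_inf_eq, ← KaehlerDifferential.range_mapBaseChange k R C]
      exact Module.Finite.iff_fg.1 (Module.Finite.range _)
  haveI : Algebra.FormallyEtale R E := Algebra.FormallyEtale.of_isLocalization (nonZeroDivisors R)
  let e : Fin n → L ⊗[E] Ω[E⁄k] := fun i =>
    (1 : L) ⊗ₜ[E] KaehlerDifferential.D k E (algebraMap R E (MvPowerSeries.X i))
  have hspanE : Submodule.span E (Set.range fun i => KaehlerDifferential.D k E (algebraMap R E (MvPowerSeries.X i))) = ⊤ := by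
    rw [Submodule.eq_top_iff']
    intro w
    obtain ⟨t, rfl⟩ := (KaehlerDifferential.tensorKaehlerEquivOfFormallyEtale k R E).surjective w
    induction t using TensorProduct.induction_on with
    | zero => rw [map_zero]; exact zero_mem _
    | add a b ha hb => rw [map_add]; exact add_mem ha hb
    | tmul c v =>
      rw [show (c ⊗ₜ[R] v) = c • ((1 : E) ⊗ₜ[R] v) by rw [TensorProduct.smul_tmul', smul_eq_mul, mul_one], map_smul]
      refine Submodule.smul_mem _ _ ?_
      have hv : v ∈ Submodule.span R (Set.range fun i => KaehlerDifferential.D k R (MvPowerSeries.X i)) := by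
        rw [span_D_X_eq_top p hk n]; trivial
      induction hv using Submodule.span_induction with
      | mem _ hx => obtain ⟨i, rfl⟩ := hx; exact Submodule.subset_span ⟨i, by simp⟩
      | zero => rw [TensorProduct.tmul_zero, map_zero]; exact zero_mem _
      | add a b _ _ ha hb => rw [TensorProduct.tmul_add, map_add]; exact add_mem ha hb
      | smul r a _ ha =>
        rw [TensorProduct.tmul_smul, ← algebraMap_smul E r, map_smul]
        exact Submodule.smul_mem _ _ ha
  have hspan : Submodule.span L (Set.range e) = ⊤ := by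
    rw [eq_top_iff]
    intro z _
    induction z using TensorProduct.induction_on with
    | zero => exact zero_mem _
    | add a b ha hb => exact add_mem (ha trivial) (hb trivial)
    | tmul c w =>
      have hw := Submodule.mem_map_of_mem (f := TensorProduct.mk E L Ω[E⁄k] 1) (hspanE.ge (Submodule.mem_top (x := w)))
      rw [Submodule.map_span, ← Set.range_comp] at hw
      rw [show c ⊗ₜ[E] w = c • ((1 : L) ⊗ₜ[E] w) by rw [TensorProduct.smul_tmul', smul_eq_mul, mul_one]]
      exact Submodule.smul_mem _ _ (Submodule.span_subset_span E L _ hw)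
  haveI hU2 : Module.Finite L (L ⊗[E] Ω[E⁄k]) :=
    ⟨⟨Finset.univ.image e, by rw [Finset.coe_image, Finset.coe_univ, Set.image_univ, hspan]⟩⟩
  have hn2 : Module.finrank L (L ⊗[E] Ω[E⁄k]) ≤ n := by
    rw [← finrank_top L (L ⊗[E] Ω[E⁄k]), ← hspan]
    exact (finrank_range_le_card e).trans (Fintype.card_fin n).le
  haveI := hW
  have hV : Module.Finite L Ω[L⁄k] := by
    constructor
    refine Submodule.fg_of_fg_map_of_fg_inf_ker (KaehlerDifferential.map k E L L) ?_ ?_
    · rw [Submodule.map_top, LinearMap.range_eq_top.2 (KaehlerDifferential.map_surjective k E L)]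
      exact Module.finite_def.1 inferInstance
    · rw [top_inf_eq, ← KaehlerDifferential.range_mapBaseChange k E L]
      exact Module.Finite.iff_fg.1 (Module.Finite.range _)
  refine ⟨hC, hV, ?_⟩
  have h1 := (KaehlerDifferential.mapBaseChange k E L).finrank_range_add_finrank_ker
  have h2 := (KaehlerDifferential.map k E L L).finrank_range_add_finrank_ker
  rw [LinearMap.range_eq_top.2 (KaehlerDifferential.map_surjective k E L), finrank_top,
    ← KaehlerDifferential.range_mapBaseChange k E L] at h2
  have e : ∀ a b c d r t : ℕ, a + b = c → d + r = t → r + a ≤ n → d = c → t ≤ n + b := by omega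
  exact e _ _ _ _ _ _ hcount h2 (h1.trans_le hn2) rfl

end Abstract

/-- The instance-free form. -/
theorem kaehler_fraction_count (k C L : Type u) [Field k] [CommRing C] [IsDomain C] [IsNoetherianRing C]
    [IsLocalRing C] [Algebra k C] [IsAdicComplete (maximalIdeal C) C] [Module.Finite k (ResidueField C)]
    (n : ℕ) (hn : ringKrullDim C = n) [Field L] [Algebra C L] [IsFractionRing C L] [Algebra k L]
    [IsScalarTower k C L] :
    (Module.Finite L (LinearMap.ker (KaehlerDifferential.mapBaseChange ℤ k L)) ∧
      ((n + Module.finrank L (LinearMap.ker (KaehlerDifferential.mapBaseChange ℤ k L)) : ℕ) : Cardinal.{u}) ≤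
        Module.rank L Ω[L⁄k]) ∧
    ∀ (p : ℕ) [Fact p.Prime] [CharP k p], (frobenius k p).Finite →
      Module.Finite C Ω[C⁄k] ∧ Module.Finite L Ω[L⁄k] ∧
        Module.finrank L Ω[L⁄k] ≤ n + Module.finrank L (LinearMap.ker (KaehlerDifferential.mapBaseChange ℤ k L)) := by
  obtain ⟨ψ, hψi, hψf⟩ := exists_finite_injective_powerSeries k C n hn
  let : Algebra (MvPowerSeries (Fin n) k) C := ψ.toRingHom.toAlgebra
  have : IsScalarTower k (MvPowerSeries (Fin n) k) C := IsScalarTower.of_algebraMap_eq fun a => (ψ.commutes a).symm
  have : Module.Finite (MvPowerSeries (Fin n) k) C := hψf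
  have : IsDomain (MvPowerSeries (Fin n) k) := NoZeroDivisors.to_isDomain _
  let R := MvPowerSeries (Fin n) k
  let : Algebra R L := ((algebraMap C L).comp (algebraMap R C)).toAlgebra
  have : IsScalarTower R C L := IsScalarTower.of_algebraMap_eq fun _ => rfl
  have : IsScalarTower k R L := IsScalarTower.of_algebraMap_eq fun a => by
    rw [IsScalarTower.algebraMap_apply R C L, ← IsScalarTower.algebraMap_apply k R C,
      ← IsScalarTower.algebraMap_apply k C L]
  have : FaithfulSMul R L :=
    (faithfulSMul_iff_algebraMap_injective _ _).2 ((IsFractionRing.injective C L).comp hψi)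
  let : Algebra (FractionRing R) L := FractionRing.liftAlgebra R L
  have : IsScalarTower R (FractionRing R) L := FractionRing.isScalarTower_liftAlgebra R L
  have : IsScalarTower k (FractionRing R) L := IsScalarTower.of_algebraMap_eq fun a => by
    rw [IsScalarTower.algebraMap_apply k R (FractionRing R), ← IsScalarTower.algebraMap_apply R (FractionRing R) L,
      ← IsScalarTower.algebraMap_apply k R L]
  exact ⟨rank_kaehler_fraction_ge (k := k) (n := n) (C := C) (FractionRing R) L,
    fun p _ _ hk => kaehler_fraction_le (k := k) (n := n) (C := C) (FractionRing R) L p hk⟩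

end Groth.Agent.CKaehlerFree3
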