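/-
The adic completion of a module whose reductions are projective is free, on lifts of a basis of the closed fibre.
-/
import Groth.Agent.Lib.Compl.Complete
import Mathlib.RingTheory.AdicCompletion.Functoriality
import Mathlib.RingTheory.LocalRing.ResidueField.Basic
import Mathlib.LinearAlgebra.Dimension.StrongRankCondition
import Mathlib.Algebra.Module.Projective

universe u

open IsLocalRing

namespace Groth.Agent.CKaehlerFree3

variable {A M : Type u} [CommRing A] [AddCommGroup M] [Module A M] {ι : Type u} [Fintype ι]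

theorem smul_top_le_smul_top {I : Ideal A} (g : (ι → A) →ₗ[A] M) :
    (I • ⊤ : Submodule A (ι → A)) ≤ Submodule.comap g (I • ⊤) := by
  rw [← Submodule.map_le_iff_le_comap, Submodule.map_smul'']
  exact smul_mono_right _ le_top

/-- Projective reductions: a map from a free module which is bijective on the closed fibre is bijective on
every reduction. -/
theorem bijective_mapQ_pow (𝔪 : Ideal A) (n : ℕ) [Module.Projective (A ⧸ 𝔪 ^ n) (M ⧸ (𝔪 ^ n • ⊤ : Submodule A M))]
    (g : (ι → A) →ₗ[A] M) (hinj : ∀ x, g x ∈ (𝔪 • ⊤ : Submodule A M) → x ∈ (𝔪 • ⊤ : Submodule A (ι → A)))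
    (hsurj : ∀ y, ∃ x, y - g x ∈ (𝔪 • ⊤ : Submodule A M)) :
    Function.Bijective (Submodule.mapQ (𝔪 ^ n • ⊤) (𝔪 ^ n • ⊤) g (smul_top_le_smul_top g)) := by
  let h := Submodule.mapQ (𝔪 ^ n • ⊤) (𝔪 ^ n • ⊤) g (smul_top_le_smul_top g)
  have htop : ∀ j : ℕ, LinearMap.range g ⊔ 𝔪 ^ j • ⊤ = ⊤ := by
    have h1 : LinearMap.range g ⊔ 𝔪 • ⊤ = ⊤ := eq_top_iff.2 fun y _ => by
      obtain ⟨x, hx⟩ := hsurj y
      rw [← sub_add_cancel y (g x), add_comm]
      exact Submodule.add_mem_sup ⟨x, rfl⟩ hx
    intro j
    induction j with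
    | zero => rw [pow_zero, Submodule.one_smul, sup_top_eq]
    | succ j ih =>
      rw [eq_top_iff]
      calc ⊤ = LinearMap.range g ⊔ 𝔪 • ⊤ := h1.symm
        _ ≤ _ := by
          refine sup_le le_sup_left ?_
          conv_lhs => rw [← ih]
          rw [Submodule.smul_sup, ← Submodule.mul_smul, ← pow_succ']
          exact sup_le_sup_right Submodule.smul_le_right _
  have hs : Function.Surjective h := by
    intro y
    obtain ⟨y, rfl⟩ := Submodule.Quotient.mk_surjective _ y
    obtain ⟨a, ⟨x, rfl⟩, b, hb, hab⟩ := Submodule.mem_sup.1 ((htop n).ge (Submodule.mem_top (x := y)))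
    refine ⟨Submodule.Quotient.mk x, (Submodule.Quotient.eq _).2 ?_⟩
    rw [← hab, sub_add_cancel_left]
    exact neg_mem hb
  refine ⟨LinearMap.ker_eq_bot.1 (eq_bot_iff.2 fun z hz => ?_), hs⟩
  let h' := LinearMap.extendScalarsOfSurjective (Ideal.Quotient.mk_surjective (I := 𝔪 ^ n)) h
  obtain ⟨s, hsec⟩ := Module.projective_lifting_property h' LinearMap.id hs
  let e : ((ι → A) ⧸ (𝔪 ^ n • ⊤ : Submodule A (ι → A))) →ₗ[A] _ :=
    LinearMap.id - (s.restrictScalars A) ∘ₗ h
  have he : ∀ z, h (e z) = 0 := fun z => by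
    have := LinearMap.congr_fun hsec (h z)
    simp only [LinearMap.comp_apply, LinearMap.id_apply] at this
    simp only [e, LinearMap.sub_apply, LinearMap.id_apply, LinearMap.comp_apply, map_sub,
      LinearMap.coe_restrictScalars]
    exact sub_eq_zero.2 this.symm
  have hker : ∀ z, h z = 0 → z ∈ (𝔪 • ⊤ : Submodule A ((ι → A) ⧸ (𝔪 ^ n • ⊤ : Submodule A (ι → A)))) := by
    intro z hz
    obtain ⟨x, rfl⟩ := Submodule.Quotient.mk_surjective _ z
    rcases Nat.eq_zero_or_pos n with rfl | hn
    · have h0 : (Submodule.Quotient.mk x : (ι → A) ⧸ (𝔪 ^ 0 • ⊤ : Submodule A (ι → A))) = 0 := by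
        rw [Submodule.Quotient.mk_eq_zero, pow_zero, Submodule.one_smul]; trivial
      rw [h0]; exact zero_mem _
    · have hx := hinj x (Submodule.smul_mono_left (Ideal.pow_le_self hn.ne') ((Submodule.Quotient.mk_eq_zero _).1 hz))
      have := Submodule.mem_map_of_mem (f := Submodule.mkQ (𝔪 ^ n • ⊤ : Submodule A (ι → A))) hx
      rw [Submodule.map_smul'', Submodule.map_top, Submodule.range_mkQ] at this
      exact this
  have hstep : ∀ j : ℕ, LinearMap.ker h ≤ 𝔪 ^ j • ⊤ := by
    intro j
    induction j with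
    | zero => rw [pow_zero, Submodule.one_smul]; exact le_top
    | succ j ih =>
      intro z hz
      have h1 : z = e z := by
        simp only [e, LinearMap.sub_apply, LinearMap.id_apply, LinearMap.comp_apply, LinearMap.mem_ker.1 hz, map_zero,
          sub_zero]
      rw [h1]
      have := Submodule.mem_map_of_mem (f := e) (ih hz)
      rw [Submodule.map_smul'', Submodule.map_top] at this
      rw [pow_succ, Submodule.mul_smul]
      exact smul_mono_right _ (LinearMap.range_le_iff_comap.2 (eq_top_iff.2 fun w _ => hker _ (he w))) this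
  have := hstep n hz
  rw [← Submodule.range_mkQ, ← Submodule.map_top, ← Submodule.map_smul''] at this
  obtain ⟨x, hx, rfl⟩ := this
  rw [Submodule.mem_bot]
  exact (Submodule.Quotient.mk_eq_zero _).2 hx

/-- Over a complete Noetherian ring, a map from a finite free module bijective on all reductions gives the
completion. -/
theorem nonempty_linearEquiv [IsNoetherianRing A] (𝔪 : Ideal A) [IsAdicComplete 𝔪 A] (g : (ι → A) →ₗ[A] M)
    (hb : ∀ n, Function.Bijective (Submodule.mapQ (𝔪 ^ n • ⊤) (𝔪 ^ n • ⊤) g (smul_top_le_smul_top g))) :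
    Nonempty ((ι → A) ≃ₗ[A] AdicCompletion 𝔪 M) := by
  haveI := Compl.isAdicComplete_of_finite 𝔪 (ι → A)
  refine ⟨(AdicCompletion.ofLinearEquiv 𝔪 (ι → A)).trans
    (LinearEquiv.ofBijective ((AdicCompletion.map 𝔪 g).restrictScalars A) ⟨fun x y h => ?_, fun y => ?_⟩)⟩
  · refine AdicCompletion.ext fun {n} => (hb n).1 ?_
    have := congrArg (fun z : AdicCompletion 𝔪 M => z.val n) h
    simp only [LinearMap.coe_restrictScalars, AdicCompletion.map_val_apply] at this
    exact this
  · let E := fun n => LinearEquiv.ofBijective _ (hb n)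
    refine ⟨⟨fun n => (E n).symm (y.val n), fun {m n} hmn => ?_⟩, AdicCompletion.ext fun {n} => ?_⟩
    · apply (E m).injective
      rw [LinearEquiv.apply_symm_apply]
      obtain ⟨x, hx⟩ := Submodule.Quotient.mk_surjective _ ((E n).symm (y.val n))
      have h1 : Submodule.Quotient.mk (g x) = y.val n := by
        rw [← (E n).apply_symm_apply (y.val n), ← hx]; rfl
      dsimp only
      rw [← hx, ← y.2 hmn, ← h1]
      rfl
    · rw [LinearMap.coe_restrictScalars, AdicCompletion.map_val_apply]
      exact (E n).apply_symm_apply (y.val n)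

end Groth.Agent.CKaehlerFree3
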