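/-
Power series over a field, and algebras étale over them, are geometrically regular over the coefficient field.
-/
import Groth.Prelude.Def_Found
import Groth.Agent.Lib.RegCpl3.Localization
import Groth.Agent.Lib.SmoothReg17.Basic
import Groth.Agent.Lib.H2Alg.PSHom
import Mathlib.RingTheory.Localization.BaseChange
import Mathlib.RingTheory.Etale.Basic
import Mathlib.RingTheory.TensorProduct.Free

set_option autoImplicit false

universe u

open TensorProduct

namespace Groth.Agent.CKaehlerFree3

/-- `k'⊗k[[n]] ≅ k'[[n]]` for finite `k'`. -/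
theorem nonempty_tensor_powerSeries_equiv (k k' : Type u) [Field k] [Field k'] [Algebra k k'] [Module.Finite k k']
    (n : ℕ) : Nonempty (k' ⊗[k] MvPowerSeries (Fin n) k ≃+* MvPowerSeries (Fin n) k') := by
  classical
  let Φ : k' ⊗[k] MvPowerSeries (Fin n) k →ₐ[k] MvPowerSeries (Fin n) k' :=
    Algebra.TensorProduct.lift
      (IsScalarTower.toAlgHom k k' (MvPowerSeries (Fin n) k'))
      { toRingHom := MvPowerSeries.map (algebraMap k k')
        commutes' := fun a => by
          change MvPowerSeries.map (algebraMap k k') (algebraMap k (MvPowerSeries (Fin n) k) a) = _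
          rw [MvPowerSeries.algebraMap_apply, MvPowerSeries.algebraMap_apply, Algebra.algebraMap_self_apply,
            MvPowerSeries.map_C] }
      fun _ _ => Commute.all _ _
  have hΦ : ∀ (c : k') (f : MvPowerSeries (Fin n) k) (m : Fin n →₀ ℕ),
      MvPowerSeries.coeff m (Φ (c ⊗ₜ f)) = c * algebraMap k k' (MvPowerSeries.coeff m f) := fun c f m => by
    rw [Algebra.TensorProduct.lift_tmul]
    change MvPowerSeries.coeff m (algebraMap k' (MvPowerSeries (Fin n) k') c * MvPowerSeries.map (algebraMap k k') f) = _
    rw [MvPowerSeries.algebraMap_apply, Algebra.algebraMap_self_apply, MvPowerSeries.coeff_C_mul,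
      MvPowerSeries.coeff_map]
  let b := Module.finBasis k k'
  let Ψ : MvPowerSeries (Fin n) k' → k' ⊗[k] MvPowerSeries (Fin n) k := fun g =>
    ∑ i, b i ⊗ₜ ((fun m => b.repr (MvPowerSeries.coeff m g) i : MvPowerSeries (Fin n) k))
  refine ⟨RingEquiv.ofBijective Φ.toRingHom ⟨Function.LeftInverse.injective (g := Ψ) fun z => ?_, fun g => ⟨Ψ g, ?_⟩⟩⟩
  · have hadd : ∀ g g', Ψ (g + g') = Ψ g + Ψ g' := fun g g' => by
      simp only [Ψ, ← Finset.sum_add_distrib, ← TensorProduct.tmul_add]
      refine Finset.sum_congr rfl fun i _ => congrArg _ (funext fun m => ?_)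
      change b.repr (MvPowerSeries.coeff m (g + g')) i = b.repr (MvPowerSeries.coeff m g) i + b.repr (MvPowerSeries.coeff m g') i
      rw [map_add, map_add, Finsupp.add_apply]
    induction z using TensorProduct.induction_on with
    | zero =>
      have h0 : Ψ 0 = 0 := by simpa using hadd 0 0
      change Ψ (Φ 0) = 0
      rw [map_zero, h0]
    | add x y hx hy =>
      change Ψ (Φ (x + y)) = x + y
      rw [map_add, hadd]
      exact congrArg₂ _ hx hy
    | tmul c f =>
      change ∑ i, b i ⊗ₜ ((fun m => b.repr (MvPowerSeries.coeff m (Φ (c ⊗ₜ f))) i : MvPowerSeries (Fin n) k)) = c ⊗ₜ f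
      have : ∀ i, ((fun m => b.repr (MvPowerSeries.coeff m (Φ (c ⊗ₜ f))) i : MvPowerSeries (Fin n) k)) =
          b.repr c i • f := fun i => funext fun m => by
        rw [hΦ, mul_comm, ← Algebra.smul_def, map_smul, Finsupp.smul_apply, smul_eq_mul, mul_comm]
        rfl
      simp only [this]
      conv_rhs => rw [← b.sum_repr c, TensorProduct.sum_tmul]
      exact Finset.sum_congr rfl fun i _ =>
        (TensorProduct.smul_tmul (R' := k) (b.repr c i) (b i) (f : MvPowerSeries (Fin n) k)).symm
  · refine MvPowerSeries.ext fun m => ?_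
    change MvPowerSeries.coeff m (Φ (Ψ g)) = _
    simp only [Ψ, map_sum, hΦ]
    conv_rhs => rw [← b.sum_repr (MvPowerSeries.coeff m g)]
    refine Finset.sum_congr rfl fun i _ => ?_
    rw [Algebra.smul_def, mul_comm]
    rfl

theorem geometricallyRegular_powerSeries (k : Type u) [Field k] (n : ℕ) :
    CAlg.IsGeometricallyRegular k (MvPowerSeries (Fin n) k) := by
  intro k' _ _ hfin
  obtain ⟨e⟩ := nonempty_tensor_powerSeries_equiv k k' n
  haveI : IsRegularRing (MvPowerSeries (Fin n) k') := RegCpl3.isRegularRing_mvPowerSeries k' n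
  exact IsRegularRing.of_ringEquiv e.symm

/-- Geometric regularity ascends along étale maps and passes to localisations. -/
theorem geometricallyRegular_localization_of_etale {k R B : Type u} [Field k] [CommRing R] [CommRing B]
    [Algebra k R] [Algebra k B] [Algebra R B] [IsScalarTower k R B] [Algebra.Etale R B]
    (hR : CAlg.IsGeometricallyRegular k R) (C : Type u) [CommRing C] [Algebra k C] [Algebra B C]
    [IsScalarTower k B C] (M : Submonoid B) [IsLocalization M C] : CAlg.IsGeometricallyRegular k C := by
  intro k' _ _ hfin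
  haveI : IsRegularRing (R ⊗[k] k') :=
    @IsRegularRing.of_ringEquiv _ _ _ _ (Algebra.TensorProduct.comm k k' R).toRingEquiv (hR k' hfin)
  haveI : IsRegularRing ((R ⊗[k] k') ⊗[R] B) := by
    haveI : IsNoetherianRing ((R ⊗[k] k') ⊗[R] B) := Algebra.FiniteType.isNoetherianRing (R ⊗[k] k') _
    refine isRegularRing_iff.2 fun Q hQ => ?_
    exact SmoothReg17.isRegularLocalRing_of_etale (A := R ⊗[k] k') Q
  let e : (R ⊗[k] k') ⊗[R] B ≃+* k' ⊗[k] B :=
    ((Algebra.TensorProduct.comm R (R ⊗[k] k') B).toRingEquiv.trans
      (Algebra.TensorProduct.cancelBaseChange k R B B k').toRingEquiv).trans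
      (Algebra.TensorProduct.comm k B k').toRingEquiv
  haveI : IsRegularRing (k' ⊗[k] B) := IsRegularRing.of_ringEquiv e
  let M' := M.map (Algebra.TensorProduct.includeRight (R := k) (A := k') : B →ₐ[k] k' ⊗[k] B)
  haveI := RegCpl3.isRegularRing_localization M'
  exact IsRegularRing.of_ringEquiv
    (IsLocalization.tensorProductEquivOfMapIncludeRight k k' M C (Localization M')).toRingEquiv.symm


/-- A localization at a prime of an algebra with an étale chart over power series is geometrically regular. -/
theorem geometricallyRegular_atPrime_of_chart {k : Type u} [Field k] {n : ℕ} {A : Type u} [CommRing A] [Algebra k A]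
    [Algebra (MvPowerSeries (Fin n) k) A] [IsScalarTower k (MvPowerSeries (Fin n) k) A] (p : Ideal A) [p.IsPrime]
    (g : A) (hg : g ∉ p) (hE : Algebra.Etale (MvPowerSeries (Fin n) k) (Localization.Away g)) :
    CAlg.IsGeometricallyRegular k (Localization.AtPrime p) := by
  haveI := hE
  have hdis : Disjoint (Submonoid.powers g : Set A) (p : Set A) :=
    (Ideal.disjoint_powers_iff_notMem_of_isPrime _).mpr hg
  let P : Ideal (Localization.Away g) := p.map (algebraMap A (Localization.Away g))
  haveI : P.IsPrime := IsLocalization.isPrime_of_isPrime_disjoint (.powers g) _ _ ‹_› hdis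
  have hPc : P.comap (algebraMap A (Localization.Away g)) = p :=
    IsLocalization.comap_map_of_isPrime_disjoint (.powers g) (Localization.Away g) ‹_› hdis
  haveI : IsLocalization.AtPrime (Localization.AtPrime P) p := by
    have h1 := IsLocalization.isLocalization_isLocalization_atPrime_isLocalization (Submonoid.powers g)
      (Localization.AtPrime P) P
    have hsub : (P.comap (algebraMap A (Localization.Away g))).primeCompl = p.primeCompl := by
      ext x; change x ∉ P.comap _ ↔ x ∉ p; rw [hPc]
    change IsLocalization _ _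
    rw [← hsub]
    exact h1
  let e : Localization.AtPrime P ≃ₐ[A] Localization.AtPrime p := IsLocalization.algEquiv p.primeCompl _ _
  have hP := geometricallyRegular_localization_of_etale (geometricallyRegular_powerSeries k n)
    (Localization.AtPrime P) P.primeCompl
  intro k' _ _ hfin
  haveI := hP k' hfin
  exact IsRegularRing.of_ringEquiv
    (Algebra.TensorProduct.congr (AlgEquiv.refl : k' ≃ₐ[k] k') (e.restrictScalars k)).toRingEquiv

end Groth.Agent.CKaehlerFree3
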