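import Groth.Agent.Lib.CKaehlerFree3.CTProps
import Groth.Agent.Lib.RegCpl3.Localization
import Groth.Agent.S3850
import Groth.Agent.S5055

/-!
A free stalk of completed differentials gives regularity of every completed field base change.
-/

set_option autoImplicit false
set_option linter.style.haveILetI false

universe u

open IsLocalRing TensorProduct

namespace Groth.Agent.CKaehlerFree3

/-- A localization of a quotient whose kernel dies in the localization is a localization. -/
theorem isLocalization_of_surjective {R S L : Type u} [CommRing R] [CommRing S] [CommRing L] [Algebra R S]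
    [Algebra R L] [Algebra S L] [IsScalarTower R S L] (hs : Function.Surjective (algebraMap R S))
    (P : Ideal R) [P.IsPrime] (Q : Ideal S) [Q.IsPrime] (hQ : Q.comap (algebraMap R S) = P)
    (hkill : ∀ x : R, algebraMap R S x = 0 → ∃ m : R, m ∉ P ∧ m * x = 0) [IsLocalization.AtPrime L Q] :
    IsLocalization.AtPrime L P where
  map_units := fun y => by
    rw [IsScalarTower.algebraMap_apply R S L]
    exact IsLocalization.map_units L (⟨algebraMap R S y, fun h => y.2 (hQ ▸ h)⟩ : Q.primeCompl)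
  surj := fun z => by
    obtain ⟨⟨a, b⟩, h⟩ := IsLocalization.surj Q.primeCompl z
    obtain ⟨a', ha⟩ := hs a
    obtain ⟨b', hb⟩ := hs b.1
    refine ⟨(a', ⟨b', fun hb' => b.2 ?_⟩), ?_⟩
    · rw [← hb]
      exact (hQ.symm ▸ hb' : b' ∈ Q.comap (algebraMap R S))
    · rw [IsScalarTower.algebraMap_apply R S L, IsScalarTower.algebraMap_apply R S L a', hb, ha]
      exact h
  exists_of_eq := fun {x y} h => by
    rw [IsScalarTower.algebraMap_apply R S L, IsScalarTower.algebraMap_apply R S L y] at h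
    obtain ⟨c, hc⟩ := IsLocalization.exists_of_eq (M := Q.primeCompl) h
    obtain ⟨c', hc'⟩ := hs c.1
    obtain ⟨m, hm, hmx⟩ := hkill (c' * (x - y)) (by rw [map_mul, map_sub, hc', mul_sub, hc, sub_self])
    refine ⟨⟨m * c', P.primeCompl.mul_mem hm fun hc'' => c.2 ?_⟩, ?_⟩
    · rw [← hc']
      exact (hQ.symm ▸ hc'' : c' ∈ Q.comap (algebraMap R S))
    · change m * c' * x = m * c' * y
      linear_combination hmx

section Quot

variable (k A : Type u) [Field k] [CommRing A] [IsLocalRing A] [IsNoetherianRing A] [Algebra k A]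
  [IsAdicComplete (maximalIdeal A) A] [Module.Finite k (ResidueField A)] (J : Ideal A) [IsLocalRing (A ⧸ J)]

theorem isAdicComplete_quot : IsAdicComplete (maximalIdeal (A ⧸ J)) (A ⧸ J) := by
  have hm : (maximalIdeal A).map (algebraMap A (A ⧸ J)) = maximalIdeal (A ⧸ J) :=
    IsLocalRing.map_maximalIdeal_of_surjective _ Ideal.Quotient.mk_surjective
  haveI hc : IsAdicComplete (maximalIdeal A) (A ⧸ J) := Compl.isAdicComplete_of_finite _ _
  rw [← hm]
  exact (IsAdicComplete.map_algebraMap_iff _ _).2 hc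

theorem finite_residueField_quot : Module.Finite k (ResidueField (A ⧸ J)) :=
  haveI : IsLocalHom (Ideal.Quotient.mkₐ k J).toRingHom :=
    Function.Surjective.isLocalHom _ Ideal.Quotient.mk_surjective
  Module.Finite.of_surjective
    ({ toFun := ResidueField.map (Ideal.Quotient.mkₐ k J).toRingHom
       map_add' := map_add _
       map_smul' := fun c x => by
         obtain ⟨x, rfl⟩ := residue_surjective x
         rw [RingHom.id_apply, Algebra.smul_def, Algebra.smul_def, map_mul]
         congr 1 } :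
      ResidueField A →ₗ[k] ResidueField (A ⧸ J)) fun y => by
    obtain ⟨y, rfl⟩ := residue_surjective y
    obtain ⟨x, rfl⟩ := Ideal.Quotient.mk_surjective y
    exact ⟨residue A x, rfl⟩

end Quot

variable (k A : Type u) [Field k] [CommRing A] [IsLocalRing A] [IsNoetherianRing A] [Algebra k A]
  [IsAdicComplete (maximalIdeal A) A] [Module.Finite k (ResidueField A)]

/-- Discard the components away from `p`: an étale chart in the expected dimension. -/
theorem exists_chart_of_free (p : Ideal A) [p.IsPrime] (hp : p ≠ maximalIdeal A) (n : ℕ)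
    (hn₁ : ∀ q ∈ minimalPrimes A, q ≤ p → ringKrullDim (A ⧸ q) ≤ n)
    (hn₂ : ∃ q ∈ minimalPrimes A, q ≤ p ∧ ringKrullDim (A ⧸ q) = n)
    (hgen : ∃ s : Fin n → LocalizedModule p.primeCompl (AdicCompletion (maximalIdeal A) Ω[A⁄k]),
      Submodule.span (Localization.AtPrime p) (Set.range s) = ⊤) :
    ∃ (J : Ideal A) (_ : IsLocalRing (A ⧸ J)) (_ : Algebra (MvPowerSeries (Fin n) k) (A ⧸ J))
      (_ : IsScalarTower k (MvPowerSeries (Fin n) k) (A ⧸ J)),
      IsLocalHom (algebraMap (MvPowerSeries (Fin n) k) (A ⧸ J)) ∧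
      Module.Finite (MvPowerSeries (Fin n) k) (A ⧸ J) ∧
      J ≤ p ∧ (∃ s : A, s ∉ p ∧ ∀ x ∈ J, s * x = 0) ∧
      (∃ g : A, g ∉ p ∧ Algebra.Etale (MvPowerSeries (Fin n) k) (Localization.Away (Ideal.Quotient.mk J g))) ∧
      CAlg.IsGeometricallyRegular k (Localization.AtPrime p) := by
  classical
  obtain ⟨q, hq, hqp, hdim⟩ := hn₂
  let J := RingHom.ker (algebraMap A (Localization.AtPrime p))
  have hJp : ∀ r : Ideal A, r.IsPrime → r ≤ p → J ≤ r := fun r hr hrp a ha => by
    obtain ⟨c, hc⟩ := (IsLocalization.map_eq_zero_iff p.primeCompl _ a).1 ha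
    exact (hr.mem_or_mem (hc ▸ r.zero_mem)).resolve_left fun h => c.2 (hrp h)
  have hJle : J ≤ p := hJp p inferInstance le_rfl
  haveI : Nontrivial (A ⧸ J) := Ideal.Quotient.nontrivial_iff.2 fun h => Ideal.IsPrime.ne_top' (top_le_iff.1 (h ▸ hJle))
  haveI hloc : IsLocalRing (A ⧸ J) := IsLocalRing.of_surjective' _ Ideal.Quotient.mk_surjective
  haveI := isAdicComplete_quot A J
  haveI := finite_residueField_quot k A J
  obtain ⟨s, hs, hsJ⟩ : ∃ s : A, s ∉ p ∧ ∀ x ∈ J, s * x = 0 := by
    obtain ⟨T, hT⟩ := IsNoetherian.noetherian J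
    choose c hc using fun x : T =>
      (IsLocalization.map_eq_zero_iff p.primeCompl (Localization.AtPrime p) (x : A)).1 (hT ▸ Submodule.subset_span x.2 : (x : A) ∈ J)
    refine ⟨∏ x : T, (c x : A), (∏ x : T, c x).2.imp fun h => by simpa using h, fun x hx => ?_⟩
    rw [← hT] at hx
    induction hx using Submodule.span_induction with
    | mem y hy =>
      obtain ⟨d, hd⟩ := Finset.dvd_prod_of_mem (fun x : T => (c x : A)) (Finset.mem_univ (⟨y, hy⟩ : T))
      rw [hd, mul_comm (c ⟨y, hy⟩ : A) d, mul_assoc, hc ⟨y, hy⟩, mul_zero]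
    | zero => rw [mul_zero]
    | add a b _ _ ha hb => rw [mul_add, ha, hb, add_zero]
    | smul a b _ hb => rw [smul_eq_mul, mul_left_comm, hb, mul_zero]
  let π := Ideal.Quotient.mk J
  let p₁ : Ideal (A ⧸ J) := p.map π
  haveI : p₁.IsPrime := Ideal.map_isPrime_of_surjective Ideal.Quotient.mk_surjective (Ideal.mk_ker.le.trans hJle)
  have hp₁ : p₁.comap π = p := by
    rw [Ideal.comap_map_of_surjective' _ Ideal.Quotient.mk_surjective, Ideal.mk_ker, sup_eq_left.2 hJle]
  haveI hL : IsLocalization.AtPrime (Localization.AtPrime p₁) p :=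
    isLocalization_of_surjective (S := A ⧸ J) Ideal.Quotient.mk_surjective p p₁ hp₁ fun x hx =>
      ⟨s, hs, hsJ x (Ideal.Quotient.eq_zero_iff_mem.1 hx)⟩
  have hinj : ∀ a : A ⧸ J, algebraMap (A ⧸ J) (Localization.AtPrime p₁) a = 0 → a = 0 := fun a ha => by
    obtain ⟨a, rfl⟩ := Ideal.Quotient.mk_surjective a
    refine Ideal.Quotient.eq_zero_iff_mem.2 ?_
    have h1 : algebraMap A (Localization.AtPrime p₁) a = 0 := ha
    obtain ⟨c, hc⟩ := (IsLocalization.map_eq_zero_iff p.primeCompl _ a).1 h1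
    exact (IsLocalization.map_eq_zero_iff p.primeCompl _ a).2 ⟨c, hc⟩
  -- minimal primes of `A/J`
  have hmin : ∀ r₁ ∈ minimalPrimes (A ⧸ J), r₁.comap π ∈ minimalPrimes A ∧ r₁.comap π ≤ p := by
    intro r₁ hr₁
    haveI := hr₁.1.1
    have hrp : r₁.comap π ≤ p := by
      intro a ha
      obtain ⟨b, hb0, hb⟩ : ∃ b : A ⧸ J, b ≠ 0 ∧ π a * b = 0 := by
        have h := Ideal.disjoint_nonZeroDivisors_of_mem_minimalPrimes hr₁
        have h2 : π a ∉ nonZeroDivisors (A ⧸ J) := fun h3 => Set.disjoint_left.1 h ha h3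
        simp only [mem_nonZeroDivisors_iff, not_and_or, not_forall] at h2
        rcases h2 with ⟨b, hb, hb'⟩ | ⟨b, hb, hb'⟩
        · exact ⟨b, hb', hb⟩
        · exact ⟨b, hb', by rwa [mul_comm]⟩
      by_contra hap
      refine hb0 (hinj b ?_)
      have hu : IsUnit (algebraMap A (Localization.AtPrime p₁) a) :=
        IsLocalization.map_units _ (⟨a, hap⟩ : p.primeCompl)
      have h2 := congrArg (algebraMap (A ⧸ J) (Localization.AtPrime p₁)) hb
      rw [map_mul, map_zero] at h2
      exact (hu.mul_right_eq_zero).1 h2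
    obtain ⟨r, hr, hrr⟩ := Ideal.exists_minimalPrimes_le (bot_le : (⊥ : Ideal A) ≤ r₁.comap π)
    refine ⟨?_, hrp⟩
    have hJr : J ≤ r := hJp r hr.1.1 (hrr.trans hrp)
    haveI := hr.1.1
    haveI : (r.map π).IsPrime := Ideal.map_isPrime_of_surjective Ideal.Quotient.mk_surjective (Ideal.mk_ker.le.trans hJr)
    have h3 : r₁ ≤ r.map π := hr₁.2 ⟨inferInstance, bot_le⟩ (Ideal.map_le_iff_le_comap.2 hrr)
    have h4 : r₁.comap π = r := le_antisymm (by
      refine (Ideal.comap_mono h3).trans ?_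
      rw [Ideal.comap_map_of_surjective' _ Ideal.Quotient.mk_surjective, Ideal.mk_ker, sup_eq_left.2 hJr]) hrr
    rw [h4]
    exact hr
  let q₁ : Ideal (A ⧸ J) := q.map π
  have hJq : J ≤ q := hJp q hq.1.1 hqp
  haveI := hq.1.1
  haveI : q₁.IsPrime := Ideal.map_isPrime_of_surjective Ideal.Quotient.mk_surjective (Ideal.mk_ker.le.trans hJq)
  have hq₁c : q₁.comap π = q := by
    rw [Ideal.comap_map_of_surjective' _ Ideal.Quotient.mk_surjective, Ideal.mk_ker, sup_eq_left.2 hJq]
  have hq₁ : q₁ ∈ minimalPrimes (A ⧸ J) := by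
    obtain ⟨r₁, hr₁, hle⟩ := Ideal.exists_minimalPrimes_le (bot_le : (⊥ : Ideal (A ⧸ J)) ≤ q₁)
    have h5 : r₁.comap π = q := le_antisymm (hq₁c ▸ Ideal.comap_mono hle)
      (hq.2 (hmin r₁ hr₁).1.1 (hq₁c ▸ Ideal.comap_mono hle))
    have h6 : r₁ = q₁ := by
      rw [← Ideal.map_comap_of_surjective π Ideal.Quotient.mk_surjective r₁, h5]
    exact h6 ▸ hr₁
  have hdim₁ : ringKrullDim ((A ⧸ J) ⧸ q₁) = n := by
    rw [← hdim]
    exact ringKrullDim_eq_of_ringEquiv (DoubleQuot.quotQuotEquivQuotOfLE hJq)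
  have hdimA : ringKrullDim (A ⧸ J) = n := by
    refine le_antisymm ?_ (hdim₁ ▸ ringKrullDim_le_of_surjective _ Ideal.Quotient.mk_surjective)
    rw [ringKrullDim, Order.krullDim_eq_iSup_coheight]
    refine iSup_le fun x => ?_
    obtain ⟨r₁, hr₁, hle⟩ := Ideal.exists_minimalPrimes_le (bot_le : (⊥ : Ideal (A ⧸ J)) ≤ x.asIdeal)
    obtain ⟨hr, hrp⟩ := hmin r₁ hr₁
    haveI := hr₁.1.1
    have hco : ((Order.coheight (⟨r₁, inferInstance⟩ : PrimeSpectrum (A ⧸ J)) : ℕ∞) : WithBot ℕ∞) ≤ n := by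
      rw [Order.coheight_eq_krullDim_Ici (x := (⟨r₁, inferInstance⟩ : PrimeSpectrum (A ⧸ J))),
        show Set.Ici (⟨r₁, inferInstance⟩ : PrimeSpectrum (A ⧸ J)) = PrimeSpectrum.zeroLocus (r₁ : Set (A ⧸ J)) from
          Set.ext fun _ => Iff.rfl, ← ringKrullDim_quotient]
      refine le_trans (le_of_eq ?_) (hn₁ _ hr hrp)
      have hJr : J ≤ r₁.comap π := hJp _ inferInstance hrp
      rw [← ringKrullDim_eq_of_ringEquiv (DoubleQuot.quotQuotEquivQuotOfLE hJr),
        ringKrullDim_eq_of_ringEquiv (Ideal.quotEquivOfEq (Ideal.map_comap_of_surjective π Ideal.Quotient.mk_surjective r₁))]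
    refine le_trans ?_ hco
    exact_mod_cast Order.coheight_anti (show (⟨r₁, inferInstance⟩ : PrimeSpectrum (A ⧸ J)) ≤ x from hle)
  have hp₁m : p₁ ≠ maximalIdeal (A ⧸ J) := fun h => hp (by
    rw [← hp₁, h]
    exact IsLocalRing.eq_maximalIdeal (Ideal.comap_isMaximal_of_surjective π Ideal.Quotient.mk_surjective))
  -- generators over `A/J`
  haveI hfinA : Module.Finite A (AdicCompletion (maximalIdeal A) Ω[A⁄k]) := S4528.result
  haveI hfinJ : Module.Finite (A ⧸ J) (AdicCompletion (maximalIdeal (A ⧸ J)) Ω[A ⧸ J⁄k]) := S4528.result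
  let M := AdicCompletion (maximalIdeal A) Ω[A⁄k]
  let M₁ := AdicCompletion (maximalIdeal (A ⧸ J)) Ω[A ⧸ J⁄k]
  haveI : Module.Finite A M₁ := Module.Finite.trans (A ⧸ J) _
  haveI : IsAdicComplete (maximalIdeal A) M₁ := Compl.isAdicComplete_of_finite _ _
  let h₀ : Ω[A⁄k] →ₗ[A] M₁ :=
    (AdicCompletion.of (maximalIdeal (A ⧸ J)) Ω[A ⧸ J⁄k]).restrictScalars A ∘ₗ KaehlerDifferential.map k k A (A ⧸ J)
  let Φ : M →ₗ[A] M₁ :=
    (AdicCompletion.ofLinearEquiv (maximalIdeal A) M₁).symm.toLinearMap ∘ₗ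
      (AdicCompletion.map (maximalIdeal A) h₀).restrictScalars A
  have hΦ : ∀ w, Φ (AdicCompletion.of _ _ w) = h₀ w := fun w => by
    rw [LinearMap.comp_apply, LinearMap.coe_restrictScalars, AdicCompletion.map_of, LinearEquiv.coe_coe,
      AdicCompletion.ofLinearEquiv_symm_of]
  have hsurj : Function.Surjective Φ := by
    rw [← LinearMap.range_eq_top, eq_top_iff]
    intro z hz
    clear hz
    have hw : z ∈ Submodule.span (A ⧸ J)
        (Set.range fun a => AdicCompletion.of (maximalIdeal (A ⧸ J)) Ω[A ⧸ J⁄k] (KaehlerDifferential.D k (A ⧸ J) a)) := by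
      rw [span_of_D_eq_top k (A ⧸ J)]; trivial
    induction hw using Submodule.span_induction with
    | mem w hw =>
      obtain ⟨a, rfl⟩ := hw
      obtain ⟨a, rfl⟩ := Ideal.Quotient.mk_surjective a
      refine ⟨AdicCompletion.of _ _ (KaehlerDifferential.D k A a), ?_⟩
      rw [hΦ, LinearMap.comp_apply, KaehlerDifferential.map_D]
      rfl
    | zero => exact zero_mem _
    | add a b _ _ ha hb => exact add_mem ha hb
    | smul c b _ hb =>
      obtain ⟨c, rfl⟩ := Ideal.Quotient.mk_surjective c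
      have : (Ideal.Quotient.mk J c) • b = c • b := algebraMap_smul (A ⧸ J) c b
      rw [this]
      exact Submodule.smul_mem _ _ hb
  have hgen₁ : ∃ s : Fin n → LocalizedModule p₁.primeCompl M₁,
      Submodule.span (Localization.AtPrime p₁) (Set.range s) = ⊤ := by
    obtain ⟨σ, hσ⟩ := hgen
    have hnum : ∀ i, ∃ (y : M) (t : p.primeCompl), σ i = LocalizedModule.mk y t := fun i => by
      induction σ i using LocalizedModule.induction_on with
      | _ y t => exact ⟨y, t, rfl⟩
    choose y t hyt using hnum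
    refine ⟨fun i => LocalizedModule.mkLinearMap p₁.primeCompl M₁ (Φ (y i)), eq_top_iff.2 fun z _ => ?_⟩
    induction z using LocalizedModule.induction_on with
    | _ m u =>
      obtain ⟨x, rfl⟩ := hsurj m
      have hx : ∃ c : p.primeCompl, (c : A) • x ∈ Submodule.span A (Set.range y) := by
        have h1 : LocalizedModule.mkLinearMap p.primeCompl M x ∈
            Submodule.span (Localization.AtPrime p) (Set.range fun i => LocalizedModule.mkLinearMap p.primeCompl M (y i)) := by
          have h2 : LocalizedModule.mkLinearMap p.primeCompl M x ∈ Submodule.span (Localization.AtPrime p) (Set.range σ) := by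
            rw [hσ]; trivial
          refine Submodule.span_le.2 ?_ h2
          rintro _ ⟨i, rfl⟩
          have e : σ i = Localization.mk 1 (t i) • LocalizedModule.mkLinearMap p.primeCompl M (y i) := by
            rw [hyt, LocalizedModule.mkLinearMap_apply, LocalizedModule.mk_smul_mk, one_smul, mul_one]
          rw [e]
          exact Submodule.smul_mem _ _ (Submodule.subset_span ⟨i, rfl⟩)
        rw [show (fun i => LocalizedModule.mkLinearMap p.primeCompl M (y i)) = LocalizedModule.mkLinearMap p.primeCompl M ∘ y from rfl,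
          Set.range_comp, ← Submodule.localized'_span (Localization.AtPrime p) p.primeCompl, Submodule.mem_localized'] at h1
        obtain ⟨m, hm, c, hc⟩ := h1
        rw [IsLocalizedModule.mk'_eq_iff, Submonoid.smul_def, ← map_smul,
          IsLocalizedModule.eq_iff_exists p.primeCompl] at hc
        obtain ⟨d, hd⟩ := hc
        refine ⟨d * c, ?_⟩
        rw [Submonoid.coe_mul, mul_smul, ← Submonoid.smul_def d, ← hd, Submonoid.smul_def]
        exact Submodule.smul_mem _ _ hm
      obtain ⟨c, hc⟩ := hx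
      have hcp : π (c : A) ∉ p₁ := fun h => c.2 (hp₁.le h)
      have h3 : Φ ((c : A) • x) ∈ Submodule.span A (Set.range fun i => Φ (y i)) := by
        have := Submodule.mem_map_of_mem (f := Φ) hc
        rwa [Submodule.map_span, ← Set.range_comp] at this
      have h4 : LocalizedModule.mkLinearMap p₁.primeCompl M₁ (π (c : A) • Φ x) ∈ Submodule.span (Localization.AtPrime p₁)
          (Set.range fun i => LocalizedModule.mkLinearMap p₁.primeCompl M₁ (Φ (y i))) := by
        rw [show π (c : A) • Φ x = Φ ((c : A) • x) from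
          (algebraMap_smul (A ⧸ J) (c : A) (Φ x)).trans (Φ.map_smul _ _).symm]
        have h5 := Submodule.span_le_restrictScalars A (A ⧸ J) (Set.range fun i => Φ (y i)) h3
        have h6 := Submodule.mem_map_of_mem (f := LocalizedModule.mkLinearMap p₁.primeCompl M₁) h5
        rw [Submodule.map_span, ← Set.range_comp] at h6
        exact Submodule.span_subset_span (A ⧸ J) (Localization.AtPrime p₁) _ h6
      have e : LocalizedModule.mk (Φ x) u = Localization.mk 1 (u * ⟨π (c : A), hcp⟩) •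
          LocalizedModule.mkLinearMap p₁.primeCompl M₁ (π (c : A) • Φ x) := by
        rw [LocalizedModule.mkLinearMap_apply, LocalizedModule.mk_smul_mk, one_smul, mul_one, LocalizedModule.mk_eq]
        exact ⟨1, by simp only [one_smul, Submonoid.smul_def, mul_smul]⟩
      rw [e]
      exact Submodule.smul_mem _ _ h4
  obtain ⟨hfree, hgeo⟩ := S5055.result k (A ⧸ J) n hdimA p₁ hp₁m ⟨q₁, hq₁, Ideal.map_mono hqp, hdim₁⟩ hgen₁
  obtain ⟨a1, a2, hlh, hfin, het⟩ :=
    (S3850.result k (A ⧸ J) n hdimA p₁ hp₁m ⟨q₁, hq₁, Ideal.map_mono hqp, hdim₁⟩).1 hfree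
  letI := a1; haveI := a2; haveI := hfin; haveI := het
  haveI : Algebra.FinitePresentation (MvPowerSeries (Fin n) k) (A ⧸ J) :=
    Algebra.FinitePresentation.of_finiteType.1 inferInstance
  obtain ⟨g, hg, hE⟩ := Algebra.exists_etale_of_isEtaleAt (R := MvPowerSeries (Fin n) k) p₁
  obtain ⟨g, rfl⟩ := Ideal.Quotient.mk_surjective g
  refine ⟨J, hloc, a1, a2, hlh, hfin, hJle, ⟨s, hs, hsJ⟩, ⟨g, fun h => hg (Ideal.mem_map_of_mem π h), hE⟩, ?_⟩
  intro k' _ _ hk'
  haveI := hgeo k' hk'
  exact IsRegularRing.of_ringEquiv (Algebra.TensorProduct.congr (AlgEquiv.refl : k' ≃ₐ[k] k')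
    ((IsLocalization.algEquiv p.primeCompl (Localization.AtPrime p₁) (Localization.AtPrime p)).restrictScalars k)).toRingEquiv

attribute [local instance] Algebra.TensorProduct.rightAlgebra

variable (k' : Type u) [Field k'] [Algebra k k']

/-- The chart makes the completed base change regular over `p`. -/
theorem isRegularLocalRing_of_chart (p : Ideal A) [p.IsPrime] (n : ℕ) (J : Ideal A) [IsLocalRing (A ⧸ J)]
    [Algebra (MvPowerSeries (Fin n) k) (A ⧸ J)] [IsScalarTower k (MvPowerSeries (Fin n) k) (A ⧸ J)]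
    [IsLocalHom (algebraMap (MvPowerSeries (Fin n) k) (A ⧸ J))] [Module.Finite (MvPowerSeries (Fin n) k) (A ⧸ J)]
    (s : A) (hs : s ∉ p) (hsJ : ∀ x ∈ J, s * x = 0) (g : A) (hg : g ∉ p)
    (hE : Algebra.Etale (MvPowerSeries (Fin n) k) (Localization.Away (Ideal.Quotient.mk J g)))
    (P' : Ideal (CT k A k')) [P'.IsPrime] (hP' : P'.comap (algebraMap A (CT k A k')) = p) :
    IsRegularLocalRing (Localization.AtPrime P') := by
  haveI := isAdicComplete_quot A J
  haveI := finite_residueField_quot k A J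
  obtain ⟨d, _, _, _, _⟩ := exists_chart k A
  obtain ⟨e₀, he₀⟩ := exists_equiv k A k' d
  let Rd := MvPowerSeries (Fin d) k
  let Sd := MvPowerSeries (Fin d) k'
  haveI : IsLocalHom (algebraMap Rd (A ⧸ J)) := by
    rw [IsScalarTower.algebraMap_eq Rd A (A ⧸ J)]
    haveI : IsLocalHom (algebraMap A (A ⧸ J)) := Function.Surjective.isLocalHom _ Ideal.Quotient.mk_surjective
    infer_instance
  haveI : Module.Finite Rd (A ⧸ J) := Module.Finite.trans A _
  haveI : IsScalarTower k Rd (A ⧸ J) := IsScalarTower.of_algebraMap_eq fun a => by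
    rw [IsScalarTower.algebraMap_apply Rd A (A ⧸ J), ← IsScalarTower.algebraMap_apply k Rd A,
      ← IsScalarTower.algebraMap_apply k A (A ⧸ J)]
  obtain ⟨e₁, he₁⟩ := exists_equiv k (A ⧸ J) k' d
  obtain ⟨e₂, he₂⟩ := exists_equiv k (A ⧸ J) k' n
  let mJ : A →ₐ[Rd] A ⧸ J := IsScalarTower.toAlgHom Rd A (A ⧸ J)
  let gd : BT k A k' d →ₐ[Rd] BT k (A ⧸ J) k' d := Algebra.TensorProduct.map (AlgHom.id Rd Sd) mJ
  have hmJ : Function.Surjective mJ := Ideal.Quotient.mk_surjective
  let π : CT k A k' →+* BT k (A ⧸ J) k' n :=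
    ((e₁.symm.trans e₂).toRingHom.comp gd.toRingHom).comp e₀.toRingHom
  have hπ : Function.Surjective π := by
    refine ((e₁.symm.trans e₂).surjective.comp ?_).comp e₀.surjective
    exact LinearMap.lTensor_surjective (R := Rd) Sd (g := mJ.toLinearMap) hmJ
  have hπA : ∀ a, π (algebraMap A (CT k A k') a) = incA k (A ⧸ J) k' n (Ideal.Quotient.mk J a) := fun a => by
    change e₂ (e₁.symm (gd (e₀ (algebraMap A (CT k A k') a)))) = _
    rw [equiv_algebraMap k A k' d he₀]
    change e₂ (e₁.symm (gd ((1 : Sd) ⊗ₜ a))) = _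
    rw [Algebra.TensorProduct.map_tmul, map_one]
    change e₂ (e₁.symm (incA k (A ⧸ J) k' d (Ideal.Quotient.mk J a))) = _
    rw [← equiv_algebraMap k (A ⧸ J) k' d he₁, e₁.symm_apply_apply, equiv_algebraMap k (A ⧸ J) k' n he₂]
  have hker : ∀ x, π x = 0 → algebraMap A (CT k A k') s * x = 0 := fun x hx => by
    have h1 : gd (e₀ x) = 0 := (map_eq_zero_iff (e₁.symm.trans e₂) (e₁.symm.trans e₂).injective).1 hx
    have h2 : e₀ x ∈ (RingHom.ker mJ).map (Algebra.TensorProduct.includeRight : A →ₐ[Rd] Sd ⊗[Rd] A) := by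
      rw [← Algebra.TensorProduct.lTensor_ker _ hmJ]
      exact h1
    have h3 : ∀ w ∈ (RingHom.ker mJ).map (Algebra.TensorProduct.includeRight : A →ₐ[Rd] Sd ⊗[Rd] A),
        incA k A k' d s * w = 0 := fun w hw => by
      induction hw using Submodule.span_induction with
      | mem y hy =>
        obtain ⟨a, ha, rfl⟩ := hy
        change (Algebra.TensorProduct.includeRight s : Sd ⊗[Rd] A) * Algebra.TensorProduct.includeRight a = 0
        rw [← map_mul, hsJ a (Ideal.Quotient.eq_zero_iff_mem.1 ha), map_zero]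
      | zero => rw [mul_zero]
      | add a b _ _ ha hb => rw [mul_add, ha, hb, add_zero]
      | smul a b _ hb => rw [smul_eq_mul, mul_left_comm, hb, mul_zero]
    apply e₀.injective
    rw [map_mul, equiv_algebraMap k A k' d he₀, h3 _ h2, map_zero]
  have hsP : algebraMap A (CT k A k') s ∉ P' := fun h => hs (hP' ▸ h)
  letI : Algebra (CT k A k') (BT k (A ⧸ J) k' n) := π.toAlgebra
  let P₁ : Ideal (BT k (A ⧸ J) k' n) := P'.map π
  have hkP : RingHom.ker π ≤ P' := fun x hx =>
    ((inferInstance : P'.IsPrime).mem_or_mem (hker x hx ▸ P'.zero_mem)).resolve_left hsP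
  haveI : P₁.IsPrime := Ideal.map_isPrime_of_surjective hπ hkP
  have hP₁ : P₁.comap π = P' := by
    rw [Ideal.comap_map_of_surjective' _ hπ, sup_eq_left.2 hkP]
  haveI : IsLocalization.AtPrime (Localization.AtPrime P₁) P' :=
    isLocalization_of_surjective (S := BT k (A ⧸ J) k' n) (L := Localization.AtPrime P₁) hπ P' P₁ hP₁ fun x hx =>
      ⟨_, hsP, hker x hx⟩
  suffices hreg : IsRegularLocalRing (Localization.AtPrime P₁) from
    haveI := hreg
    IsRegularLocalRing.of_ringEquiv (R := Localization.AtPrime P₁)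
      (IsLocalization.algEquiv P'.primeCompl (Localization.AtPrime P₁) (Localization.AtPrime P')).toRingEquiv
  -- the étale chart
  let Rn := MvPowerSeries (Fin n) k
  let Sn := MvPowerSeries (Fin n) k'
  let g₁ : A ⧸ J := Ideal.Quotient.mk J g
  haveI := hE
  haveI : IsRegularRing Sn := RegCpl3.isRegularRing_mvPowerSeries k' n
  let E := Localization.Away ((1 : Sn) ⊗ₜ[Rn] g₁)
  have hgP : ((1 : Sn) ⊗ₜ[Rn] g₁) ∉ P₁ := fun h => hg (by
    rw [← hP', ← hP₁, Ideal.mem_comap, Ideal.mem_comap, hπA]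
    exact h)
  haveI : Algebra.Etale Sn E :=
    Algebra.Etale.of_equiv (IsLocalization.Away.tensorProductEquivTMulRight Rn Sn g₁ (Localization.Away g₁))
  have hdis : Disjoint (Submonoid.powers ((1 : Sn) ⊗ₜ[Rn] g₁) : Set (BT k (A ⧸ J) k' n)) (P₁ : Set _) :=
    (Ideal.disjoint_powers_iff_notMem_of_isPrime _).mpr hgP
  let Q : Ideal E := P₁.map (algebraMap (BT k (A ⧸ J) k' n) E)
  haveI : Q.IsPrime := IsLocalization.isPrime_of_isPrime_disjoint (.powers ((1 : Sn) ⊗ₜ[Rn] g₁)) _ _ ‹_› hdis
  have hQc : Q.comap (algebraMap (BT k (A ⧸ J) k' n) E) = P₁ :=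
    IsLocalization.comap_map_of_isPrime_disjoint (.powers ((1 : Sn) ⊗ₜ[Rn] g₁)) E ‹_› hdis
  haveI : IsLocalization.AtPrime (Localization.AtPrime Q) P₁ := by
    have h1 := IsLocalization.isLocalization_isLocalization_atPrime_isLocalization (Submonoid.powers ((1 : Sn) ⊗ₜ[Rn] g₁))
      (Localization.AtPrime Q) Q
    have hsub : (Q.comap (algebraMap (BT k (A ⧸ J) k' n) E)).primeCompl = P₁.primeCompl := by
      ext x; change x ∉ Q.comap _ ↔ x ∉ P₁; rw [hQc]
    change IsLocalization _ _
    rw [← hsub]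
    exact h1
  haveI : IsRegularLocalRing (Localization.AtPrime Q) := SmoothReg17.isRegularLocalRing_of_etale (A := Sn) Q
  exact IsRegularLocalRing.of_ringEquiv
    (IsLocalization.algEquiv P₁.primeCompl (Localization.AtPrime Q) (Localization.AtPrime P₁)).toRingEquiv

end Groth.Agent.CKaehlerFree3
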