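import Groth.Agent.Lib.CKaehlerFree3.CTProps
import Groth.Agent.Lib.CKaehlerFree3.Units
import Groth.Agent.Lib.CIUnmixed6.Basic
import Groth.Agent.Lib.CAlgLow.GeomReg
import Groth.Agent.Lib.FlatDepth.GeomTensor
import Groth.Agent.S5074

/-!
The rank of the completed differentials is bounded by a regular point of the completed base change to a perfect field.
-/

set_option autoImplicit false
set_option linter.style.haveILetI false

universe u

open IsLocalRing TensorProduct KaehlerDifferential

namespace Groth.Agent.CKaehlerFree3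

/-- Over a perfect field regular means geometrically regular. -/
theorem geomRegular_of_perfect (k S : Type u) [Field k] [PerfectField k] [CommRing S] [Algebra k S] [IsRegularRing S] :
    CAlg.IsGeometricallyRegular k S := by
  intro K _ _ hK
  haveI := hK
  haveI : IsNoetherianRing (S ⊗[k] K) := Algebra.FiniteType.isNoetherianRing S (S ⊗[k] K)
  have hgeom : CAlg.IsGeometricallyRegular k K := CAlgLow.geomRegular_of_isSeparable K
  haveI : IsRegularRing (S ⊗[k] K) := FlatDepth.regular_tensor fun p _ => by
    haveI : IsNoetherianRing (p.ResidueField ⊗[k] K) :=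
      Algebra.FiniteType.isNoetherianRing p.ResidueField (p.ResidueField ⊗[k] K)
    exact FlatDepth.regular_baseChange K p.ResidueField hgeom
  exact IsRegularRing.of_ringEquiv (Algebra.TensorProduct.comm k S K).toRingEquiv

theorem finite_frobenius_of_perfect (k : Type u) [Field k] [PerfectField k] (p : ℕ) [ExpChar k p] :
    (frobenius k p).Finite := by
  haveI : PerfectRing k p := PerfectField.toPerfectRing p
  exact RingHom.Finite.of_surjective _ (PerfectRing.bijective_frobenius (R := k) (p := p)).surjective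

/-- `dim C/q' ≤ dim A/q` for a local map with Artinian closed fibre. -/
theorem ringKrullDim_quotient_le {A C : Type u} [CommRing A] [IsLocalRing A] [IsNoetherianRing A] [CommRing C]
    [IsLocalRing C] [IsNoetherianRing C] [Algebra A C] [IsLocalHom (algebraMap A C)]
    [IsArtinianRing (C ⧸ (maximalIdeal A).map (algebraMap A C))] (q' : Ideal C) [q'.IsPrime] :
    ringKrullDim (C ⧸ q') ≤ ringKrullDim (A ⧸ q'.comap (algebraMap A C)) := by
  let q := q'.comap (algebraMap A C)
  haveI : q.IsPrime := inferInstanceAs (q'.comap _).IsPrime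
  haveI : Nontrivial (A ⧸ q) := Ideal.Quotient.nontrivial_iff.2 Ideal.IsPrime.ne_top'
  haveI : IsLocalRing (A ⧸ q) := IsLocalRing.of_surjective' _ Ideal.Quotient.mk_surjective
  haveI : IsLocalRing (C ⧸ q') :=
    haveI : Nontrivial (C ⧸ q') := Ideal.Quotient.nontrivial_iff.2 Ideal.IsPrime.ne_top'
    IsLocalRing.of_surjective' _ Ideal.Quotient.mk_surjective
  letI : Algebra (A ⧸ q) (C ⧸ q') := (Ideal.quotientMap q' (algebraMap A C) le_rfl).toAlgebra
  have hmA : (maximalIdeal A).map (Ideal.Quotient.mk q) = maximalIdeal (A ⧸ q) :=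
    IsLocalRing.map_maximalIdeal_of_surjective _ Ideal.Quotient.mk_surjective
  have hmC : (maximalIdeal C).map (Ideal.Quotient.mk q') = maximalIdeal (C ⧸ q') :=
    IsLocalRing.map_maximalIdeal_of_surjective _ Ideal.Quotient.mk_surjective
  let J := (maximalIdeal (A ⧸ q)).map (algebraMap (A ⧸ q) (C ⧸ q'))
  have hJ : J = ((maximalIdeal A).map (algebraMap A C)).map (Ideal.Quotient.mk q') := by
    simp only [J, ← hmA, Ideal.map_map]
    congr 1
  have hJle : J ≤ maximalIdeal (C ⧸ q') := by
    rw [hJ, ← hmC]
    exact Ideal.map_mono (((local_hom_TFAE (algebraMap A C)).out 0 2 :).1 ‹_›)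
  haveI : (maximalIdeal (C ⧸ q')).LiesOver (maximalIdeal (A ⧸ q)) :=
    ⟨((maximalIdeal.isMaximal (A ⧸ q)).eq_of_le (Ideal.IsPrime.ne_top inferInstance)
      (Ideal.map_le_iff_le_comap.1 hJle))⟩
  haveI : IsArtinianRing ((C ⧸ q') ⧸ J) := by
    let f : C ⧸ (maximalIdeal A).map (algebraMap A C) →+* (C ⧸ q') ⧸ J :=
      Ideal.quotientMap J (Ideal.Quotient.mk q') (by rw [hJ]; exact Ideal.le_comap_map)
    exact Function.Surjective.isArtinianRing (f := f) (Ideal.quotientMap_surjective Ideal.Quotient.mk_surjective)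
  haveI : ((maximalIdeal (C ⧸ q')).map (Ideal.Quotient.mk J)).IsPrime :=
    Ideal.map_isPrime_of_surjective Ideal.Quotient.mk_surjective (Ideal.mk_ker.le.trans hJle)
  have h0 : ((maximalIdeal (C ⧸ q')).map (Ideal.Quotient.mk J)).height = 0 := by
    rw [Ideal.height_eq_zero_iff]
    exact ⟨⟨inferInstance, bot_le⟩, fun P hP hle =>
      (haveI := hP.1; Ideal.isMaximal_of_isPrime P).eq_of_le (Ideal.IsPrime.ne_top inferInstance) hle |>.ge⟩
  have h := Ideal.height_le_height_add_of_liesOver (maximalIdeal (A ⧸ q)) (maximalIdeal (C ⧸ q'))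
  rw [h0, add_zero] at h
  rw [← IsLocalRing.maximalIdeal_height_eq_ringKrullDim, ← IsLocalRing.maximalIdeal_height_eq_ringKrullDim]
  exact_mod_cast h

variable (k A k' : Type u) [Field k] [Field k'] [Algebra k k'] [CommRing A] [IsLocalRing A] [Algebra k A]
  [IsNoetherianRing A] [IsAdicComplete (maximalIdeal A) A] [Module.Finite k (ResidueField A)]

set_option synthInstance.maxHeartbeats 200000 in
/-- The fibre rank of `Ω̂` at `p` is at most `n`. -/
theorem finrank_le_of_regular [PerfectField k'] (p : Ideal A) [p.IsPrime] (n : ℕ)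
    (hn : ∀ q ∈ minimalPrimes A, q ≤ p → ringKrullDim (A ⧸ q) ≤ n)
    (P' : Ideal (CT k A k')) [P'.IsPrime] (hP' : P'.comap (algebraMap A (CT k A k')) = p)
    [IsRegularLocalRing (Localization.AtPrime P')] :
    Module.finrank p.ResidueField (p.ResidueField ⊗[A] AdicCompletion (maximalIdeal A) Ω[A⁄k]) ≤ n := by
  classical
  obtain ⟨M, hM, hPM⟩ := Ideal.exists_le_maximal P' Ideal.IsPrime.ne_top'
  obtain ⟨hN, hc, hflat, hfinK⟩ := basic_props k A k'
  haveI := hN; haveI := hc; haveI := hflat
  obtain ⟨hCc, hff, -, hres⟩ := local_props k A k' M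
  haveI := hff
  let C := Localization.AtPrime M
  haveI : IsAdicComplete (maximalIdeal C) C := hCc
  let ι : CT k A k' →+* C := algebraMap (CT k A k') C
  letI : Algebra k' C := (ι.comp (kCT k A k')).toAlgebra
  have hιM : ∀ x, x ∈ M → ι x ∈ maximalIdeal C := fun x hx =>
    (IsLocalization.AtPrime.to_map_mem_maximal_iff C M x).2 hx
  have hCK : ∀ a ∈ maximalIdeal A, algebraMap A C a ∈ maximalIdeal C := fun a ha => by
    rw [IsScalarTower.algebraMap_apply A (CT k A k') C]
    exact hιM _ (cK_le k A k' M (Ideal.mem_map_of_mem _ ha))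
  haveI : IsLocalHom (algebraMap A C) :=
    ((local_hom_TFAE (algebraMap A C)).out 2 0 :).1 (Ideal.map_le_iff_le_comap.2 hCK)
  haveI : Module.Finite k' (ResidueField C) := by
    letI : Algebra k' (CT k A k' ⧸ M) := ((Ideal.Quotient.mk M).comp (kCT k A k')).toAlgebra
    haveI : Module.Finite k' (CT k A k' ⧸ M) := hres
    let g : CT k A k' ⧸ M →+* ResidueField C :=
      Ideal.Quotient.lift M ((residue C).comp ι) fun x hx => (residue_eq_zero_iff _).2 (hιM x hx)
    have hg : Function.Surjective g := fun y => by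
      obtain ⟨z, hz⟩ := (IsLocalization.AtPrime.equivQuotMaximalIdeal M C).surjective y
      obtain ⟨z, rfl⟩ := Ideal.Quotient.mk_surjective z
      exact ⟨Ideal.Quotient.mk M z, by rw [← hz]; rfl⟩
    exact Module.Finite.of_surjective
      ({ toFun := g
         map_add' := map_add g
         map_smul' := fun c x => by
           rw [RingHom.id_apply, Algebra.smul_def, Algebra.smul_def, map_mul]
           rfl } : CT k A k' ⧸ M →ₗ[k'] ResidueField C) hg
  -- the prime of `C`
  let P : Ideal C := P'.map ι
  have hdis : Disjoint (M.primeCompl : Set (CT k A k')) P' := Set.disjoint_left.2 fun x hx hx' => hx (hPM hx')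
  haveI : P.IsPrime := IsLocalization.isPrime_of_isPrime_disjoint M.primeCompl C P' ‹_› hdis
  have hPc : P.comap ι = P' := IsLocalization.comap_map_of_isPrime_disjoint M.primeCompl C ‹_› hdis
  haveI : IsRegularLocalRing (Localization.AtPrime P) := by
    haveI : IsLocalization.AtPrime (Localization.AtPrime P) P' := by
      have h1 := IsLocalization.isLocalization_isLocalization_atPrime_isLocalization M.primeCompl
        (Localization.AtPrime P) P
      have hsub : (P.comap ι).primeCompl = P'.primeCompl := by
        ext x; change x ∉ P.comap ι ↔ x ∉ P'; rw [hPc]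
      change IsLocalization _ _
      rw [← hsub]
      exact h1
    exact IsRegularLocalRing.of_ringEquiv
      (IsLocalization.algEquiv P'.primeCompl (Localization.AtPrime P') (Localization.AtPrime P)).toRingEquiv
  haveI : IsRegularRing (Localization.AtPrime P) := CIUnmixed6.isRegularRing_of_local _
  have hPp : P.comap (algebraMap A C) = p := by
    rw [IsScalarTower.algebraMap_eq A (CT k A k') C, ← Ideal.comap_comap, hPc, hP']
  obtain ⟨q', hq', hq'P⟩ := Ideal.exists_minimalPrimes_le (bot_le : (⊥ : Ideal C) ≤ P)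
  haveI := hq'.1.1
  haveI : Module.Flat A C := inferInstance
  have hqmin : q'.comap (algebraMap A C) ∈ minimalPrimes A := by
    refine ⟨⟨inferInstance, bot_le⟩, fun r hr hle => ?_⟩
    haveI := hr.1
    haveI : q'.LiesOver (q'.comap (algebraMap A C)) := ⟨rfl⟩
    obtain ⟨Q, hQle, hQ, hQo⟩ := Ideal.exists_ideal_le_liesOver_of_le (p := r) (q := q'.comap (algebraMap A C)) q' hle
    have h := le_antisymm hQle (hq'.2 ⟨hQ, bot_le⟩ hQle)
    rw [hQo.over, h]
  haveI : IsArtinianRing (C ⧸ (maximalIdeal A).map (algebraMap A C)) := by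
    haveI := isArtinianRing_quot k A k'
    obtain ⟨J, -, -, hJ, -, -⟩ := CT6.exists_complete_localization (CT k A k') (cK k A k') M
    haveI := hJ
    let g : CT k A k' →+* C ⧸ (maximalIdeal A).map (algebraMap A C) := (Ideal.Quotient.mk _).comp ι
    have hg : Function.Surjective g := by
      refine Ideal.Quotient.mk_surjective.comp ?_
      have hsur : Function.Surjective (IsLocalization.algEquiv M.primeCompl (CT k A k' ⧸ J) C) := AlgEquiv.surjective _
      intro y
      obtain ⟨z, rfl⟩ := hsur y
      obtain ⟨z, rfl⟩ := Ideal.Quotient.mk_surjective z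
      exact ⟨z, ((IsLocalization.algEquiv M.primeCompl (CT k A k' ⧸ J) C).commutes z).symm⟩
    refine Function.Surjective.isArtinianRing (f := Ideal.Quotient.lift (cK k A k') g ?_) fun y => ?_
    · intro x hx
      refine RingHom.mem_ker.1 ((Ideal.map_le_iff_le_comap.2 fun a ha => ?_) hx)
      change Ideal.Quotient.mk _ (ι (algebraMap A (CT k A k') a)) = 0
      rw [Ideal.Quotient.eq_zero_iff_mem, ← IsScalarTower.algebraMap_apply]
      exact Ideal.mem_map_of_mem _ ha
    · obtain ⟨x, rfl⟩ := hg y
      exact ⟨Ideal.Quotient.mk _ x, rfl⟩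
  have hdim : ringKrullDim (C ⧸ q') ≤ n :=
    (ringKrullDim_quotient_le q').trans (hn _ hqmin (hPp ▸ Ideal.comap_mono hq'P))
  obtain ⟨m, hm⟩ := DepthLib.exists_supportDim_eq_natCast (R := C ⧸ q') (M := C ⧸ q')
  rw [Module.supportDim_self_eq_ringKrullDim] at hm
  obtain ⟨e, he⟩ := ExpChar.exists k'
  haveI := he
  obtain ⟨hfree, hrank⟩ := S5074.result e k' C (finite_frobenius_of_perfect k' e) P
    (geomRegular_of_perfect k' _) q' hq' hq'P m hm
  haveI hfinC : Module.Finite C (AdicCompletion (maximalIdeal C) Ω[C⁄k']) := S4528.result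
  haveI hfinA : Module.Finite A (AdicCompletion (maximalIdeal A) Ω[A⁄k]) := S4528.result
  have hC : Module.finrank P.ResidueField (P.ResidueField ⊗[C] AdicCompletion (maximalIdeal C) Ω[C⁄k']) = m := by
    haveI := hfree
    let L := Localization.AtPrime P
    let e1 : P.ResidueField ⊗[C] AdicCompletion (maximalIdeal C) Ω[C⁄k'] ≃ₗ[P.ResidueField]
        P.ResidueField ⊗[L] LocalizedModule P.primeCompl (AdicCompletion (maximalIdeal C) Ω[C⁄k']) :=
      (TensorProduct.AlgebraTensorModule.cancelBaseChange C L P.ResidueField P.ResidueField _).symm.trans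
        (TensorProduct.AlgebraTensorModule.congr (LinearEquiv.refl _ _) (LocalizedModule.equivTensorProduct P.primeCompl _).symm)
    rw [e1.finrank_eq, Module.finrank_baseChange, hrank]
  -- the derivation of `C`
  let N := C ⊗[A] AdicCompletion (maximalIdeal A) Ω[A⁄k]
  haveI : IsCentralScalar C N := ⟨fun c m => by
    induction m using TensorProduct.induction_on with
    | zero => rw [smul_zero, smul_zero]
    | add x y hx hy => rw [smul_add, smul_add, hx, hy]
    | tmul x y => rw [smul_tmul', smul_tmul', op_smul_eq_smul]⟩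
  let d₀ : A → N := fun a => (1 : C) ⊗ₜ AdicCompletion.of (maximalIdeal A) Ω[A⁄k] (D k A a)
  have hd₀ : ∀ a b, d₀ (a * b) = algebraMap A C a • d₀ b + algebraMap A C b • d₀ a := fun a b => by
    simp only [d₀, algebraMap_smul, Derivation.leibniz, map_add, map_smul, tmul_add, tmul_smul]
  let fA : A →+* (TrivSqZeroExt C N) :=
    { toFun := fun a => TrivSqZeroExt.inl (algebraMap A C a) + TrivSqZeroExt.inr (d₀ a)
      map_one' := by ext <;> simp [d₀]
      map_mul' := fun a b => by
        ext
        · simp
        · simp [hd₀]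
      map_zero' := by ext <;> simp [d₀]
      map_add' := fun a b => by
        change TrivSqZeroExt.inl _ + TrivSqZeroExt.inr _ = _
        rw [map_add, show d₀ (a + b) = d₀ a + d₀ b by simp only [d₀, map_add, tmul_add], TrivSqZeroExt.inl_add,
          TrivSqZeroExt.inr_add]
        abel }
  let fK : k' →+* (TrivSqZeroExt C N) := (TrivSqZeroExt.inlHom C N).comp (algebraMap k' C)
  let φ : A ⊗[k] k' →ₐ[k] (TrivSqZeroExt C N) := Algebra.TensorProduct.lift
    { toRingHom := fA
      commutes' := fun c => by
        change TrivSqZeroExt.inl (algebraMap A C (algebraMap k A c)) + TrivSqZeroExt.inr (d₀ (algebraMap k A c)) = _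
        simp only [d₀, Derivation.map_algebraMap, map_zero, tmul_zero, TrivSqZeroExt.inr_zero, add_zero]
        rfl }
    { toRingHom := fK
      commutes' := fun c => by
        change TrivSqZeroExt.inl (ι (algebraMap (A ⊗[k] k') (CT k A k') (1 ⊗ₜ algebraMap k k' c))) =
          TrivSqZeroExt.inl (algebraMap A C (algebraMap k A c))
        refine congrArg TrivSqZeroExt.inl ?_
        rw [IsScalarTower.algebraMap_apply A (CT k A k') C, IsScalarTower.algebraMap_apply A (A ⊗[k] k') (CT k A k')]
        refine congrArg (fun z => ι (algebraMap (A ⊗[k] k') (CT k A k') z)) ?_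
        change (1 : A) ⊗ₜ algebraMap k k' c = algebraMap k A c ⊗ₜ (1 : k')
        rw [Algebra.algebraMap_eq_smul_one, Algebra.algebraMap_eq_smul_one, smul_tmul] }
    fun _ _ => Commute.all _ _
  have hφfst : ∀ z, (φ z).fst = ι (algebraMap (A ⊗[k] k') (CT k A k') z) := fun z => by
    induction z using TensorProduct.induction_on with
    | zero => simp
    | add a b ha hb => simp only [map_add, TrivSqZeroExt.fst_add, ha, hb]
    | tmul a c =>
      rw [show a ⊗ₜ[k] c = (a ⊗ₜ[k] (1 : k')) * ((1 : A) ⊗ₜ[k] c) by
          rw [Algebra.TensorProduct.tmul_mul_tmul, mul_one, one_mul], map_mul, map_mul, map_mul,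
        TrivSqZeroExt.fst_mul, Algebra.TensorProduct.lift_tmul, Algebra.TensorProduct.lift_tmul, map_one, map_one,
        mul_one, one_mul]
      refine congrArg₂ (· * ·) ?_ ?_
      · change (TrivSqZeroExt.inl (algebraMap A C a) + TrivSqZeroExt.inr (d₀ a)).fst = _
        rw [TrivSqZeroExt.fst_add, TrivSqZeroExt.fst_inl, TrivSqZeroExt.fst_inr, add_zero]
        rfl
      · rfl
  let J' : Ideal (TrivSqZeroExt C N) := (maximalIdeal C).comap (TrivSqZeroExt.fstHom C C N).toRingHom
  haveI : Module.Finite C (TrivSqZeroExt C N) := Module.Finite.of_surjective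
    ((TrivSqZeroExt.inrHom C N).coprod (Algebra.linearMap C (TrivSqZeroExt C N))) fun t => ⟨(t.snd, t.fst), by rw [LinearMap.coprod_apply, TrivSqZeroExt.inrHom_apply, Algebra.linearMap_apply, TrivSqZeroExt.algebraMap_eq_inl, add_comm]; exact TrivSqZeroExt.inl_fst_add_inr_snd_eq t⟩
  haveI : IsAdicComplete J' (TrivSqZeroExt C N) := by
    haveI hT : IsAdicComplete (maximalIdeal C) (TrivSqZeroExt C N) := Compl.isAdicComplete_of_finite _ _
    haveI : IsAdicComplete ((maximalIdeal C).map (algebraMap C (TrivSqZeroExt C N))) (TrivSqZeroExt C N) := (IsAdicComplete.map_algebraMap_iff _ _).2 hT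
    have hle : (maximalIdeal C).map (algebraMap C (TrivSqZeroExt C N)) ≤ J' :=
      Ideal.map_le_iff_le_comap.2 fun c hc => by
        change (algebraMap C (TrivSqZeroExt C N) c).fst ∈ maximalIdeal C
        rw [TrivSqZeroExt.algebraMap_eq_inl, TrivSqZeroExt.fst_inl]
        exact hc
    refine Compl.isAdicComplete_of_le_of_pow_le _ hle (k := 2) ?_
    · rw [pow_two, Ideal.mul_le]
      intro x hx y hy
      have e1 : x * y = algebraMap C (TrivSqZeroExt C N) x.fst * y + algebraMap C (TrivSqZeroExt C N) y.fst * TrivSqZeroExt.inr x.snd := by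
        simp only [TrivSqZeroExt.algebraMap_eq_inl]
        ext <;> simp
      rw [e1]
      exact add_mem (Ideal.mul_mem_right _ _ (Ideal.mem_map_of_mem _ hx))
        (Ideal.mul_mem_right _ _ (Ideal.mem_map_of_mem _ hy))
  have hI : ∀ j, cI k A k' ^ j ≤ (J' ^ j).comap φ.toRingHom := fun j => by
    rw [← Ideal.map_le_iff_le_comap, Ideal.map_pow]
    refine Ideal.pow_right_mono ?_ j
    refine (Ideal.map_map (Algebra.TensorProduct.includeLeft : A →ₐ[k] A ⊗[k] k').toRingHom φ.toRingHom).le.trans
      (Ideal.map_le_iff_le_comap.2 fun a ha => ?_)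
    change (φ (a ⊗ₜ 1)).fst ∈ maximalIdeal C
    rw [hφfst]
    exact hCK a ha
  let f : ∀ j, CT k A k' →+* (TrivSqZeroExt C N) ⧸ J' ^ j := fun j =>
    (Ideal.quotientMap (J' ^ j) φ.toRingHom (hI j)).comp (AdicCompletion.evalₐ (cI k A k') j).toRingHom
  have hf : ∀ {i j : ℕ} (h : i ≤ j), (Ideal.Quotient.factorPow J' h).comp (f j) = f i := by
    intro i j h
    refine RingHom.ext fun x => ?_
    obtain ⟨z, rfl⟩ := AdicCompletion.mk_surjective (cI k A k') (A ⊗[k] k') x
    simp only [f, RingHom.comp_apply, AlgHom.toRingHom_eq_coe, RingHom.coe_coe, AdicCompletion.evalₐ_mk,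
      Ideal.quotientMap_mk, Ideal.Quotient.factor_mk]
    refine (Ideal.Quotient.eq).2 ?_
    rw [← map_sub]
    refine hI i ?_
    have h1 := z.property h
    rw [SModEq.sub_mem, smul_eq_mul, Ideal.mul_top] at h1
    simpa using neg_mem h1
  let L := IsAdicComplete.liftRingHom J' f hf
  have hL : ∀ j (z : AdicCompletion.AdicCauchySequence (cI k A k') (A ⊗[k] k')),
      L (AdicCompletion.mk _ _ z) - φ (z j) ∈ J' ^ j := fun j z => by
    rw [← Ideal.Quotient.eq, IsAdicComplete.mk_liftRingHom J' f hf]
    simp only [f, RingHom.comp_apply, AlgHom.toRingHom_eq_coe, RingHom.coe_coe, AdicCompletion.evalₐ_mk,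
      Ideal.quotientMap_mk]
  have hLof : ∀ z, L (algebraMap (A ⊗[k] k') (CT k A k') z) = φ z := fun z => by
    rw [← sub_eq_zero]
    refine IsHausdorff.haus (inferInstance : IsHausdorff J' (TrivSqZeroExt C N)) _ fun j => ?_
    rw [SModEq.zero, smul_eq_mul, Ideal.mul_top, ← Ideal.Quotient.eq, IsAdicComplete.mk_liftRingHom J' f hf]
    change Ideal.quotientMap _ _ (hI j) (AdicCompletion.evalₐ (cI k A k') j (AdicCompletion.of _ _ z)) = _
    rw [AdicCompletion.evalₐ_of, Ideal.quotientMap_mk]
    rfl
  have hLfst : ∀ x, (L x).fst = ι x := fun x => by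
    obtain ⟨z, rfl⟩ := AdicCompletion.mk_surjective (cI k A k') (A ⊗[k] k') x
    rw [← sub_eq_zero]
    refine IsHausdorff.haus (inferInstance : IsHausdorff (maximalIdeal C) C) _ fun j => ?_
    rw [SModEq.zero, smul_eq_mul, Ideal.mul_top]
    have h1 := Ideal.mem_map_of_mem (TrivSqZeroExt.fstHom C C N).toRingHom (hL j z)
    rw [Ideal.map_pow] at h1
    have h2 : (L (AdicCompletion.mk _ _ z)).fst - ι (algebraMap (A ⊗[k] k') (CT k A k') (z j)) ∈ maximalIdeal C ^ j := by
      rw [← hφfst]
      exact Ideal.pow_right_mono Ideal.map_comap_le j h1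
    have h3 : ι (AdicCompletion.mk _ _ z) - ι (algebraMap (A ⊗[k] k') (CT k A k') (z j)) ∈ maximalIdeal C ^ j := by
      rw [← map_sub]
      have h4 : AdicCompletion.mk (cI k A k') _ z - algebraMap (A ⊗[k] k') (CT k A k') (z j) ∈ cK k A k' ^ j := by
        have h5 : AdicCompletion.mk (cI k A k') _ z - AdicCompletion.of (cI k A k') (A ⊗[k] k') (z j) ∈
            (cI k A k' ^ j • ⊤ : Submodule (A ⊗[k] k') (CT k A k')) := by
          rw [AdicCompletion.pow_smul_top_eq_ker_eval (I := cI k A k') (Ideal.FG.map (IsNoetherian.noetherian _) _), LinearMap.mem_ker,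
            map_sub, sub_eq_zero]
          rfl
        have e5 : (cI k A k').map (algebraMap (A ⊗[k] k') (CT k A k')) = cK k A k' :=
          (Ideal.map_map _ _).trans (congrArg (fun g => (maximalIdeal A).map g)
            (IsScalarTower.algebraMap_eq A (A ⊗[k] k') (CT k A k')).symm)
        rw [Ideal.smul_top_eq_map, Submodule.restrictScalars_mem, Ideal.map_pow, e5] at h5
        exact h5
      have hle2 : (cK k A k').map ι ≤ maximalIdeal C :=
        Ideal.map_le_iff_le_comap.2 fun x hx => hιM x (cK_le k A k' M hx)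
      refine Ideal.pow_right_mono hle2 j ?_
      rw [← Ideal.map_pow]
      exact Ideal.mem_map_of_mem _ h4
    simpa using sub_mem h2 h3
  let G : C →+* (TrivSqZeroExt C N) := IsLocalization.lift (M := M.primeCompl) (g := L) fun s => by
    rw [TrivSqZeroExt.isUnit_iff_isUnit_fst, hLfst]
    exact IsLocalization.map_units C s
  have hGι : ∀ x, G (ι x) = L x := fun x => IsLocalization.lift_eq _ x
  have hGfst : ∀ c, (G c).fst = c := fun c => by
    have h : ((TrivSqZeroExt.fstHom C C N).toRingHom.comp G) = RingHom.id C :=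
      IsLocalization.ringHom_ext M.primeCompl (RingHom.ext fun x => by
        change (G (ι x)).fst = ι x
        rw [hGι, hLfst])
    exact RingHom.congr_fun h c
  haveI : SMulCommClass A k' C := ⟨fun a c x => by simp only [Algebra.smul_def]; ring⟩
  haveI : IsScalarTower k' C N := TensorProduct.isScalarTower_left
  let δ : Derivation k' C N := Derivation.mk'
    { toFun := fun c => (G c).snd
      map_add' := fun a b => by simp
      map_smul' := fun r c => by
        have hr : G (algebraMap k' C r) = TrivSqZeroExt.inl (algebraMap k' C r) := by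
          change G (ι (kCT k A k' r)) = _
          rw [hGι]
          change L (algebraMap (A ⊗[k] k') (CT k A k') (1 ⊗ₜ r)) = _
          rw [hLof, Algebra.TensorProduct.lift_tmul, map_one, one_mul]
          rfl
        rw [RingHom.id_apply, Algebra.smul_def, map_mul, TrivSqZeroExt.snd_mul, hr, TrivSqZeroExt.fst_inl,
          TrivSqZeroExt.snd_inl, smul_zero, add_zero, algebraMap_smul] }
    fun a b => by
      change (G (a * b)).snd = a • (G b).snd + b • (G a).snd
      rw [map_mul, TrivSqZeroExt.snd_mul, hGfst, hGfst, op_smul_eq_smul]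
  haveI : IsAdicComplete (maximalIdeal C) N := Compl.isAdicComplete_of_finite _ _
  let h₁ : AdicCompletion (maximalIdeal C) Ω[C⁄k'] →ₗ[C] N :=
    (AdicCompletion.ofLinearEquiv (maximalIdeal C) N).symm.toLinearMap ∘ₗ
      (AdicCompletion.map (maximalIdeal C) δ.liftKaehlerDifferential).restrictScalars C
  have h₁D : ∀ a, h₁ (AdicCompletion.of _ _ (D k' C (algebraMap A C a))) = d₀ a := fun a => by
    rw [LinearMap.comp_apply, LinearMap.coe_restrictScalars, AdicCompletion.map_of, LinearEquiv.coe_coe,
      AdicCompletion.ofLinearEquiv_symm_of, Derivation.liftKaehlerDifferential_comp_D]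
    change (G (algebraMap A C a)).snd = _
    rw [IsScalarTower.algebraMap_apply A (CT k A k') C]
    change (G (ι (algebraMap (A ⊗[k] k') (CT k A k') (a ⊗ₜ 1)))).snd = _
    rw [hGι, hLof, Algebra.TensorProduct.lift_tmul, map_one, mul_one]
    change (TrivSqZeroExt.inl (algebraMap A C a) + TrivSqZeroExt.inr (d₀ a)).snd = _
    simp
  have hsurj : Function.Surjective h₁ := by
    rw [← LinearMap.range_eq_top, eq_top_iff]
    intro z hz
    clear hz
    induction z using TensorProduct.induction_on with
    | zero => exact zero_mem _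
    | add a b ha hb => exact add_mem ha hb
    | tmul c w =>
      rw [show c ⊗ₜ[A] w = c • ((1 : C) ⊗ₜ[A] w) by rw [smul_tmul', smul_eq_mul, mul_one]]
      refine Submodule.smul_mem _ _ ?_
      have hw : w ∈ Submodule.span A (Set.range fun a => AdicCompletion.of (maximalIdeal A) Ω[A⁄k] (D k A a)) := by
        rw [span_of_D_eq_top k A]; trivial
      induction hw using Submodule.span_induction with
      | mem w hw =>
        obtain ⟨a, rfl⟩ := hw
        exact ⟨_, h₁D a⟩
      | zero => rw [tmul_zero]; exact zero_mem _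
      | add a b _ _ ha hb => rw [tmul_add]; exact add_mem ha hb
      | smul a b _ hb => rw [tmul_smul, ← algebraMap_smul C a]; exact Submodule.smul_mem _ _ hb
  letI : Algebra p.ResidueField P.ResidueField := (Ideal.ResidueField.map p P (algebraMap A C) hPp.symm).toAlgebra
  haveI : IsScalarTower A p.ResidueField P.ResidueField := IsScalarTower.of_algebraMap_eq fun a =>
    (IsScalarTower.algebraMap_apply A C P.ResidueField a).trans
      (Ideal.ResidueField.map_algebraMap p P (algebraMap A C) hPp.symm a).symm
  calc Module.finrank p.ResidueField (p.ResidueField ⊗[A] AdicCompletion (maximalIdeal A) Ω[A⁄k])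
      = Module.finrank P.ResidueField (P.ResidueField ⊗[C] N) := by
        rw [(TensorProduct.AlgebraTensorModule.cancelBaseChange A C P.ResidueField P.ResidueField _).finrank_eq,
          ← (TensorProduct.AlgebraTensorModule.cancelBaseChange A p.ResidueField P.ResidueField P.ResidueField
            (AdicCompletion (maximalIdeal A) Ω[A⁄k])).finrank_eq]
        exact Module.finrank_baseChange.symm
    _ ≤ m := hC ▸ LinearMap.finrank_le_finrank_of_surjective (f := h₁.baseChange P.ResidueField)
        (LinearMap.lTensor_surjective _ hsurj)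
    _ ≤ n := by rw [hm] at hdim; exact_mod_cast hdim

end Groth.Agent.CKaehlerFree3
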