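/-
The rank of the differentials on the closed fibre of a formally smooth local algebra over a field:
`dim (Ω_{A/k} ⊗ K) = dim (𝔪/𝔪²) + trdeg_k K`.
-/
import Groth.Agent.Lib.Exal3.CharHom
import Groth.Agent.Lib.CartierEq3.Field
import Groth.Agent.Lib.AdicSmooth.PrimeField
import Mathlib.LinearAlgebra.TensorProduct.RightExactness
import Mathlib.LinearAlgebra.FiniteDimensional.Lemmas

universe u

open IsLocalRing TensorProduct KaehlerDifferential

namespace Groth.Agent.CKaehlerFree3

section Split

variable {A : Type u} [CommRing A]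

/-- The infinitesimal extension of an ideal with residue ring formally smooth over a base splits. -/
theorem isTrivialOver_int_infinitesimal (P : Type u) [CommRing P] [Algebra P A] (K : Ideal A)
    [Algebra.FormallySmooth P (A ⧸ K)] : (Exal.Ext.infinitesimal K).IsTrivialOver ℤ := by
  obtain ⟨σ, hσ⟩ := Exal3L.isTrivialOver_of_formallySmooth (A := P) (Exal.Ext.infinitesimal K)
  exact ⟨{ toFun := fun c => σ c
           map_one' := map_one σ
           map_mul' := map_mul σ
           map_zero' := map_zero σ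
           map_add' := map_add σ
           commutes' := fun n => by
             rw [eq_intCast (algebraMap ℤ (A ⧸ K))]
             exact (map_intCast σ n).trans (map_intCast _ n).symm }, hσ⟩

theorem eq_zero_of_one_tmul_D_eq_zero (P : Type u) [CommRing P] [Algebra P A] (K : Ideal A)
    [Algebra.FormallySmooth P (A ⧸ K)] (x : A) (hx : x ∈ K)
    (h : (1 : A ⧸ K) ⊗ₜ[A] D ℤ A x = 0) : K.toCotangent ⟨x, hx⟩ = 0 := by
  obtain ⟨S⟩ := Exal3L.nonempty_splitting (isTrivialOver_int_infinitesimal P K)
  obtain ⟨φ, hφ⟩ := Exal3L.exists_phi S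
  rw [← Exal3L.phi_one_tmul_D K S hφ hx, h, map_zero]

end Split

section LinAlg

variable {K V W M U : Type u} [Field K] [AddCommGroup V] [Module K V] [AddCommGroup W] [Module K W]
  [AddCommGroup M] [Module K M] [AddCommGroup U] [Module K U]

/-- A snake: `ι : U ↪ V` with cokernel `p : V → M`, and `π : V ↠ W`. -/
theorem finrank_snake {Q : Type u} [AddCommGroup Q] [Module K Q]
    (ι : U →ₗ[K] V) (p : V →ₗ[K] M) (π : V →ₗ[K] W) (r : W →ₗ[K] Q) (q : M →ₗ[K] Q)
    (hι : Function.Injective ι) (hp : Function.Surjective p) (hex : Function.Exact ι p)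
    (hπ : Function.Surjective π) (hr : Function.Surjective r) (hfr : Function.Exact (π ∘ₗ ι) r)
    (hsq : ∀ v, q (p v) = r (π v))
    [Module.Finite K (LinearMap.ker π)] [Module.Finite K Q] :
    Module.Finite K M ∧ Module.finrank K M + Module.finrank K (LinearMap.ker (π ∘ₗ ι)) =
      Module.finrank K Q + Module.finrank K (LinearMap.ker π) := by
  let t : LinearMap.ker π →ₗ[K] M := p ∘ₗ (LinearMap.ker π).subtype
  have hq : Function.Surjective q := fun y => by
    obtain ⟨w, rfl⟩ := hr y
    obtain ⟨v, rfl⟩ := hπ w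
    exact ⟨p v, hsq v⟩
  have hrange : LinearMap.range t = LinearMap.ker q := by
    refine le_antisymm ?_ fun m hm => ?_
    · rintro _ ⟨⟨v, hv⟩, rfl⟩
      rw [LinearMap.mem_ker, LinearMap.comp_apply, Submodule.subtype_apply, hsq, LinearMap.mem_ker.1 hv, map_zero]
    · obtain ⟨v, rfl⟩ := hp m
      rw [LinearMap.mem_ker, hsq] at hm
      obtain ⟨u, hu⟩ := (hfr _).1 hm
      refine ⟨⟨v - ι u, ?_⟩, ?_⟩
      · rw [LinearMap.mem_ker, map_sub]
        exact sub_eq_zero.2 hu.symm
      · rw [LinearMap.comp_apply, Submodule.subtype_apply, map_sub, hex.apply_apply_eq_zero, sub_zero]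
  let i : LinearMap.ker (π ∘ₗ ι) →ₗ[K] LinearMap.ker π :=
    (ι ∘ₗ (LinearMap.ker (π ∘ₗ ι)).subtype).codRestrict _ fun u => u.2
  have hi : Function.Injective i := fun a b h => Subtype.ext (hι (congrArg Subtype.val h))
  have hker : LinearMap.range i = LinearMap.ker t := by
    refine le_antisymm ?_ fun v hv => ?_
    · rintro _ ⟨u, rfl⟩
      exact hex.apply_apply_eq_zero _
    · obtain ⟨u, hu⟩ := (hex _).1 hv
      exact ⟨⟨u, (congrArg π hu).trans v.2⟩, Subtype.ext hu⟩
  have : Module.Finite K (LinearMap.ker q) := hrange ▸ Module.Finite.range t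
  have hM : Module.Finite K M := by
    constructor
    refine Submodule.fg_of_fg_map_of_fg_inf_ker q ?_ ?_
    · rw [Submodule.map_top, LinearMap.range_eq_top.2 hq]; exact Module.finite_def.1 inferInstance
    · rw [top_inf_eq]; exact Module.Finite.iff_fg.1 inferInstance
  refine ⟨hM, ?_⟩
  have h1 := t.finrank_range_add_finrank_ker
  have h2 := q.finrank_range_add_finrank_ker
  rw [LinearMap.range_eq_top.2 hq, finrank_top] at h2
  rw [hrange, ← hker, LinearMap.finrank_range_of_inj hi] at h1
  omega

end LinAlg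

variable {k A : Type u} [Field k] [CommRing A] [IsLocalRing A] [IsNoetherianRing A] [Algebra k A]

theorem lTensor_map_mul (R : Type*) [CommRing R] [Algebra R k] [Algebra R A] [IsScalarTower R k A] :
    Function.Exact (((mapBaseChange R k A).baseChange (ResidueField A)))
      (((KaehlerDifferential.map R k A A).baseChange (ResidueField A))) :=
  lTensor_exact _ (exact_mapBaseChange_map R k A) (KaehlerDifferential.map_surjective R k A)

theorem finrank_tensor_kaehler
    (hfs : CAlgX.IsAdicFormallySmooth k A (maximalIdeal A)) [Algebra.EssFiniteType k (ResidueField A)] :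
    Module.Finite (ResidueField A) (ResidueField A ⊗[A] Ω[A⁄k]) ∧
      Module.finrank (ResidueField A) (ResidueField A ⊗[A] Ω[A⁄k]) =
        Module.finrank (ResidueField A) (CotangentSpace A) + Cardinal.toNat (Algebra.trdeg k (ResidueField A)) := by
  obtain ⟨hΩ, hU, hcart⟩ := CartierEq3.cartier_equality k (ResidueField A)
  haveI := PrimeField.perfectField_bot k
  haveI hsmooth : Algebra.FormallySmooth (⊥ : Subfield k) (A ⧸ maximalIdeal A) :=
    FieldFS.formallySmooth_of_perfectField (⊥ : Subfield k) (ResidueField A)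
  let cbc := (TensorProduct.AlgebraTensorModule.cancelBaseChange k A (ResidueField A) (ResidueField A) Ω[k⁄ℤ]).symm
  let ι : ResidueField A ⊗[k] Ω[k⁄ℤ] →ₗ[ResidueField A] ResidueField A ⊗[A] Ω[A⁄ℤ] :=
    (mapBaseChange ℤ k A).baseChange (ResidueField A) ∘ₗ cbc.toLinearMap
  let p : ResidueField A ⊗[A] Ω[A⁄ℤ] →ₗ[ResidueField A] ResidueField A ⊗[A] Ω[A⁄k] :=
    (KaehlerDifferential.map ℤ k A A).baseChange (ResidueField A)
  let π := mapBaseChange ℤ A (ResidueField A)
  let r := KaehlerDifferential.map ℤ k (ResidueField A) (ResidueField A)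
  let q := mapBaseChange k A (ResidueField A)
  have hι : Function.Injective ι :=
    (AdicSmooth.injective_lTensor_mapBaseChange (R := ℤ) (maximalIdeal A) hfs).comp cbc.injective
  have hex : Function.Exact ι p := fun y => by
    refine (lTensor_map_mul ℤ y).trans ⟨fun ⟨x, hx⟩ => ⟨cbc.symm x, ?_⟩, fun ⟨x, hx⟩ => ⟨cbc x, hx⟩⟩
    change (mapBaseChange ℤ k A).baseChange (ResidueField A) (cbc (cbc.symm x)) = y
    rw [LinearEquiv.apply_symm_apply, hx]
  have hp : Function.Surjective p := LinearMap.lTensor_surjective _ (KaehlerDifferential.map_surjective ℤ k A)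
  have hres : Function.Surjective (algebraMap A (ResidueField A)) := residue_surjective
  have hf : π ∘ₗ ι = mapBaseChange ℤ k (ResidueField A) := by
    refine LinearMap.ext fun z => ?_
    induction z using Exal3L.tensor_kaehler_induction with
    | h0 => rw [map_zero, map_zero]
    | hadd x y hx hy => rw [map_add, map_add, hx, hy]
    | h c b =>
      change π ((mapBaseChange ℤ k A).baseChange (ResidueField A) (cbc (c ⊗ₜ D ℤ k b))) = _
      rw [show cbc (c ⊗ₜ D ℤ k b) = c ⊗ₜ[A] ((1 : A) ⊗ₜ[k] D ℤ k b) from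
          TensorProduct.AlgebraTensorModule.cancelBaseChange_symm_tmul _ _ _ _ _,
        LinearMap.baseChange_tmul]
      simp only [π, mapBaseChange_tmul, map_D, one_smul]
      rw [← IsScalarTower.algebraMap_apply]
  have hsq : ∀ v, q (p v) = r (π v) := fun v => by
    induction v using Exal3L.tensor_kaehler_induction with
    | h0 => simp only [map_zero]
    | hadd x y hx hy => simp only [map_add, hx, hy]
    | h c b =>
      change mapBaseChange k A (ResidueField A) ((KaehlerDifferential.map ℤ k A A).baseChange (ResidueField A)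
        (c ⊗ₜ D ℤ A b)) = KaehlerDifferential.map ℤ k (ResidueField A) (ResidueField A)
          (mapBaseChange ℤ A (ResidueField A) (c ⊗ₜ D ℤ A b))
      rw [LinearMap.baseChange_tmul, map_D, mapBaseChange_tmul, mapBaseChange_tmul, map_D, map_D, map_smul, map_D,
        Algebra.algebraMap_self_apply, Algebra.algebraMap_self_apply]
  -- the kernel of `π` is the cotangent space
  let δ0 : maximalIdeal A →ₗ[A] ResidueField A ⊗[A] Ω[A⁄ℤ] :=
    { toFun := fun x => (1 : ResidueField A) ⊗ₜ[A] D ℤ A (x : A)
      map_add' := fun x y => by rw [Submodule.coe_add, map_add, TensorProduct.tmul_add]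
      map_smul' := fun a x => by
        rw [RingHom.id_apply, Submodule.coe_smul, smul_eq_mul, Derivation.leibniz, TensorProduct.tmul_add,
          TensorProduct.tmul_smul, add_eq_left, ← TensorProduct.smul_tmul, Algebra.smul_def, mul_one,
          ResidueField.algebraMap_eq, (residue_eq_zero_iff (x : A)).2 x.2, TensorProduct.zero_tmul] }
  let δ : (maximalIdeal A).Cotangent →ₗ[A] ResidueField A ⊗[A] Ω[A⁄ℤ] :=
    Submodule.liftQ _ δ0 (by
      rw [Submodule.smul_le]
      intro a ha x _
      rw [LinearMap.mem_ker, map_smul, ← algebraMap_smul (ResidueField A) a, ResidueField.algebraMap_eq,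
        (residue_eq_zero_iff a).2 ha, zero_smul])
  have hδ : ∀ x : maximalIdeal A, δ ((maximalIdeal A).toCotangent x) = 1 ⊗ₜ D ℤ A (x : A) := fun x => rfl
  let δ' : CotangentSpace A →ₗ[ResidueField A] ResidueField A ⊗[A] Ω[A⁄ℤ] :=
    LinearMap.extendScalarsOfSurjective hres δ
  have hδinj : Function.Injective δ' := by
    refine (injective_iff_map_eq_zero _).2 fun y hy => ?_
    obtain ⟨x, rfl⟩ := Ideal.toCotangent_surjective _ y
    exact eq_zero_of_one_tmul_D_eq_zero (⊥ : Subfield k) (maximalIdeal A) (x : A) x.2 hy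
  have hδrange : LinearMap.range δ' = LinearMap.ker π := by
    refine le_antisymm ?_ fun z hz => ?_
    · rintro _ ⟨y, rfl⟩
      obtain ⟨x, rfl⟩ := Ideal.toCotangent_surjective _ y
      change mapBaseChange ℤ A (ResidueField A) ((1 : ResidueField A) ⊗ₜ D ℤ A (x : A)) = 0
      rw [mapBaseChange_tmul, map_D, ResidueField.algebraMap_eq, (residue_eq_zero_iff (x : A)).2 x.2, map_zero,
        smul_zero]
    · have hz' : z ∈ EGA41.imperfection ℤ A (A ⧸ maximalIdeal A) := hz
      obtain ⟨x, hx, rfl⟩ := Exal3L.exists_one_tmul_D_eq (maximalIdeal A) hz'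
      exact ⟨(maximalIdeal A).toCotangent ⟨x, hx⟩, rfl⟩
  let eπ : CotangentSpace A ≃ₗ[ResidueField A] LinearMap.ker π :=
    (LinearEquiv.ofInjective δ' hδinj).trans (LinearEquiv.ofEq _ _ hδrange)
  haveI := Module.Finite.equiv eπ
  have hπ : Function.Surjective π := KaehlerDifferential.mapBaseChange_surjective ℤ A _ hres
  obtain ⟨hfin, hdim⟩ := finrank_snake ι p π r q hι hp hex hπ
    (KaehlerDifferential.map_surjective ℤ k (ResidueField A))
    (by rw [hf]; exact exact_mapBaseChange_map ℤ k (ResidueField A)) hsq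
  refine ⟨hfin, ?_⟩
  rw [hf, ← eπ.finrank_eq] at hdim
  have hc : Module.finrank (ResidueField A) (LinearMap.ker (mapBaseChange ℤ k (ResidueField A))) =
      Module.finrank (ResidueField A) (EGA41.imperfection ℤ k (ResidueField A)) := rfl
  rw [hc] at hdim
  have e : ∀ a b c d e : ℕ, a + b = c + d → (c : ℤ) - b = e → a = d + e := by omega
  exact e _ _ _ _ _ hdim hcart

end Groth.Agent.CKaehlerFree3
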