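import Groth.Agent.Lib.CKaehlerFree3.Rank
import Groth.Agent.Lib.CKaehlerFree3.FracCount
import Groth.Agent.Lib.CKaehlerFree3.Unram
import Groth.Agent.Lib.HartConn6.Codim
import Groth.Agent.Lib.FibDepth5.GeomRkOpenApps
import Groth.Agent.Lib.UCat.Universal
import Groth.Agent.Lib.Compl.Noetherian

/-!
Completed differentials at a prime with regular local ring.
-/

set_option autoImplicit false
set_option linter.style.haveILetI false

universe u

open IsLocalRing TensorProduct KaehlerDifferential

namespace Groth.Agent.CKaehlerFree3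

section Formula

variable {k A : Type u} [Field k] [CommRing A] [IsLocalRing A] [IsNoetherianRing A] [Algebra k A]

theorem finrank_tensor_kaehler_of_finite
    (hfs : CAlgX.IsAdicFormallySmooth k A (maximalIdeal A)) [Module.Finite (ResidueField A) Ω[ResidueField A⁄k]] :
    Module.Finite (ResidueField A) (ResidueField A ⊗[A] Ω[A⁄k]) ∧
      Module.finrank (ResidueField A) (ResidueField A ⊗[A] Ω[A⁄k]) +
        Module.finrank (ResidueField A) (LinearMap.ker (mapBaseChange ℤ k (ResidueField A))) =
      Module.finrank (ResidueField A) Ω[ResidueField A⁄k] + Module.finrank (ResidueField A) (CotangentSpace A) := by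
  haveI := PrimeField.perfectField_bot k
  haveI hsmooth : Algebra.FormallySmooth (⊥ : Subfield k) (A ⧸ maximalIdeal A) :=
    FieldFS.formallySmooth_of_perfectField (⊥ : Subfield k) (ResidueField A)
  let cbc := (TensorProduct.AlgebraTensorModule.cancelBaseChange k A (ResidueField A) (ResidueField A) Ω[k⁄ℤ]).symm
  let ι : ResidueField A ⊗[k] Ω[k⁄ℤ] →ₗ[ResidueField A] ResidueField A ⊗[A] Ω[A⁄ℤ] :=
    (mapBaseChange ℤ k A).baseChange (ResidueField A) ∘ₗ cbc.toLinearMap
  let p : ResidueField A ⊗[A] Ω[A⁄ℤ] →ₗ[ResidueField A] ResidueField A ⊗[A] Ω[A⁄k] :=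
    (KaehlerDifferential.map ℤ k A A).baseChange (ResidueField A)
  let π := mapBaseChange ℤ A (ResidueField A)
  let r := KaehlerDifferential.map ℤ k (ResidueField A) (ResidueField A)
  let q := mapBaseChange k A (ResidueField A)
  have hι : Function.Injective ι :=
    (AdicSmooth.injective_lTensor_mapBaseChange (R := ℤ) (maximalIdeal A) hfs).comp cbc.injective
  have hex : Function.Exact ι p := fun y => by
    refine (lTensor_map_mul ℤ y).trans ⟨fun ⟨x, hx⟩ => ⟨cbc.symm x, ?_⟩, fun ⟨x, hx⟩ => ⟨cbc x, hx⟩⟩
    change (mapBaseChange ℤ k A).baseChange (ResidueField A) (cbc (cbc.symm x)) = y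
    rw [LinearEquiv.apply_symm_apply, hx]
  have hp : Function.Surjective p := LinearMap.lTensor_surjective _ (KaehlerDifferential.map_surjective ℤ k A)
  have hres : Function.Surjective (algebraMap A (ResidueField A)) := residue_surjective
  have hf : π ∘ₗ ι = mapBaseChange ℤ k (ResidueField A) := by
    refine LinearMap.ext fun z => ?_
    induction z using Exal3L.tensor_kaehler_induction with
    | h0 => rw [map_zero, map_zero]
    | hadd x y hx hy => rw [map_add, map_add, hx, hy]
    | h c b =>
      change π ((mapBaseChange ℤ k A).baseChange (ResidueField A) (cbc (c ⊗ₜ D ℤ k b))) = _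
      rw [show cbc (c ⊗ₜ D ℤ k b) = c ⊗ₜ[A] ((1 : A) ⊗ₜ[k] D ℤ k b) from
          TensorProduct.AlgebraTensorModule.cancelBaseChange_symm_tmul _ _ _ _ _,
        LinearMap.baseChange_tmul]
      simp only [π, mapBaseChange_tmul, map_D, one_smul]
      rw [← IsScalarTower.algebraMap_apply]
  have hsq : ∀ v, q (p v) = r (π v) := fun v => by
    induction v using Exal3L.tensor_kaehler_induction with
    | h0 => simp only [map_zero]
    | hadd x y hx hy => simp only [map_add, hx, hy]
    | h c b =>
      change mapBaseChange k A (ResidueField A) ((KaehlerDifferential.map ℤ k A A).baseChange (ResidueField A)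
        (c ⊗ₜ D ℤ A b)) = KaehlerDifferential.map ℤ k (ResidueField A) (ResidueField A)
          (mapBaseChange ℤ A (ResidueField A) (c ⊗ₜ D ℤ A b))
      rw [LinearMap.baseChange_tmul, map_D, mapBaseChange_tmul, mapBaseChange_tmul, map_D, map_D, map_smul, map_D,
        Algebra.algebraMap_self_apply, Algebra.algebraMap_self_apply]
  -- the kernel of `π` is the cotangent space
  let δ0 : maximalIdeal A →ₗ[A] ResidueField A ⊗[A] Ω[A⁄ℤ] :=
    { toFun := fun x => (1 : ResidueField A) ⊗ₜ[A] D ℤ A (x : A)
      map_add' := fun x y => by rw [Submodule.coe_add, map_add, TensorProduct.tmul_add]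
      map_smul' := fun a x => by
        rw [RingHom.id_apply, Submodule.coe_smul, smul_eq_mul, Derivation.leibniz, TensorProduct.tmul_add,
          TensorProduct.tmul_smul, add_eq_left, ← TensorProduct.smul_tmul, Algebra.smul_def, mul_one,
          ResidueField.algebraMap_eq, (residue_eq_zero_iff (x : A)).2 x.2, TensorProduct.zero_tmul] }
  let δ : (maximalIdeal A).Cotangent →ₗ[A] ResidueField A ⊗[A] Ω[A⁄ℤ] :=
    Submodule.liftQ _ δ0 (by
      rw [Submodule.smul_le]
      intro a ha x _
      rw [LinearMap.mem_ker, map_smul, ← algebraMap_smul (ResidueField A) a, ResidueField.algebraMap_eq,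
        (residue_eq_zero_iff a).2 ha, zero_smul])
  have hδ : ∀ x : maximalIdeal A, δ ((maximalIdeal A).toCotangent x) = 1 ⊗ₜ D ℤ A (x : A) := fun x => rfl
  let δ' : CotangentSpace A →ₗ[ResidueField A] ResidueField A ⊗[A] Ω[A⁄ℤ] :=
    LinearMap.extendScalarsOfSurjective hres δ
  have hδinj : Function.Injective δ' := by
    refine (injective_iff_map_eq_zero _).2 fun y hy => ?_
    obtain ⟨x, rfl⟩ := Ideal.toCotangent_surjective _ y
    exact eq_zero_of_one_tmul_D_eq_zero (⊥ : Subfield k) (maximalIdeal A) (x : A) x.2 hy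
  have hδrange : LinearMap.range δ' = LinearMap.ker π := by
    refine le_antisymm ?_ fun z hz => ?_
    · rintro _ ⟨y, rfl⟩
      obtain ⟨x, rfl⟩ := Ideal.toCotangent_surjective _ y
      change mapBaseChange ℤ A (ResidueField A) ((1 : ResidueField A) ⊗ₜ D ℤ A (x : A)) = 0
      rw [mapBaseChange_tmul, map_D, ResidueField.algebraMap_eq, (residue_eq_zero_iff (x : A)).2 x.2, map_zero,
        smul_zero]
    · have hz' : z ∈ EGA41.imperfection ℤ A (A ⧸ maximalIdeal A) := hz
      obtain ⟨x, hx, rfl⟩ := Exal3L.exists_one_tmul_D_eq (maximalIdeal A) hz'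
      exact ⟨(maximalIdeal A).toCotangent ⟨x, hx⟩, rfl⟩
  let eπ : CotangentSpace A ≃ₗ[ResidueField A] LinearMap.ker π :=
    (LinearEquiv.ofInjective δ' hδinj).trans (LinearEquiv.ofEq _ _ hδrange)
  haveI := Module.Finite.equiv eπ
  have hπ : Function.Surjective π := KaehlerDifferential.mapBaseChange_surjective ℤ A _ hres
  obtain ⟨hfin, hdim⟩ := finrank_snake ι p π r q hι hp hex hπ
    (KaehlerDifferential.map_surjective ℤ k (ResidueField A))
    (by rw [hf]; exact exact_mapBaseChange_map ℤ k (ResidueField A)) hsq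
  refine ⟨hfin, ?_⟩
  rw [hf, ← eπ.finrank_eq] at hdim
  exact hdim

end Formula

section Dim

variable {A : Type u} [CommRing A] [IsLocalRing A] [IsNoetherianRing A]

theorem isAdicComplete_quotient [IsAdicComplete (maximalIdeal A) A] (P : Ideal A) [P.IsPrime]
    [IsLocalRing (A ⧸ P)] : IsAdicComplete (maximalIdeal (A ⧸ P)) (A ⧸ P) := by
  have hm : (maximalIdeal A).map (algebraMap A (A ⧸ P)) = maximalIdeal (A ⧸ P) :=
    IsLocalRing.map_maximalIdeal_of_surjective _ Ideal.Quotient.mk_surjective
  haveI hc : IsAdicComplete (maximalIdeal A) (A ⧸ P) := Compl.isAdicComplete_of_finite _ _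
  rw [← hm]
  exact (IsAdicComplete.map_algebraMap_iff _ _).2 hc

theorem eq_of_minimalPrimes_le (P : Ideal A) [P.IsPrime] [IsDomain (Localization.AtPrime P)] (q q' : Ideal A)
    (hq : q ∈ minimalPrimes A) (hqP : q ≤ P) (hq' : q' ∈ minimalPrimes A) (hq'P : q' ≤ P) : q' = q := by
  have key : ∀ r ∈ minimalPrimes A, r ≤ P → r = RingHom.ker (algebraMap A (Localization.AtPrime P)) := by
    intro r hr hrP
    have hle : RingHom.ker (algebraMap A (Localization.AtPrime P)) ≤ r := fun a ha => by
      obtain ⟨c, hc⟩ := (IsLocalization.map_eq_zero_iff P.primeCompl _ a).1 ha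
      haveI := hr.1.1
      exact ((inferInstance : r.IsPrime).mem_or_mem (hc ▸ r.zero_mem)).resolve_left fun h => c.2 (hrP h)
    exact le_antisymm (hr.2 ⟨RingHom.ker_isPrime _, bot_le⟩ hle) hle
  rw [key q hq hqP, key q' hq' hq'P]

/-- `dim A_P + dim A/P = dim A/q` in a complete local ring, for a domain `A_P`. -/
theorem height_add_ringKrullDim_quotient [IsAdicComplete (maximalIdeal A) A] (P : Ideal A) [P.IsPrime]
    [IsDomain (Localization.AtPrime P)] (q : Ideal A) (hq : q ∈ minimalPrimes A) (hqP : q ≤ P) :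
    ringKrullDim (Localization.AtPrime P) + ringKrullDim (A ⧸ P) = ringKrullDim (A ⧸ q) := by
  haveI : q.IsPrime := hq.1.1
  haveI : Nontrivial (A ⧸ q) := Ideal.Quotient.nontrivial_iff.2 Ideal.IsPrime.ne_top'
  haveI : IsLocalRing (A ⧸ q) := IsLocalRing.of_surjective' _ Ideal.Quotient.mk_surjective
  haveI : IsAdicComplete (maximalIdeal (A ⧸ q)) (A ⧸ q) := isAdicComplete_quotient q
  let P' : PrimeSpectrum (A ⧸ q) := ⟨P.map (Ideal.Quotient.mk q),
    Ideal.map_isPrime_of_surjective Ideal.Quotient.mk_surjective (by rwa [Ideal.mk_ker])⟩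
  have hc : ∀ r : Ideal A, q ≤ r → (r.map (Ideal.Quotient.mk q)).comap (Ideal.Quotient.mk q) = r := fun r hr => by
    rw [Ideal.comap_map_of_surjective _ Ideal.Quotient.mk_surjective, ← RingHom.ker_eq_comap_bot, Ideal.mk_ker,
      sup_eq_left.2 hr]
  have hmono : StrictMono (PrimeSpectrum.comap (Ideal.Quotient.mk q)) :=
    Monotone.strictMono_of_injective (fun x y h => Ideal.comap_mono h)
      (PrimeSpectrum.comap_injective_of_surjective _ Ideal.Quotient.mk_surjective)
  have hcP : PrimeSpectrum.comap (Ideal.Quotient.mk q) P' = ⟨P, inferInstance⟩ := PrimeSpectrum.ext (hc P hqP)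
  have hh : Order.height P' = Order.height (⟨P, inferInstance⟩ : PrimeSpectrum A) := by
    refine le_antisymm ?_ (Order.height_le fun s hs => ?_)
    · rw [← hcP]
      exact Order.height_le_height_apply_of_strictMono _ hmono P'
    · have hge : ∀ i, q ≤ (s i).asIdeal := fun i => by
        obtain ⟨r, hr, hrs⟩ := Ideal.exists_minimalPrimes_le (bot_le : (⊥ : Ideal A) ≤ (s i).asIdeal)
        have hle : (s i).asIdeal ≤ P := by
          have h1 : s i ≤ s.last := s.strictMono.monotone (Fin.le_last i)
          rw [hs] at h1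
          exact h1
        rw [← eq_of_minimalPrimes_le P q r hq hqP hr (hrs.trans hle)]
        exact hrs
      let t : LTSeries (PrimeSpectrum (A ⧸ q)) :=
        { length := s.length
          toFun := fun i => ⟨(s i).asIdeal.map (Ideal.Quotient.mk q),
            Ideal.map_isPrime_of_surjective Ideal.Quotient.mk_surjective (by rw [Ideal.mk_ker]; exact hge i)⟩
          step := fun i => lt_of_le_of_ne (Ideal.map_mono (s.step i).le) fun e => (s.step i).ne
            (PrimeSpectrum.ext (by
              rw [← hc _ (hge i.castSucc), ← hc _ (hge i.succ)]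
              exact congrArg (Ideal.comap (Ideal.Quotient.mk q)) e)) }
      have ht : t.last = P' := PrimeSpectrum.ext (congrArg (fun x : PrimeSpectrum A =>
        x.asIdeal.map (Ideal.Quotient.mk q)) hs)
      exact ht ▸ Order.length_le_height_last (p := t)
  have hfin : Order.height P' ≠ ⊤ := by
    rw [hh, ← PrimeSpectrum.height_eq_orderHeight]
    exact P.height_ne_top Ideal.IsPrime.ne_top'
  obtain ⟨m, hm⟩ := ENat.ne_top_iff_exists.1 hfin
  have h := HartConn6.height_add_coheight (FibDepth5.isEquidim_of_isDomain (A ⧸ q))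
    ((UCat.isUniversallyCatenary_of_complete (A ⧸ q)).2 (A ⧸ q) inferInstance) m P' hm.symm
  have hco : ((Order.coheight P' : ℕ∞) : WithBot ℕ∞) = ringKrullDim (A ⧸ P) := by
    rw [← ringKrullDim_eq_of_ringEquiv (DoubleQuot.quotQuotEquivQuotOfLE hqP), ringKrullDim_quotient,
      show PrimeSpectrum.zeroLocus ((P.map (Ideal.Quotient.mk q) : Ideal (A ⧸ q)) : Set (A ⧸ q)) = Set.Ici P' from
        Set.ext fun _ => Iff.rfl]
    exact Order.coheight_eq_krullDim_Ici (x := P')
  rw [IsLocalization.AtPrime.ringKrullDim_eq_height P, show P.height = _ from PrimeSpectrum.height_eq_orderHeight ⟨P, inferInstance⟩, ← hh, ← hco, ← h]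
  push_cast
  rfl

end Dim

end Groth.Agent.CKaehlerFree3
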